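import Cfsg.Agent.OddHalf.NI3.FThree.Quat
import Cfsg.Agent.OddHalf.NI.FTwo.Levi
import Cfsg.Agent.OddHalf.NI3.Step
import Cfsg.Agent.OddHalf.NI.FTwo.ZNe
import Cfsg.Agent.Nodes.ChartFrame

-- merged: Cfsg.Agent.OddHalf.NI3.FThree.A
section

/-!
# (F2'₃): the subnormal subgroup `J ≅ SL₂(3)` of `C(z r)` commutes with the `KK Z s`, `s ∈ R` orthogonal to `r`

`St cs h p T X R Z z r J j` : the setting. `St.KK_comm`.
-/

set_option autoImplicit false
set_option linter.unusedSectionVars false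
set_option linter.dupNamespace false

namespace Cfsg.Agent.OddHalf.NI3.FThree

open Cfsg
open CoxeterSystem Cfsg.Agent.ChevalleyStructure.CoxeterGeom Cfsg.Agent.Tits.Roots Cfsg.Agent.Tits.Core
  Cfsg.Agent.Tits.RootComb Cfsg.Agent.Nodes.Comb Cfsg.Agent.Nodes.Reps Cfsg.Agent.Nodes.BNOf
  Cfsg.Agent.Nodes.RGDLib Cfsg.Agent.Nodes.Chart Cfsg.Agent.Nodes.Coroot Cfsg.Agent.Nodes.FreeTorus
  Cfsg.Agent.Nodes.SubComb Cfsg.Agent.Nodes.Bruhat Cfsg.Agent.Nodes.StabComb Cfsg.Agent.Nodes.Perp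
  Cfsg.Agent.Nodes.Sub Cfsg.Agent.Nodes.ClsSub
open Cfsg.Agent.OddHalf.NI.FTwo (commute_cj mem_of_sq_mem)

variable {I W Y : Type*} [Fintype I] [DecidableEq I] [Group W] [Fintype W] [Group Y] {M : CoxeterMatrix I}
  {cs : CoxeterSystem M W} {A : I → I → ℤ} {h : IsCartan M A} {p : ℕ} {T : Subgroup Y} {n : I → Y}
  {X : (I → ℤ) → Subgroup Y} {R : Set (I → ℤ)} {Z : (I → ℤ) → Subgroup Y} {z : (I → ℤ) → Y}
  {J : Subgroup Y} {j : Y} {r : I → ℤ}

/-- The setting of (F2'₃): `J ≅ SL₂(3)`, with the central involution `j`, subnormal in `C(z r)`, commuting with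
`KK Z r`, `O₂(J) ≤ GG`. -/
structure St (cs : CoxeterSystem M W) {A : I → I → ℤ} (h : IsCartan M A) (p : ℕ) (T : Subgroup Y)
    (X : (I → ℤ) → Subgroup Y) (R : Set (I → ℤ)) (Z : (I → ℤ) → Subgroup Y) (z : (I → ℤ) → Y) (r : I → ℤ)
    (J : Subgroup Y) (j : Y) : Prop where
  prime : p.Prime
  odd : p ≠ 2
  mem : r ∈ R
  trans : ∀ s ∈ R, ∃ w, s = rep cs h w r
  core : pPrimeCore 2 ↥(Subgroup.centralizer ({z r} : Set Y)) = ⊥
  pr : IsPr J j
  sn : Sn J (Subgroup.centralizer ({z r} : Set Y))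
  comm : ∀ x ∈ J, ∀ y ∈ KK Z r, x * y = y * x
  jc : ∀ y : Y, y * j = j * y
  cl : ∀ s ∈ R, Cl (z s) (KK Z s)
  ge : QQ J j ≤ GG cs h T X
  norm : Subgroup.centralizer ({z r} : Set Y) ≤ Subgroup.normalizer (GG cs h T X : Set Y)
  nc : ¬ ∀ g ∈ GG cs h T X, z r * g = g * z r
  gen : GG cs h T X = G1 cs h X

theorem mem_cent {a b : Y} : a ∈ Subgroup.centralizer ({b} : Set Y) ↔ a * b = b * a :=
  Subgroup.mem_centralizer_singleton_iff

namespace St

theorem zr_comm (C : Cls cs h p T n X R Z z) (S : St cs h p T X R Z z r J j) {y : I → ℤ} (hy : IsRoot cs h y)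
    (h0 : form cs h y r = 0) : X y ≤ Subgroup.centralizer ({z r} : Set Y) := fun x hx =>
  mem_cent.2 (X_cm_KK C S.mem hy h0 x hx _ (C.z_mem r S.mem))

theorem KK_le_cent (C : Cls cs h p T n X R Z z) (S : St cs h p T X R Z z r J j) {s : I → ℤ} (hs : s ∈ R)
    (h0 : form cs h s r = 0) : KK Z s ≤ Subgroup.centralizer ({z r} : Set Y) := by
  refine (KK_le_LL C hs).trans (sup_le (S.zr_comm C (C.root s hs) h0)
    (S.zr_comm C (C.root s hs).neg (by rw [form_neg_left, h0, neg_zero])))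

theorem KK_le_GG (C : Cls cs h p T n X R Z z) {s : I → ℤ} (hs : s ∈ R) : KK Z s ≤ GG cs h T X :=
  sup_le ((C.le s hs).trans (X_le_GG (C.root s hs)))
    ((C.le _ (Nodes.Perp.neg_mem C hs)).trans (X_le_GG (C.root s hs).neg))

/-- conjugation by an element commuting with `KK Z r` -/
theorem cj (C : Cls cs h p T n X R Z z) (S : St cs h p T X R Z z r J j) {g : Y} (hg : g ∈ GG cs h T X)
    (hgr : ∀ y ∈ KK Z r, g * y = y * g) : St cs h p T X R Z z r (Nodes.Reps.cj g J) j := by
  have hgz : g ∈ Subgroup.centralizer ({z r} : Set Y) := mem_cent.2 (hgr _ (C.z_mem r S.mem))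
  have hj : g * j * g⁻¹ = j := by rw [S.jc g]; group
  refine { S with pr := ?_, sn := ?_, comm := ?_, ge := ?_ }
  · have h1 := S.pr.cj g
    rw [hj] at h1
    exact h1
  · have h1 := S.sn.cj g
    have h2 : Cit.cj g (Subgroup.centralizer ({z r} : Set Y)) = Subgroup.centralizer ({z r} : Set Y) :=
      Cit.mem_normalizer_iff_cj.1 (Subgroup.le_normalizer hgz)
    rw [h2] at h1
    exact h1
  · intro x hx y hy
    rw [mem_cj] at hx
    have h1 : g⁻¹ * y * g = y := by
      rw [mul_assoc, ← hgr y hy]; group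
    have h2 := S.comm _ hx y hy
    calc x * y = g * ((g⁻¹ * x * g) * (g⁻¹ * y * g)) * g⁻¹ := by group
      _ = g * ((g⁻¹ * x * g) * y) * g⁻¹ := by rw [h1]
      _ = g * (y * (g⁻¹ * x * g)) * g⁻¹ := by rw [h2]
      _ = (g * y) * g⁻¹ * x := by group
      _ = (y * g) * g⁻¹ * x := by rw [hgr y hy]
      _ = y * x := by group
  · have h1 : QQ (Cit.cj g J) j = Cit.cj g (QQ J j) := QQ_cj (S.jc g)
    change QQ (Cit.cj g J) j ≤ _
    rw [h1]
    rintro _ ⟨y, hy, rfl⟩
    exact mul_mem (mul_mem hg (S.ge hy)) (inv_mem hg)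

/-- the case `z s ∉ O₂(C(z r))` -/
theorem comm_of_notMem [Finite Y] (C : Cls cs h p T n X R Z z) (S : St cs h p T X R Z z r J j) {s : I → ℤ}
    (hs : s ∈ R) (h0 : form cs h s r = 0) (hP : z s ∉ P2 (Subgroup.centralizer ({z r} : Set Y))) :
    ∀ x ∈ QQ J j, ∀ y ∈ KK Z s, x * y = y * x := by
  have : Fact (Nat.Prime 2) := ⟨Nat.prime_two⟩
  have hcl := S.cl s hs
  have hKC := S.KK_le_cent C hs h0
  set P := P2 (Subgroup.centralizer ({z r} : Set Y)) with hPdef
  have hPp : IsPGroup 2 P := P2_pgrp _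
  have hnP : KK Z s ≤ Subgroup.normalizer (P : Set Y) := hKC.trans (le_normalizer_P2 _)
  have hKz : KK Z s ≤ Subgroup.centralizer ({z s} : Set Y) := hcl.sn.1
  -- the elements of order 3 centralise `C_P(z s)`
  have key : ∀ v ∈ KK Z s, v * v * v = 1 → ∀ w ∈ P, w * z s = z s * w → v * w = w * v := by
    intro v hv h3 w hw hws
    refine T3.comm_of_sn (P := P ⊓ Subgroup.centralizer ({z s} : Set Y)) hcl.pr.t3 hcl.sn inf_le_right
      (hPp.to_le inf_le_left) ?_ ?_ hv h3 ⟨hw, mem_cent.2 hws⟩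
    · refine (le_inf hnP (hKz.trans ?_)).trans Subgroup.inf_normalizer_le_normalizer_inf
      exact Subgroup.le_normalizer
    · intro h4
      obtain ⟨a, ha, -, -, haz, -, -⟩ := hcl.pr.t3.ex4
      apply hP
      have h5 := (h4 a ha haz).1
      rw [← haz]
      exact mul_mem h5 h5
  -- Thompson
  have key2 : KK Z s ≤ Subgroup.centralizer (P : Set Y) := by
    refine hcl.pr.le_of_cube fun v hv h3 => ?_
    have h4 := Lib.ThompsonPQ.thompson_p_times_q 2 (Subgroup.zpowers (z s)) (Subgroup.zpowers v) P ?_ ?_ hPp ?_ ?_ ?_ ?_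
    · exact h4 (Subgroup.mem_zpowers v)
    · refine IsPGroup.of_card (n := 1) ?_
      rw [Nat.card_zpowers, hcl.pr.ord, pow_one]
    · rw [Nat.card_zpowers]
      exact (Nat.coprime_two_right.2 (odd_of_cube h3))
    · rw [Subgroup.zpowers_le, Subgroup.mem_centralizer_iff]
      rintro _ ⟨k, rfl⟩
      exact (Commute.zpow_left (hcl.pr.comm_z hv) k)
    · rw [Subgroup.zpowers_le]
      exact hnP hcl.pr.mem
    · rw [Subgroup.zpowers_le]
      exact hnP hv
    · rintro w ⟨hw, hwz⟩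
      rw [Subgroup.mem_centralizer_iff]
      rintro _ ⟨k, rfl⟩
      have h5 := Subgroup.mem_centralizer_iff.1 hwz (z s) (Subgroup.mem_zpowers _)
      exact (Commute.zpow_left (key v hv h3 w hw h5.symm) k)
  intro x hx y hy
  exact Subgroup.mem_centralizer_iff.1 (key2 hy) x (QQ_le_P2 S.pr S.sn hx)

/-- an element of `O₂(C(z r))` normalising `X y`, `y` orthogonal to `r`, centralises `X y` -/
theorem comm_X_of_mem [Finite Y] (C : Cls cs h p T n X R Z z) (S : St cs h p T X R Z z r J j) {t : Y} (ht : t ∈ T)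
    (hP : t ∈ P2 (Subgroup.centralizer ({z r} : Set Y))) {y : I → ℤ} (hy : IsRoot cs h y)
    (h0 : form cs h y r = 0) : ∀ b ∈ X y, t * b = b * t := by
  intro b hb
  have h1 : t * b * t⁻¹ ∈ X y := by
    have := C.rgd.tor y hy t ht
    rw [← this]; exact conj_mem_cj.2 hb
  have h2 : t * b * t⁻¹ * b⁻¹ ∈ X y := mul_mem h1 (inv_mem hb)
  have h3 : t * b * t⁻¹ * b⁻¹ ∈ P2 (Subgroup.centralizer ({z r} : Set Y)) := by
    have h4 : t * b * t⁻¹ * b⁻¹ = t * (b * t⁻¹ * b⁻¹) := by group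
    rw [h4]
    exact mul_mem hP ((Subgroup.mem_normalizer_iff.1 (le_normalizer_P2 _ (S.zr_comm C hy h0 hb)) _).1 (inv_mem hP))
  obtain ⟨k, hk⟩ := (C.rgd.pgrp' hy) ⟨_, h2⟩
  have h4 := eq_one_of_two_three (P2_pgrp _) h3 S.prime S.odd (k := k) (by simpa using congrArg Subtype.val hk)
  rw [mul_inv_eq_one, mul_inv_eq_iff_eq_mul] at h4
  exact h4

/-- if `z s ∈ O₂(C(z r))` then the roots orthogonal to `r` are `± s` or orthogonal to `s` -/
theorem orth_of_mem [Finite Y] (C : Cls cs h p T n X R Z z) (S : St cs h p T X R Z z r J j) {s : I → ℤ}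
    (hs : s ∈ R) (hP : z s ∈ P2 (Subgroup.centralizer ({z r} : Set Y))) {y : I → ℤ}
    (hy : IsRoot cs h y) (hyr : form cs h y r = 0) (h1 : y ≠ s) (h2 : y ≠ -s) : form cs h y s = 0 := by
  by_contra h3
  obtain ⟨b, hb, hb1⟩ : ∃ b ∈ X y, b ≠ 1 := by
    by_contra h0
    push Not at h0
    exact Nodes.StdConn.X_ne_bot C hy ((Subgroup.eq_bot_iff_forall _).2 h0)
  have h4 := S.comm_X_of_mem C (C.z_torus s hs) hP hy hyr b hb
  have h5 := C.z_inv s hs y hy h1 h2 h3 b hb
  rw [h4, mul_assoc, C.z_sq s hs, mul_one] at h5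
  obtain ⟨k, hk⟩ := (C.rgd.pgrp' hy) ⟨b, hb⟩
  have h6 : b ∈ (⊥ : Subgroup Y) := by
    refine mem_of_sq_mem (k := p ^ k) ((S.prime.odd_of_ne_two S.odd).pow) (by simpa using congrArg Subtype.val hk) ?_
    rw [Subgroup.mem_bot]
    nth_rewrite 1 [h5]
    exact inv_mul_cancel b
  exact hb1 (Subgroup.mem_bot.1 h6)

/-- the root groups `X t`, `t ∈ R`, are centralised by `z t` if this holds for one `t` -/
theorem comm_self_all (C : Cls cs h p T n X R Z z) (S : St cs h p T X R Z z r J j) {s : I → ℤ} (hs : s ∈ R)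
    (H : ∀ b ∈ X s, z s * b = b * z s) : ∀ t ∈ R, ∀ b ∈ X t, z t * b = b * z t := by
  intro t ht b hb
  obtain ⟨w₁, e₁⟩ := S.trans s hs
  obtain ⟨w₂, e₂⟩ := S.trans t ht
  have e : t = rep cs h (w₂ * w₁⁻¹) s := by rw [rep_mul_apply, e₁, rep_inv_apply, e₂]
  obtain ⟨k, hk⟩ := exists_rp cs C.rgd.nsys (w₂ * w₁⁻¹)
  have h1 := Nodes.ClsNorm.conj_z C hk hs
  have h2 := C.rgd.conj_rp hk (C.root s hs)
  rw [← e] at h1 h2
  rw [← h2, mem_cj] at hb
  have h3 := H _ hb
  rw [← h1]
  calc k * z s * k⁻¹ * b = k * (z s * (k⁻¹ * b * k)) * k⁻¹ := by group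
    _ = k * ((k⁻¹ * b * k) * z s) * k⁻¹ := by rw [h3]
    _ = b * (k * z s * k⁻¹) := by group

/-- counting roots -/
theorem orth_count (S : St cs h p T X R Z z r J j) (hr : IsRoot cs h r) {s : I → ℤ} (hs : s ∈ R)
    (h0 : form cs h s r = 0)
    (H : ∀ y, IsRoot cs h y → form cs h y r = 0 → y ≠ s → y ≠ -s → form cs h y s = 0) {y : I → ℤ}
    (hy : IsRoot cs h y) (hys : form cs h y s = 0) : form cs h y r = 0 ∨ y = r ∨ y = -r := by
  obtain ⟨w, hw⟩ := S.trans s hs
  set P : Set (I → ℤ) := {y | IsRoot cs h y ∧ form cs h y r = 0} with hP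
  set Q : Set (I → ℤ) := {y | IsRoot cs h y ∧ form cs h y s = 0} with hQ
  have hPf : P.Finite := (RGD.finite_roots (cs := cs) (h := h)).subset fun y hy => hy.1
  have hQf : Q.Finite := (RGD.finite_roots (cs := cs) (h := h)).subset fun y hy => hy.1
  have hPQ : Q = (rep cs h w) '' P := by
    ext y
    constructor
    · rintro ⟨h1, h2⟩
      refine ⟨rep cs h w⁻¹ y, ⟨h1.act _, ?_⟩, rep_apply_inv cs h w y⟩
      rw [form_rep_left, inv_inv, ← hw]; exact h2
    · rintro ⟨y, ⟨h1, h2⟩, rfl⟩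
      refine ⟨h1.act _, ?_⟩
      rw [hw, form_rep]; exact h2
  have hinj : Function.Injective (rep cs h w) := fun a b hab => by
    have := congrArg (rep cs h w⁻¹) hab
    rwa [rep_inv_apply, rep_inv_apply] at this
  have hcard : P.ncard = Q.ncard := by
    rw [hPQ, Set.ncard_image_of_injective _ hinj]
  have hc2 := (Set.ncard_eq_ncard_iff_ncard_sdiff_eq_ncard_sdiff hPf hQf).1 hcard
  have hrr : form cs h r r ≠ 0 := (form_pos cs h hr.ne_zero).ne'
  have hrs : form cs h r s = 0 := by rw [form_comm]; exact h0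
  have h1 : P \ Q ⊆ {s, -s} := by
    rintro y ⟨⟨h1, h2⟩, h3⟩
    by_contra h4
    simp only [Set.mem_insert_iff, Set.mem_singleton_iff, not_or] at h4
    exact h3 ⟨h1, H y h1 h2 h4.1 h4.2⟩
  have h2 : ({r, -r} : Set (I → ℤ)) ⊆ Q \ P := by
    rintro y (rfl | hy)
    · exact ⟨⟨hr, hrs⟩, fun h3 => hrr h3.2⟩
    · rw [Set.mem_singleton_iff] at hy
      subst hy
      refine ⟨⟨hr.neg, by rw [form_neg_left, hrs, neg_zero]⟩, fun h3 => hrr ?_⟩
      have := h3.2
      rw [form_neg_left] at this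
      omega
  have h3 : (P \ Q).ncard ≤ 2 := (Set.ncard_le_ncard h1 (Set.toFinite _)).trans (Set.ncard_insert_le _ _ |>.trans (by simp))
  have hne : r ≠ -r := by
    intro h4
    have h5 : (2 : ℤ) • r = 0 := by
      calc (2 : ℤ) • r = r + r := two_smul ℤ r
        _ = r + -r := by nth_rewrite 2 [h4]; rfl
        _ = 0 := add_neg_cancel r
    exact hr.ne_zero ((smul_eq_zero.1 h5).resolve_left (by norm_num))
  have h4 : ({r, -r} : Set (I → ℤ)).ncard = 2 := Set.ncard_pair hne
  have h5 : ({r, -r} : Set (I → ℤ)) = Q \ P :=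
    Set.eq_of_subset_of_ncard_le h2 (by rw [h4, ← hc2]; exact h3) (hQf.subset Set.sdiff_subset)
  by_cases h6 : form cs h y r = 0
  · exact Or.inl h6
  · right
    have h7 : y ∈ Q \ P := ⟨⟨hy, hys⟩, fun h8 => h6 h8.2⟩
    rw [← h5] at h7
    exact h7

/-- `z r * z s` centralises `GG` -/
theorem zz_comm [Finite Y] (C : Cls cs h p T n X R Z z) (S : St cs h p T X R Z z r J j) {s : I → ℤ}
    (hs : s ∈ R) (h0 : form cs h s r = 0) (hP : z s ∈ P2 (Subgroup.centralizer ({z r} : Set Y))) :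
    ∀ g ∈ GG cs h T X, g * (z r * z s) = z r * z s * g := by
  have hr := S.mem
  have hrr := C.root r hr
  have hself := S.comm_self_all C hs (S.comm_X_of_mem C (C.z_torus s hs) hP (C.root s hs) h0)
  have hrs : form cs h r s = 0 := by rw [form_comm]; exact h0
  have key : GG cs h T X ≤ Subgroup.centralizer ({z r * z s} : Set Y) := by
    rw [S.gen]
    refine RGD.Sup_le fun y hy b hb => ?_
    have hy' : IsRoot cs h y := hy
    rw [mem_cent]
    by_cases h1 : form cs h y r = 0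
    · have c1 : Commute b (z r) := mem_cent.1 (S.zr_comm C hy' h1 hb)
      have c2 : Commute b (z s) := (S.comm_X_of_mem C (C.z_torus s hs) hP hy' h1 b hb).symm
      exact (c1.mul_right c2).eq
    · by_cases h2 : y = r ∨ y = -r
      · have hyR : y ∈ R := by
          rcases h2 with rfl | rfl
          · exact hr
          · exact Nodes.Perp.neg_mem C hr
        have hzy : z y = z r := by
          rcases h2 with rfl | rfl
          · rfl
          · exact C.z_neg r hr
        have hys : form cs h y s = 0 := by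
          rcases h2 with rfl | rfl
          · exact hrs
          · rw [form_neg_left, hrs, neg_zero]
        have c1 : Commute b (z r) := by
          have := hself y hyR b hb
          rw [hzy] at this
          exact this.symm
        have c2 : Commute b (z s) := X_cm_KK C hs hy' hys b hb _ (C.z_mem s hs)
        exact (c1.mul_right c2).eq
      · push Not at h2
        have h3 : form cs h y s ≠ 0 := by
          intro h4
          rcases S.orth_count hrr hs h0 (fun y hy hyr => S.orth_of_mem C hs hP hy hyr) hy' h4 with h5 | h5 | h5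
          · exact h1 h5
          · exact h2.1 h5
          · exact h2.2 h5
        have hs1 : y ≠ s := by
          rintro rfl; exact h1 h0
        have hs2 : y ≠ -s := by
          rintro rfl
          apply h1
          rw [form_neg_left, h0, neg_zero]
        have e1 := C.z_inv r hr y hy' h2.1 h2.2 h1
        have e2 := C.z_inv s hs y hy' hs1 hs2 h3 b hb
        have hr2 := C.z_sq r hr
        have hs2' := C.z_sq s hs
        calc b * (z r * z s) = (z r * (z s * b * z s) * z r) * (z r * z s) := by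
              have h6 := e1 _ (inv_mem hb)
              rw [inv_inv] at h6
              rw [e2, h6]
          _ = z r * z s * b * (z s * (z r * z r) * z s) := by group
          _ = z r * z s * b := by rw [hr2, mul_one, hs2', mul_one]
  intro g hg
  exact mem_cent.1 (key hg)

/-- the case `z s ∈ O₂(C(z r))` -/
theorem comm_of_mem [Finite Y] (C : Cls cs h p T n X R Z z) (S : St cs h p T X R Z z r J j) {s : I → ℤ}
    (hs : s ∈ R) (h0 : form cs h s r = 0) (hP : z s ∈ P2 (Subgroup.centralizer ({z r} : Set Y))) :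
    ∀ x ∈ QQ J j, ∀ y ∈ KK Z s, x * y = y * x := by
  have hcl := S.cl s hs
  have hr := S.mem
  have hzz := S.zz_comm C hs h0 hP
  have hzrs : z r * z s = z s * z r := C.z_T r hr _ (C.z_torus s hs)
  set D := GG cs h T X with hD
  set E := D ⊓ Subgroup.centralizer ({z r} : Set Y) with hE
  have hE' : E ≤ Subgroup.centralizer ({z s} : Set Y) := by
    rintro g ⟨hgD, hgr⟩
    have h1 := hzz g hgD
    have h2 := mem_cent.1 hgr
    rw [mem_cent]
    have h3 : z r * (g * z s) = z r * (z s * g) := by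
      calc z r * (g * z s) = (z r * g) * z s := by group
        _ = (g * z r) * z s := by rw [h2]
        _ = g * (z r * z s) := by group
        _ = z r * (z s * g) := by rw [h1]; group
    exact mul_left_cancel h3
  have hKE : KK Z s ≤ E := le_inf (KK_le_GG C hs) (S.KK_le_cent C hs h0)
  set P := P2 E with hPdef
  have hPp : IsPGroup 2 P := P2_pgrp _
  have hPE : P ≤ E := P2_le _
  -- `O₂(J)`, `O₂(K)` lie in `P`
  have hQP : QQ J j ≤ P := by
    refine le_P2 ((QQ_sn S.pr S.sn).restrict inf_le_right (le_inf S.ge ?_)) (QQ_pgrp S.pr)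
    exact QQ_le.trans S.sn.1
  have hKsn : Sn (KK Z s) E := hcl.sn.restrict hE' hKE
  -- `P` normalises `J` and `K`
  have hKP : KK Z s ≤ Subgroup.normalizer (P : Set Y) := hKE.trans (le_normalizer_P2 _)
  have hPK : P ≤ Subgroup.normalizer (KK Z s : Set Y) :=
    le_normalizer_of_sn hcl.pr hKsn hPE hPp hKP
  have hJP : J ≤ Subgroup.normalizer (P : Set Y) := by
    refine le_trans ?_ (normalizer_le_normalizer_P2 E)
    refine (le_inf (S.sn.1.trans S.norm) (S.sn.1.trans Subgroup.le_normalizer)).trans ?_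
    exact Subgroup.inf_normalizer_le_normalizer_inf
  have hPJ : P ≤ Subgroup.normalizer (J : Set Y) :=
    le_normalizer_of_sn S.pr S.sn (hPE.trans inf_le_right) hPp hJP
  -- `z s ≠ j`
  have hne : z s ≠ j := by
    intro h1
    apply S.nc
    intro g _
    obtain ⟨w, hw⟩ := S.trans s hs
    obtain ⟨k, hk⟩ := exists_rp cs C.rgd.nsys w
    have h2 := Nodes.ClsNorm.conj_z C hk hr
    rw [← hw, h1] at h2
    have h3 : z r = j := by
      calc z r = k⁻¹ * (k * z r * k⁻¹) * k := by group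
        _ = k⁻¹ * (j * k) := by rw [h2]; group
        _ = j := by rw [← S.jc k]; group
    rw [h3]; exact (S.jc g).symm
  -- `O₂(J)` and `O₂(K)` commute
  have hQQ : ∀ a ∈ QQ J j, ∀ b ∈ QQ (KK Z s) (z s), b * a = a * b := by
    intro a ha b hb
    have haP := hQP ha
    have hbP : b ∈ P := le_P2 (QQ_sn hcl.pr hKsn) (QQ_pgrp hcl.pr) hb
    have h1 : b * a * b⁻¹ * a⁻¹ ∈ QQ J j := by
      refine mul_mem ?_ (inv_mem ha)
      exact (Subgroup.mem_normalizer_iff.1 (normalizer_QQ (hPJ hbP) (S.jc b)) a).1 ha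
    have h2 : b * a * b⁻¹ * a⁻¹ ∈ QQ (KK Z s) (z s) := by
      have h3 : b * a * b⁻¹ * a⁻¹ = b * (a * b⁻¹ * a⁻¹) := by group
      rw [h3]
      refine mul_mem hb ?_
      refine (Subgroup.mem_normalizer_iff.1 (normalizer_QQ (hPK haP) ?_) b⁻¹).1 (inv_mem hb)
      exact mem_cent.1 (hE' (hPE haP))
    have h3 : b * a * b⁻¹ * a⁻¹ = 1 := by
      rcases QQ_cases S.pr h1 with h4 | h4 | h4 <;> rcases QQ_cases hcl.pr h2 with h5 | h5 | h5
      · exact absurd (h5.symm.trans h4) hne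
      · exact h5
      · exfalso
        rw [h5, C.z_sq s hs] at h4
        exact S.pr.t3.z_ne h4.symm
      · exact h4
      · exact h4
      · exact h4
      · exfalso
        rw [h4, S.pr.t3.z_sq] at h5
        exact hcl.pr.t3.z_ne h5.symm
      · exact h5
      · exact absurd (h5.symm.trans h4) hne
    rw [mul_inv_eq_one, mul_inv_eq_iff_eq_mul] at h3
    exact h3
  -- the elements of order 3
  have h3 : ∀ v ∈ KK Z s, v * v * v = 1 → ∀ a ∈ J, a * a = j → v * a = a * v := by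
    intro v hv h3 a ha haj
    have haQ : a ∈ QQ J j := mem_QQ ha haj
    have haP := hQP haQ
    set q := v * a * v⁻¹ * a⁻¹ with hq
    have hqP : q ∈ P := by
      rw [hq]
      exact mul_mem ((Subgroup.mem_normalizer_iff.1 (hKP hv) a).1 haP) (inv_mem haP)
    have hqK : q ∈ KK Z s := by
      have h4 : q = v * (a * v⁻¹ * a⁻¹) := by rw [hq]; group
      rw [h4]
      exact mul_mem hv ((Subgroup.mem_normalizer_iff.1 (hPK haP) v⁻¹).1 (inv_mem hv))
    have hqQ : q ∈ QQ (KK Z s) (z s) := mem_QQ_of_two hcl.pr hPp hqK hqP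
    have hqa : q * a = a * q := hQQ a haQ q hqQ
    have e1 : v * a * v⁻¹ = q * a := by rw [hq]; group
    have e2 : q * q = 1 := by
      have h4 : (v * a * v⁻¹) * (v * a * v⁻¹) = j := by
        calc (v * a * v⁻¹) * (v * a * v⁻¹) = v * (a * a) * v⁻¹ := by group
          _ = j := by rw [haj, S.jc v]; group
      rw [e1] at h4
      have h5 : (q * a) * (q * a) = (q * q) * j := by
        calc (q * a) * (q * a) = q * (a * q) * a := by group
          _ = q * (q * a) * a := by rw [hqa]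
          _ = (q * q) * (a * a) := by group
          _ = _ := by rw [haj]
      rw [h5] at h4
      exact mul_right_cancel (h4.trans (one_mul j).symm)
    have hqz : q = 1 ∨ q = z s := by
      rcases QQ_cases hcl.pr hqQ with h4 | h4 | h4
      · exfalso
        exact hcl.pr.t3.z_ne (h4.symm.trans e2)
      · exact Or.inl h4
      · exact Or.inr h4
    have hvq : v * q * v⁻¹ = q := by
      rcases hqz with h4 | h4
      · rw [h4]; group
      · rw [h4, hcl.pr.comm_z hv]; group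
    have e3 : q * q * q = 1 := by
      have h4 : v * (v * (v * a * v⁻¹) * v⁻¹) * v⁻¹ = a := by
        calc v * (v * (v * a * v⁻¹) * v⁻¹) * v⁻¹ = (v * v * v) * a * (v * v * v)⁻¹ := by group
          _ = a := by rw [h3]; group
      have h5 : ∀ y : Y, v * (q * y) * v⁻¹ = q * (v * y * v⁻¹) := by
        intro y
        calc v * (q * y) * v⁻¹ = (v * q * v⁻¹) * (v * y * v⁻¹) := by group
          _ = _ := by rw [hvq]
      rw [e1, h5, e1, h5, h5, e1] at h4
      have h6 : q * q * q * a = 1 * a := by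
        rw [one_mul]
        calc q * q * q * a = q * (q * (q * a)) := by group
          _ = a := h4
      exact mul_right_cancel h6
    have e4 : q = 1 := by rw [e2, one_mul] at e3; exact e3
    rw [e4, one_mul, mul_inv_eq_iff_eq_mul] at e1
    exact e1
  have h4 : KK Z s ≤ Subgroup.centralizer (QQ J j : Set Y) := by
    refine hcl.pr.le_of_cube fun v hv h5 => ?_
    unfold QQ
    rw [Subgroup.centralizer_closure, Subgroup.mem_centralizer_iff]
    rintro a ⟨ha, haj⟩
    exact (h3 v hv h5 a ha haj).symm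
  intro x hx y hy
  exact Subgroup.mem_centralizer_iff.1 (h4 hy) x hx

/-- **`J` commutes with the `KK Z s`, `s ∈ R` orthogonal to `r`** -/
theorem KK_comm [Finite Y] (C : Cls cs h p T n X R Z z) (S : St cs h p T X R Z z r J j) {s : I → ℤ}
    (hs : s ∈ R) (h0 : form cs h s r = 0) : ∀ x ∈ J, ∀ y ∈ KK Z s, x * y = y * x := by
  have h1 : ∀ x ∈ QQ J j, ∀ y ∈ KK Z s, x * y = y * x := by
    by_cases hP : z s ∈ P2 (Subgroup.centralizer ({z r} : Set Y))
    · exact S.comm_of_mem C hs h0 hP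
    · exact S.comm_of_notMem C hs h0 hP
  intro x hx y hy
  exact (comm_of_QQ S.core (fun x _ => S.jc x) S.pr S.sn (S.KK_le_cent C hs h0 hy)
    (fun a ha => (h1 a ha y hy).symm) x hx).symm

end St

end Cfsg.Agent.OddHalf.NI3.FThree

end

-- merged: Cfsg.Agent.OddHalf.NI3.FThree.StOf
section

/-!
# (F2'₃): from a piece to the setting `St`

`Sit3 x j J' J` : `(x, J')` a classical pair of `H`, `O(H) = 1`, `J ≅ SL₂(3)` with the central involution `j` of `H`,
subnormal in `C(x)`, commuting with `J'`; the piece `D` of `J'` is a component containing `O₂(J)`.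
`Sit3.exists_st` : a chart of `D` gives `St` for a conjugate of `J`.
-/

set_option autoImplicit false
set_option linter.unusedSectionVars false
set_option linter.dupNamespace false

namespace Cfsg.Agent.OddHalf.NI3.FThree

open Cfsg
open CoxeterSystem Cfsg.Agent.ChevalleyStructure.CoxeterGeom Cfsg.Agent.Tits.Roots Cfsg.Agent.Tits.Core
  Cfsg.Agent.Tits.RootComb Cfsg.Agent.Nodes.Comb Cfsg.Agent.Nodes.Reps Cfsg.Agent.Nodes.BNOf
  Cfsg.Agent.Nodes.RGDLib Cfsg.Agent.Nodes.Chart Cfsg.Agent.Nodes.Coroot Cfsg.Agent.Nodes.FreeTorus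
  Cfsg.Agent.Nodes.SubComb Cfsg.Agent.Nodes.Bruhat Cfsg.Agent.Nodes.StabComb Cfsg.Agent.Nodes.Perp
  Cfsg.Agent.Nodes.Sub Cfsg.Agent.Nodes.ClsSub
open Cfsg.Agent.Cit (pc cls self_mem_cls TStmt)
open Cfsg.Agent.SignalizersComponents

universe u

variable {H : Type u} [Group H]

/-- the situation of (F2'₃) -/
structure Sit3 (x j : H) (J' J : Subgroup H) : Prop where
  core : pPrimeCore 2 H = ⊥
  cl : Cl x J'
  pr : IsPr J j
  sn : Sn J (Subgroup.centralizer ({x} : Set H))
  cm : J ≤ Subgroup.centralizer (J' : Set H)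
  jc : ∀ y : H, y * j = j * y
  comp : IsComponent (pc (cls J') J')
  two : IsPGroup 2 (Subgroup.center ↥(pc (cls J') J'))
  ge : QQ J j ≤ pc (cls J') J'

namespace Sit3

variable [Finite H] {x j : H} {J' J : Subgroup H}

/-- the conjugates of a classical pair -/
theorem cl_of (S : Sit3 x j J' J) {K : Subgroup H} (hK : K ∈ cls J') {y : H} (hy : y ∈ K)
    (h1 : y * y = 1) (h2 : y ≠ 1) : Cl y K := by
  obtain ⟨k, rfl⟩ := hK
  have h3 : IsPr (Cit.cj k J') (k * x * k⁻¹) := S.cl.pr.cj k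
  have h4 : y = k * x * k⁻¹ := by
    rcases h3.t3.cases y hy with h5 | h5 | h5 | h5 | h5
    · exact absurd (h5.symm.trans h1) h3.t3.z_ne
    · exact absurd h5 h2
    · exact h5
    · rw [h1, one_mul] at h5; exact absurd h5 h2
    · rw [h1, one_mul] at h5; exact h5
  subst h4
  refine ⟨h3, ?_⟩
  have h5 := S.cl.sn.cj k
  rwa [Cit.cj_centralizer] at h5

/-- `C(y)` normalises `D`, if `y ∈ D` is not central in `D` -/
theorem le_normalizer (S : Sit3 x j J' J) {y : H} (hy : y ∈ pc (cls J') J')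
    (hn : ¬ ∀ g ∈ pc (cls J') J', y * g = g * y) :
    Subgroup.centralizer ({y} : Set H) ≤ Subgroup.normalizer (pc (cls J') J' : Set H) := by
  intro c hc
  have hc' : c * y = y * c := Subgroup.mem_centralizer_singleton_iff.1 hc
  rw [Cit.mem_normalizer_iff_cj]
  by_contra hne
  have h1 : IsComponent (Cit.cj c (pc (cls J') J')) := Cit.Comp.isComponent_cj S.comp c
  have h2 := Components.component_le_centralizer_of_ne h1 S.comp hne
  apply hn
  intro g hg
  have h3 : y ∈ Cit.cj c (pc (cls J') J') := by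
    rw [Cit.mem_cj]
    have h4 : c⁻¹ * y * c = y := by rw [mul_assoc, ← hc']; group
    rwa [h4]
  exact (Subgroup.mem_centralizer_iff.1 (h2 h3) g hg).symm

/-- `x` is not central in `D` -/
theorem nc (S : Sit3 x j J' J) {g : H} (hg : g ∈ pc (cls J') J') :
    ¬ ∀ d ∈ pc (cls J') J', (g⁻¹ * x * g) * d = d * (g⁻¹ * x * g) := by
  intro h0
  have hx : ∀ d ∈ pc (cls J') J', x * d = d * x := by
    intro d hd
    have h1 := h0 (g⁻¹ * d * g) (mul_mem (mul_mem (inv_mem hg) hd) hg)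
    calc x * d = g * ((g⁻¹ * x * g) * (g⁻¹ * d * g)) * g⁻¹ := by group
      _ = g * ((g⁻¹ * d * g) * (g⁻¹ * x * g)) * g⁻¹ := by rw [h1]
      _ = d * x := by group
  have hDx : pc (cls J') J' ≤ Subgroup.centralizer ({x} : Set H) := fun d hd =>
    Subgroup.mem_centralizer_singleton_iff.2 (hx d hd).symm
  have h2 := comm_component (S.pr.subgroupOf S.sn.1) S.sn.2 (Components.isComponent_subgroupOf hDx S.comp)
  obtain ⟨a, ha, b, hb, -, -, hab⟩ := QQ_not_comm S.pr
  apply hab
  have haJ : a ∈ J := QQ_le ha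
  have hbD : b ∈ pc (cls J') J' := S.ge hb
  have h3 := h2 ⟨a, S.sn.1 haJ⟩ haJ ⟨b, hDx hbD⟩ hbD
  exact congrArg Subtype.val h3

/-- **a chart of the piece gives the setting `St`** -/
theorem exists_st (hT : TStmt.{u}) (S : Sit3 x j J' J) {p : ℕ} (C : Chart (cls J') p (pc (cls J') J'))
    (nmem : pc (cls J') J' ∉ cls J') :
    ∃ r ∈ C.R, ∃ g ∈ pc (cls J') J', J' = Cit.cj g (KK C.Z r) ∧ x = g * C.z r * g⁻¹ ∧
      St C.cs C.h p C.T C.X C.R C.Z C.z r (Cit.cj g⁻¹ J) j := by
  obtain ⟨r, hr, g, hg, hgJ⟩ := C.om_conj J' (self_mem_cls J') Cit.le_pc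
  have hG : GG C.cs C.h C.T C.X = pc (cls J') J' := Nodes.ChartFrame.GG_eq C
  have hzne : ∀ s ∈ C.R, C.z s ≠ 1 := NI.FTwo.ZNe.z_ne_one C nmem
  have hcl : ∀ s ∈ C.R, Cl (C.z s) (KK C.Z s) := fun s hs =>
    S.cl_of (C.om s hs) (C.cls.z_mem s hs) (C.cls.z_sq s hs) (hzne s hs)
  have hgJ' : J' = Cit.cj g (KK C.Z r) := hgJ
  have hxr : x = g * C.z r * g⁻¹ := by
    have h1 : g * C.z r * g⁻¹ ∈ J' := hgJ'.ge (Cit.conj_mem_cj (C.cls.z_mem r hr))
    have h2 : (g * C.z r * g⁻¹) * (g * C.z r * g⁻¹) = 1 := by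
      calc (g * C.z r * g⁻¹) * (g * C.z r * g⁻¹) = g * (C.z r * C.z r) * g⁻¹ := by group
        _ = 1 := by rw [C.cls.z_sq r hr]; group
    have h3 : g * C.z r * g⁻¹ ≠ 1 := by
      intro e
      apply hzne r hr
      calc C.z r = g⁻¹ * (g * C.z r * g⁻¹) * g := by group
        _ = 1 := by rw [e]; group
    rcases S.cl.pr.t3.cases _ h1 with h5 | h5 | h5 | h5 | h5
    · exact absurd (h5.symm.trans h2) S.cl.pr.t3.z_ne
    · exact absurd h5 h3
    · exact h5.symm
    · rw [h2, one_mul] at h5; exact absurd h5 h3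
    · rw [h2, one_mul] at h5; exact h5.symm
  have hzr : C.z r = g⁻¹ * x * g := by rw [hxr]; group
  have hjg : g⁻¹ * j * g = j := by rw [mul_assoc, ← S.jc g]; group
  refine ⟨r, hr, g, hg, hgJ', hxr, ?_⟩
  refine
    { prime := C.prime
      odd := C.odd
      mem := hr
      trans := C.trans r hr
      core := core_cent_eq_bot hT S.core (hcl r hr)
      pr := ?_
      sn := ?_
      comm := ?_
      jc := S.jc
      cl := hcl
      ge := ?_
      norm := ?_
      nc := ?_
      gen := ?_ }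
  · have h1 := S.pr.cj g⁻¹
    rwa [inv_inv, hjg] at h1
  · have h1 := S.sn.cj g⁻¹
    rwa [Cit.cj_centralizer, inv_inv, ← hzr] at h1
  · intro a ha b hb
    rw [Cit.mem_cj, inv_inv] at ha
    have h1 : g * b * g⁻¹ ∈ J' := hgJ'.ge (Cit.conj_mem_cj hb)
    have h2 := Subgroup.mem_centralizer_iff.1 (S.cm ha) _ h1
    calc a * b = g⁻¹ * ((g * a * g⁻¹) * (g * b * g⁻¹)) * g := by group
      _ = g⁻¹ * ((g * b * g⁻¹) * (g * a * g⁻¹)) * g := by rw [h2]
      _ = b * a := by group
  · have h1 : QQ (Cit.cj g⁻¹ J) j = Cit.cj g⁻¹ (QQ J j) := QQ_cj (S.jc g⁻¹)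
    rw [h1, hG]
    rintro _ ⟨y, hy, rfl⟩
    exact mul_mem (mul_mem (inv_mem hg) (S.ge hy)) (inv_mem (inv_mem hg))
  · rw [hG]
    refine S.le_normalizer ?_ ?_
    · rw [hzr]
      exact mul_mem (mul_mem (inv_mem hg) (Cit.le_pc S.cl.pr.mem)) hg
    · rw [hzr]; exact S.nc hg
  · rw [hG, hzr]; exact S.nc hg
  · rw [hG]; exact C.gen.symm

end Sit3

end Cfsg.Agent.OddHalf.NI3.FThree

end
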