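import Cfsg.Agent.OddHalf.NI3.FThree.Quat
import Cfsg.Agent.OddHalf.NI.FTwo.LeviOne
import Cfsg.Agent.OddHalf.NI.FTwo.Levi
import Cfsg.Agent.OddHalf.NI3.FThree.StOf
import Cfsg.Agent.OddHalf.NI.FTwo.ChartMain
import Cfsg.Agent.OddHalf.NI.FTwo.Comb
import Mathlib
import Cfsg.Agent.Nodes.CommonNorm
import Cfsg.Agent.Nodes.ZRel
import Cfsg.Agent.Nodes.KindBase
import Cfsg.Agent.Nodes.PairOf
import Cfsg.Agent.Nodes.Reindex
import Cfsg.Agent.Nodes.RKindsBC
import Cfsg.Agent.Nodes.KindC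
import Cfsg.Agent.Nodes.KindF
import Cfsg.Agent.Nodes.TyStd
import Cfsg.Agent.Cit.TDef
import Cfsg.Agent.OddHalf.NI.FTwo.Entry
import Cfsg.Agent.OddHalf.NI.FTwo.CjTop

-- merged: Cfsg.Agent.OddHalf.NI3.FThree.Rk1
section

/-!
# (F2'₃): normal 2-subgroups of rank one groups in characteristic 3

* `two` : `R1 3 B U n`, `N` a normal 2-subgroup not commuting with `U`: `|U| = 3`, `Y = N B`, `4 |N ∩ B| = |N|`;
* `cent` : an element of `N` commuting with `U` commutes with `n U n⁻¹`;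
* `r1_root` : the rank one structure of `T ⟨X b, X (-b)⟩` for all roots `b` with `X b` abelian.
-/

set_option autoImplicit false
set_option linter.unusedSectionVars false
set_option linter.dupNamespace false

namespace Cfsg.Agent.OddHalf.NI3.FThree

open Cfsg
open Cfsg.Agent.OddHalf.NI.FTwo (R1)

theorem three_pow_mod (l : ℕ) : 3 ^ l % 8 = 1 ∨ 3 ^ l % 8 = 3 := by
  induction l with
  | zero => left; rfl
  | succ l ih => rw [pow_succ]; omega

/-- `1 + 3 ^ l = 2 ^ k` only for `3 ^ l = 1, 3` -/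
theorem three_pow_eq {l k : ℕ} (h : 1 + 3 ^ l = 2 ^ k) (hl : 3 ^ l ≠ 1) : 3 ^ l = 3 := by
  have h1 := three_pow_mod l
  rcases Nat.lt_or_ge k 3 with hk | hk
  · interval_cases k <;> omega
  · exfalso
    obtain ⟨m, rfl⟩ := Nat.exists_eq_add_of_le hk
    rw [pow_add] at h
    omega

section

variable {Y : Type*} [Group Y] {B U : Subgroup Y} {nn : Y}

theorem notMem_nn {p : ℕ} (H : R1 p B U nn) (hU : U ≠ ⊥) : nn ∉ B := by
  intro hn
  apply hU
  rw [Subgroup.eq_bot_iff_forall]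
  exact fun x hx => H.inj x hx (mul_mem (mul_mem (inv_mem hn) (H.le hx)) hn)

theorem inf_eq_bot {U N : Subgroup Y} (hU : IsPGroup 3 U) (hN : IsPGroup 2 N) {x : Y} (hx : x ∈ U) (hxN : x ∈ N) :
    x = 1 := by
  obtain ⟨k, hk⟩ := hU ⟨x, hx⟩
  exact eq_one_of_two_three hN hxN Nat.prime_three (by norm_num) (k := k) (by simpa using congrArg Subtype.val hk)

/-- elements of `N` normalising `U` centralise `U` -/
theorem comm_of_normalizes {U N : Subgroup Y} (hU : IsPGroup 3 U) (hN : IsPGroup 2 N)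
    (hUN : U ≤ Subgroup.normalizer (N : Set Y)) {t : Y} (ht : t ∈ N) (htU : t ∈ Subgroup.normalizer (U : Set Y)) :
    ∀ u ∈ U, t * u = u * t := by
  intro u hu
  have h1 : t * u * t⁻¹ * u⁻¹ ∈ U := mul_mem ((Subgroup.mem_normalizer_iff.1 htU u).1 hu) (inv_mem hu)
  have h2 : t * u * t⁻¹ * u⁻¹ ∈ N := by
    have h3 : t * u * t⁻¹ * u⁻¹ = t * (u * t⁻¹ * u⁻¹) := by group
    rw [h3]
    exact mul_mem ht ((Subgroup.mem_normalizer_iff.1 (hUN hu) _).1 (inv_mem ht))
  have h3 := inf_eq_bot hU hN h1 h2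
  rw [mul_inv_eq_one, mul_inv_eq_iff_eq_mul] at h3
  exact h3

theorem two [Finite Y] (H : R1 3 B U nn) {N : Subgroup Y} (hN : N.Normal) (h2 : IsPGroup 2 N)
    (hne : ¬ ∀ x ∈ N, ∀ y ∈ U, x * y = y * x) :
    (∀ g : Y, ∃ m ∈ N, m⁻¹ * g ∈ B) ∧ Nat.card U = 3 ∧ 4 * Nat.card (N ⊓ B : Subgroup Y) = Nat.card N := by
  have : Fact (Nat.Prime 2) := ⟨Nat.prime_two⟩
  have : Fact (Nat.Prime 3) := ⟨Nat.prime_three⟩
  have hUN : U ≤ Subgroup.normalizer (N : Set Y) := by rw [Subgroup.normalizer_eq_top_iff.2 hN]; exact le_top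
  have hUb : U ≠ ⊥ := by
    rintro rfl
    apply hne
    intro x _ y hy
    rw [Subgroup.mem_bot.1 hy, mul_one, one_mul]
  obtain ⟨m₀, hm₀, hm₀B⟩ : ∃ m ∈ N, m ∉ B := by
    by_contra hcon
    push Not at hcon
    exact hne fun x hx y hy => comm_of_normalizes H.pgrp h2 hUN hx (H.norm (hcon x hx)) y hy
  -- `nn ∈ N B`
  have hnn : ∃ m ∈ N, ∃ b ∈ B, nn = m * b := by
    rcases H.cases m₀ with h1 | ⟨u, hu, b, hb, e⟩
    · exact absurd h1 hm₀B
    · refine ⟨u⁻¹ * m₀ * u⁻¹⁻¹, hN.conj_mem _ hm₀ _, u⁻¹ * b⁻¹, mul_mem (inv_mem (H.le hu)) (inv_mem hb), ?_⟩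
      rw [e]; group
  have hall : ∀ g : Y, ∃ m ∈ N, m⁻¹ * g ∈ B := by
    intro g
    rcases H.cases g with h1 | ⟨u, hu, b, hb, rfl⟩
    · exact ⟨1, one_mem _, by simpa using h1⟩
    · obtain ⟨m, hm, c, hc, e⟩ := hnn
      refine ⟨u * m * u⁻¹, hN.conj_mem _ hm _, ?_⟩
      rw [e]
      have : (u * m * u⁻¹)⁻¹ * (u * (m * c) * b) = u * c * b := by group
      rw [this]
      exact mul_mem (mul_mem (H.le hu) hc) hb
  have htop : N ⊔ B = ⊤ := by
    rw [eq_top_iff]
    intro g _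
    obtain ⟨m, hm, hg⟩ := hall g
    have : g = m * (m⁻¹ * g) := by group
    rw [this]
    exact mul_mem (Subgroup.mem_sup_left hm) (Subgroup.mem_sup_right hg)
  have hindex : B.index * Nat.card (N ⊓ B : Subgroup Y) = Nat.card N := by
    have h1 : N.relIndex (B ⊔ N) = N.relIndex B := Subgroup.relIndex_sup_right B N
    rw [sup_comm, htop, Subgroup.relIndex_top_right] at h1
    have h2 : Nat.card N * N.index = Nat.card Y := Subgroup.card_mul_index N
    have h3 : Nat.card B * B.index = Nat.card Y := Subgroup.card_mul_index B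
    have h4 : Nat.card (N ⊓ B : Subgroup Y) * N.relIndex B = Nat.card B := by
      rw [← Subgroup.inf_relIndex_right]
      have h5 : Nat.card ((N ⊓ B).subgroupOf B) = Nat.card (N ⊓ B : Subgroup Y) :=
        Nat.card_congr (Subgroup.subgroupOfEquivOfLe inf_le_right).toEquiv
      rw [← h5, Subgroup.relIndex]
      exact Subgroup.card_mul_index _
    have h5 : 0 < N.relIndex B := Nat.pos_of_ne_zero (Subgroup.index_ne_zero_of_finite (H := N.subgroupOf B))
    rw [h1] at h2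
    have h6 : (B.index * Nat.card (N ⊓ B : Subgroup Y)) * N.relIndex B = Nat.card N * N.relIndex B := by
      rw [h2, ← h3, ← h4]; ring
    exact Nat.eq_of_mul_eq_mul_right h5 h6
  rw [H.card_quotient hUb] at hindex
  obtain ⟨m, hm⟩ := IsPGroup.iff_card.1 h2
  obtain ⟨l, hl⟩ := IsPGroup.iff_card.1 H.pgrp
  have h3 : 1 + 3 ^ l ∣ 2 ^ m := by rw [← hl, ← hm]; exact Dvd.intro _ hindex
  obtain ⟨k, -, hk⟩ := (Nat.dvd_prime_pow Nat.prime_two).1 h3
  have h4 : 3 ^ l ≠ 1 := by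
    rw [← hl]
    intro h5
    exact hUb (Subgroup.eq_bot_of_card_eq _ h5)
  have h5 := three_pow_eq hk h4
  rw [hl, h5] at hindex
  exact ⟨hall, by rw [hl, h5], hindex⟩

/-- the element `g` normalises `U` only if `g ∈ B` -/
theorem mem_B_of_normalizes {p : ℕ} (H : R1 p B U nn) (hU : U ≠ ⊥) {g : Y}
    (hg : g ∈ Subgroup.normalizer (U : Set Y)) : g ∈ B := by
  obtain ⟨x, hx, hx1⟩ : ∃ x ∈ U, x ≠ 1 := by
    by_contra h0
    push Not at h0
    exact hU ((Subgroup.eq_bot_iff_forall _).2 h0)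
  exact H.ti hx hx1 ((Subgroup.mem_normalizer_iff.1 hg x).1 hx)

/-- an element of the normal 2-subgroup `N` commuting with `U` commutes with `n U n⁻¹` -/
theorem cent (H : R1 3 B U nn) (hUb : U ≠ ⊥) {N : Subgroup Y} (hN : N.Normal) (h2 : IsPGroup 2 N) {t : Y}
    (ht : t ∈ N) (htU : ∀ u ∈ U, t * u = u * t) : ∀ u ∈ U, t * (nn * u * nn⁻¹) = (nn * u * nn⁻¹) * t := by
  have htB : t ∈ B := by
    refine mem_B_of_normalizes H hUb ?_
    rw [Subgroup.mem_normalizer_iff]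
    intro x
    constructor
    · intro hx
      rw [htU x hx, mul_assoc, mul_inv_cancel, mul_one]; exact hx
    · intro hx
      have h3 := htU _ hx
      have h4 : x = t * x * t⁻¹ := by
        have h5 : t * (t * x * t⁻¹) = t * x := by rw [h3]; group
        exact (mul_left_cancel h5).symm
      rw [h4]; exact hx
  -- `t nn = u' nn b`
  obtain ⟨u', hu', b, hb, e⟩ : ∃ u ∈ U, ∃ b ∈ B, t * nn = u * nn * b := by
    rcases H.cases (t * nn) with h1 | h1
    · exfalso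
      apply notMem_nn H hUb
      have : nn = t⁻¹ * (t * nn) := by group
      rw [this]; exact mul_mem (inv_mem htB) h1
    · exact h1
  -- `s = u'⁻¹ t`, `nn⁻¹ s nn ∈ B`
  have hs : nn⁻¹ * (u'⁻¹ * t) * nn ∈ B := by
    have : nn⁻¹ * (u'⁻¹ * t) * nn = nn⁻¹ * u'⁻¹ * (t * nn) := by group
    rw [this, e]
    have : nn⁻¹ * u'⁻¹ * (u' * nn * b) = b := by group
    rw [this]; exact hb
  obtain ⟨m, hm⟩ := h2 ⟨t, ht⟩
  have hm' : t ^ 2 ^ m = 1 := by simpa using congrArg Subtype.val hm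
  have hc0 : Commute u' t := (htU u' hu').symm
  have hc : Commute u'⁻¹ t := hc0.inv_left
  have hu1 : u' = 1 := by
    have h3 : nn⁻¹ * (u'⁻¹ * t) ^ 2 ^ m * nn ∈ B := by
      have h4 : nn⁻¹ * (u'⁻¹ * t) ^ 2 ^ m * nn = (nn⁻¹ * (u'⁻¹ * t) * nn) ^ 2 ^ m := by
        have := (conj_pow (i := 2 ^ m) (a := nn⁻¹) (b := u'⁻¹ * t)).symm
        simpa using this
      rw [h4]; exact pow_mem hs _
    rw [hc.mul_pow, hm', mul_one] at h3
    have h4 := H.inj _ (pow_mem (inv_mem hu') _) h3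
    have h5 : u'⁻¹ = 1 := by
      obtain ⟨k, hk⟩ := H.pgrp ⟨_, inv_mem hu'⟩
      have hk' : u'⁻¹ ^ 3 ^ k = 1 := by simpa using congrArg Subtype.val hk
      have h6 := Nat.dvd_gcd (orderOf_dvd_of_pow_eq_one h4) (orderOf_dvd_of_pow_eq_one hk')
      have h7 : Nat.Coprime (2 ^ m) (3 ^ k) := Nat.Coprime.pow _ _ (by norm_num)
      rw [h7, Nat.dvd_one, orderOf_eq_one_iff] at h6
      exact h6
    exact inv_eq_one.1 h5
  rw [hu1, inv_one, one_mul] at hs
  -- `nn⁻¹ t nn ∈ N ∩ B` commutes with `U`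
  have h3 : nn⁻¹ * t * nn ∈ N := by
    have := hN.conj_mem t ht nn⁻¹
    rwa [inv_inv] at this
  have hUN : U ≤ Subgroup.normalizer (N : Set Y) := by rw [Subgroup.normalizer_eq_top_iff.2 hN]; exact le_top
  intro u hu
  have h4 := comm_of_normalizes H.pgrp h2 hUN h3 (H.norm hs) u hu
  calc t * (nn * u * nn⁻¹) = nn * ((nn⁻¹ * t * nn) * u) * nn⁻¹ := by group
    _ = nn * (u * (nn⁻¹ * t * nn)) * nn⁻¹ := by rw [h4]
    _ = (nn * u * nn⁻¹) * t := by group

end

/-! ### Levi subgroups of rank one for arbitrary roots -/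

open CoxeterSystem Cfsg.Agent.ChevalleyStructure.CoxeterGeom Cfsg.Agent.Tits.Roots Cfsg.Agent.Tits.Core
  Cfsg.Agent.Tits.RootComb Cfsg.Agent.Nodes.Comb Cfsg.Agent.Nodes.Reps Cfsg.Agent.Nodes.BNOf
  Cfsg.Agent.Nodes.RGDLib Cfsg.Agent.Nodes.Chart Cfsg.Agent.Nodes.Coroot Cfsg.Agent.Nodes.FreeTorus
  Cfsg.Agent.Nodes.SubComb Cfsg.Agent.Nodes.Bruhat Cfsg.Agent.Nodes.StabComb Cfsg.Agent.Nodes.Perp
  Cfsg.Agent.Nodes.Sub Cfsg.Agent.Nodes.ClsSub
open Cfsg.Agent.OddHalf.NI.FTwo (r1 BJ_singleton LJ_singleton cj_T cj_LL)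

variable {I W Y : Type*} [Fintype I] [DecidableEq I] [Group W] [Fintype W] [Group Y] {M : CoxeterMatrix I}
  {cs : CoxeterSystem M W} {A : I → I → ℤ} {h : IsCartan M A} {p : ℕ} {T : Subgroup Y} {n : I → Y}
  {X : (I → ℤ) → Subgroup Y}

theorem r1_root [Finite Y] [Fact p.Prime] (D : RGD cs h p T n X) {b : I → ℤ} (hb : IsRoot cs h b)
    (hab : ∀ x ∈ X b, ∀ y ∈ X b, x * y = y * x) :
    ∃ (nn : Y) (hn : nn ∈ T ⊔ LL X b), cj nn (X b) = X (-b) ∧
      R1 p ((T ⊔ X b).subgroupOf (T ⊔ LL X b)) ((X b).subgroupOf (T ⊔ LL X b)) ⟨nn, hn⟩ := by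
  obtain ⟨w, i, rfl⟩ := hb
  set b := rep cs h w (sr i) with hbdef
  have hb : IsRoot cs h b := ⟨w, i, rfl⟩
  obtain ⟨k, hk⟩ := exists_rp cs D.nsys w
  have hX : cj k (X (sr i)) = X b := D.conj_rp hk (isRoot_sr cs h i)
  have hTX : cj k (T ⊔ X (sr i)) = T ⊔ X b := by rw [cj_sup, cj_T D hk, hX]
  have hTL : cj k (T ⊔ LL X (sr i)) = T ⊔ LL X b := by
    rw [cj_sup, cj_T D hk, cj_LL D hk (isRoot_sr cs h i)]
  have hab' : ∀ x ∈ X (sr i), ∀ y ∈ X (sr i), x * y = y * x := by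
    rw [← hX] at hab
    exact (Cfsg.Agent.OddHalf.NI.FTwo.commute_cj k).1 hab
  have H := r1 D i hab'
  have hni : n i ∈ LJ cs h T X {i} := n_mem_LJ D (Set.mem_singleton i)
  have hni' : n i ∈ T ⊔ LL X (sr i) := by rwa [LJ_singleton] at hni
  have hn : k * n i * k⁻¹ ∈ T ⊔ LL X b := by
    rw [← hTL]; exact conj_mem_cj.2 hni'
  have hXL : X b ≤ T ⊔ LL X b := le_sup_left.trans le_sup_right
  have hBL : T ⊔ X b ≤ T ⊔ LL X b := sup_le_sup_left le_sup_left _
  have hmem : ∀ g : Y, g ∈ T ⊔ LL X b → k⁻¹ * g * k ∈ LJ cs h T X {i} := by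
    intro g hg
    rw [LJ_singleton]
    rw [← hTL] at hg
    exact mem_cj.1 hg
  refine ⟨k * n i * k⁻¹, hn, ?_, ?_⟩
  · rw [cj_mul, cj_mul]
    have h1 : cj k⁻¹ (X b) = X (sr i) := by rw [← hX, cj_inv_cj]
    rw [h1, D.conj i _ (isRoot_sr cs h i), rep_simple_sr, D.conj_rp hk (isRoot_sr cs h i).neg, map_neg]
  · refine ⟨?_, ?_, ?_, ?_, ?_, ?_, ?_⟩
    · intro x hx
      exact (le_sup_right : X b ≤ T ⊔ X b) hx
    · rintro ⟨g, hg⟩ hgB
      rw [Subgroup.mem_normalizer_iff]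
      intro x
      rw [Subgroup.mem_subgroupOf, Subgroup.mem_subgroupOf]
      have h1 : T ⊔ X b ≤ Subgroup.normalizer (X b : Set Y) :=
        sup_le (fun t ht => mem_normalizer_iff_cj.2 (D.tor _ hb t ht)) Subgroup.le_normalizer
      exact (Subgroup.mem_normalizer_iff.1 (h1 hgB)) x
    · rintro ⟨g, hg⟩
      rcases H.cases ⟨_, hmem g hg⟩ with h1 | ⟨⟨u, huL⟩, hu, ⟨c, hcL⟩, hc, e⟩
      · left
        have h2 : k⁻¹ * g * k ∈ BJ cs h T X {i} := h1
        rw [BJ_singleton] at h2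
        have h3 : g ∈ T ⊔ X b := by rw [← hTX]; exact mem_cj.2 h2
        exact h3
      · right
        have hu' : k * u * k⁻¹ ∈ X b := by rw [← hX]; exact conj_mem_cj.2 hu
        have hc2 : c ∈ BJ cs h T X {i} := hc
        rw [BJ_singleton] at hc2
        have hc' : k * c * k⁻¹ ∈ T ⊔ X b := by rw [← hTX]; exact conj_mem_cj.2 hc2
        have e' : k⁻¹ * g * k = u * n i * c := congrArg Subtype.val e
        refine ⟨⟨_, hXL hu'⟩, hu', ⟨_, hBL hc'⟩, hc', Subtype.ext ?_⟩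
        change g = (k * u * k⁻¹) * (k * n i * k⁻¹) * (k * c * k⁻¹)
        have : g = k * (k⁻¹ * g * k) * k⁻¹ := by group
        rw [this, e']; group
    · rintro ⟨u, huL⟩ hu hB
      have hu' : k⁻¹ * u * k ∈ X (sr i) := by
        have h1 : u ∈ X b := hu
        rw [← hX] at h1; exact mem_cj.1 h1
      have hB' : (k * n i * k⁻¹)⁻¹ * u * (k * n i * k⁻¹) ∈ T ⊔ X b := hB
      have h1 : (n i)⁻¹ * (k⁻¹ * u * k) * n i ∈ BJ cs h T X {i} := by
        rw [BJ_singleton]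
        rw [← hTX, mem_cj] at hB'
        have : (n i)⁻¹ * (k⁻¹ * u * k) * n i = k⁻¹ * ((k * n i * k⁻¹)⁻¹ * u * (k * n i * k⁻¹)) * k := by group
        rw [this]; exact hB'
      have h2 := H.inj ⟨_, hmem u huL⟩ hu' h1
      have h3 : k⁻¹ * u * k = 1 := congrArg Subtype.val h2
      apply Subtype.ext
      change u = 1
      have : u = k * (k⁻¹ * u * k) * k⁻¹ := by group
      rw [this, h3]; group
    · intro x hx y hy
      exact Subtype.ext (hab _ hx _ hy)
    · exact (D.pgrp' hb).comap_subtype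
    · have h1 := H.ndvd
      intro h2
      apply h1
      rw [LJ_singleton]
      change p ∣ (X b).relIndex (T ⊔ LL X b) at h2
      change p ∣ (X (sr i)).relIndex (T ⊔ LL X (sr i))
      rw [← hX, ← hTL] at h2
      have h3 : (Cit.cj k (X (sr i))).relIndex (Cit.cj k (T ⊔ LL X (sr i))) =
          (X (sr i)).relIndex (T ⊔ LL X (sr i)) := Cit.relIndex_cj k _ _
      rw [← h3]
      exact h2

end Cfsg.Agent.OddHalf.NI3.FThree

end

-- merged: Cfsg.Agent.OddHalf.NI3.FThree.Eq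
section

/-!
# (F2'₃): a rank one group in characteristic 3 whose normal 2-subgroup contains `O₂(J)`

`Rn M N U V` : `U`, `V` are opposite root groups of order 3 of the rank one group `M`, `N` a normal 2-subgroup.
`eq_sup` : if `J ≅ SL₂(3)` and `⟨U, V⟩` are subnormal in `C`, `O₂(J) ≤ N` does not commute with `U`, then
`J = ⟨U, V⟩`.
-/

set_option autoImplicit false
set_option linter.unusedSectionVars false
set_option linter.dupNamespace false

namespace Cfsg.Agent.OddHalf.NI3.FThree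

open Cfsg Cfsg.Agent.Cit
open Cfsg.Agent.Cit.SLThree (Qt Sl IsSl)

/-- four cosets -/
theorem four_cosets {G : Type*} [Group G] {C : Subgroup G} (hC : C.index = 4) {a b c : G} (ha : a ∉ C)
    (hb : b ∉ C) (hc : c ∉ C) (hab : a⁻¹ * b ∉ C) (hac : a⁻¹ * c ∉ C) (hbc : b⁻¹ * c ∉ C) (y : G) :
    y ∈ C ∨ a⁻¹ * y ∈ C ∨ b⁻¹ * y ∈ C ∨ c⁻¹ * y ∈ C := by
  have hfin : Finite (G ⧸ C) := Nat.finite_of_card_ne_zero (by
    change C.index ≠ 0
    rw [hC]; norm_num)
  let f : Fin 4 → G ⧸ C := ![QuotientGroup.mk 1, QuotientGroup.mk a, QuotientGroup.mk b, QuotientGroup.mk c]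
  have e : ∀ {s t : G}, (QuotientGroup.mk s : G ⧸ C) = QuotientGroup.mk t → s⁻¹ * t ∈ C := fun h =>
    QuotientGroup.eq.1 h
  have hf : Function.Injective f := by
    intro s t hst
    fin_cases s <;> fin_cases t <;> first | rfl | exfalso
    · exact ha (by simpa using e hst)
    · exact hb (by simpa using e hst)
    · exact hc (by simpa using e hst)
    · exact ha (by simpa using e hst)
    · exact hab (e hst)
    · exact hac (e hst)
    · exact hb (by simpa using e hst)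
    · exact hab (by have := inv_mem (e hst); simpa using this)
    · exact hbc (e hst)
    · exact hc (by simpa using e hst)
    · exact hac (by have := inv_mem (e hst); simpa using this)
    · exact hbc (by have := inv_mem (e hst); simpa using this)
  have hb := hf.bijective_of_nat_card_le (by
    rw [Nat.card_fin]
    change C.index ≤ 4
    rw [hC])
  obtain ⟨s, hs⟩ := hb.2 (QuotientGroup.mk y)
  fin_cases s
  · left; simpa using e hs
  · right; left; exact e hs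
  · right; right; left; exact e hs
  · right; right; right; exact e hs

variable {Y : Type*} [Group Y]

/-- a rank one group in characteristic 3 with root groups of order 3 and a normal 2-subgroup -/
structure Rn (M N U V : Subgroup Y) : Prop where
  UM : U ≤ M
  VM : V ≤ M
  NM : N ≤ M
  two : IsPGroup 2 N
  norm : M ≤ Subgroup.normalizer (N : Set Y)
  card : Nat.card U = 3
  all : ∀ g ∈ M, ∃ m ∈ N, m⁻¹ * g ∈ Subgroup.normalizer (U : Set Y)
  four : 4 * Nat.card (N ⊓ Subgroup.centralizer (U : Set Y) : Subgroup Y) = Nat.card N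
  cent : ∀ t ∈ N, (∀ u ∈ U, t * u = u * t) → ∀ v ∈ V, t * v = v * t
  conj : ∃ nn ∈ M, V = cj nn U
  normL : M ≤ Subgroup.normalizer ((U ⊔ V : Subgroup Y) : Set Y)

section quat

/-- two elements of order 4 of `O₂(J)` -/
theorem qt_of_QQ [Finite Y] {J : Subgroup Y} {j : Y} (h : IsPr J j) {i k : Y} (hi : i ∈ J) (hk : k ∈ J)
    (hii : i * i = j) (hkk : k * k = j) (h1 : k ≠ i) (h2 : k ≠ j * i) :
    Qt j i k ∧ QQ J j = Subgroup.closure {i, k} := by
  obtain ⟨i₀, k₀, d, hl⟩ := h.sl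
  have hq := hl.q
  have e0 := QQ_eq hl
  have hiQ : i ∈ Subgroup.closure ({i₀, k₀} : Set Y) := by rw [← e0]; exact mem_QQ hi hii
  have hkQ : k ∈ Subgroup.closure ({i₀, k₀} : Set Y) := by rw [← e0]; exact mem_QQ hk hkk
  have hz := hq.z1
  have hji : k * i = j * (i * k) := by
    rcases hq.mem_cases hiQ with rfl | rfl | rfl | rfl | rfl | rfl | rfl | rfl <;>
    rcases hq.mem_cases hkQ with rfl | rfl | rfl | rfl | rfl | rfl | rfl | rfl <;>
    simp only [mul_assoc, one_mul, mul_one, hq.z2, hq.zz, hq.iz, hq.jz, hq.izx, hq.jzx, hq.i2, hq.j2, hq.iix,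
      hq.ji, hq.jix, ne_eq, not_true_eq_false] at hii hkk h1 h2 ⊢ <;>
    first
    | exact absurd hii.symm hz
    | exact absurd hkk.symm hz
  have hQ : Qt j i k := ⟨hq.z2, hq.z1, hii, hkk, hji⟩
  refine ⟨hQ, ?_⟩
  rw [e0]
  symm
  refine Subgroup.eq_of_le_of_card_ge ?_ (by rw [hQ.card, hq.card])
  rw [Subgroup.closure_le]
  rintro x (rfl | rfl)
  · exact hiQ
  · exact hkQ

/-- an element `u` with `u³ = 1` normalising `O₂(J)` and not centralising it permutes `i → k → i k` -/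
theorem exists_perm [Finite Y] {J : Subgroup Y} {j u : Y} (h : IsPr J j) (hj : ∀ y : Y, y * j = j * y)
    (hu : ∀ y ∈ J, y * y = j → u * y * u⁻¹ ∈ J) (h3 : u * u * u = 1)
    (hne : ¬ ∀ y ∈ J, y * y = j → u * y = y * u) :
    (∀ y ∈ J, y * y = j → u * y ≠ y * u) ∧
    ∃ i k, i ∈ J ∧ k ∈ J ∧ Qt j i k ∧ QQ J j = Subgroup.closure {i, k} ∧ u * i * u⁻¹ = k ∧ u * k * u⁻¹ = i * k := by
  have hz := h.t3.z_ne
  have hzz := h.t3.z_sq
  obtain ⟨φ, hφ⟩ : ∃ φ : Y →* Y, ∀ y, u * y * u⁻¹ = φ y := ⟨(MulAut.conj u).toMonoidHom, fun y => rfl⟩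
  have hju : φ j = j := by rw [← hφ, hj u]; group
  have hfx : ∀ y : Y, u * y = y * u ↔ φ y = y := fun y => by rw [← hφ, mul_inv_eq_iff_eq_mul]
  simp only [hφ] at hu ⊢
  simp only [ne_eq, hfx] at hne ⊢
  have hsq : ∀ y : Y, y * y = j → φ y * φ y = j := by
    intro y hy
    rw [← map_mul, hy, hju]
  have hcube : ∀ y : Y, φ (φ (φ y)) = y := by
    intro y
    rw [← hφ, ← hφ, ← hφ]
    calc u * (u * (u * y * u⁻¹) * u⁻¹) * u⁻¹ = (u * u * u) * y * (u * u * u)⁻¹ := by group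
      _ = y := by rw [h3]; group
  -- `u y u⁻¹ ≠ j y`
  have hneg : ∀ y : Y, φ y ≠ j * y := by
    intro y hy
    have h4 := hcube y
    rw [hy, map_mul, hju, hy, ← mul_assoc, hzz, one_mul, hy] at h4
    apply hz
    exact mul_right_cancel (h4.trans (one_mul y).symm)
  -- no element of order 4 is fixed
  have hfix : ∀ y ∈ J, y * y = j → ¬ φ y = y := by
    intro i hi hii hui'
    apply hne
    intro k hk hkk
    by_cases h4 : k = i
    · rw [h4]; exact hui'
    by_cases h5 : k = j * i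
    · rw [h5, map_mul, hju, hui']
    obtain ⟨hQ, hQQ⟩ := qt_of_QQ h hi hk hii hkk h4 h5
    have hk' := hu k hk hkk
    have hk'Q : φ k ∈ Subgroup.closure ({i, k} : Set Y) := by rw [← hQQ]; exact mem_QQ hk' (hsq k hkk)
    have hsk := hsq k hkk
    have hc := hcube k
    rcases hQ.mem_cases hk'Q with e | e | e | e | e | e | e | e
    · exfalso; rw [e, one_mul] at hsk; exact hz hsk.symm
    · exfalso; rw [e, hzz] at hsk; exact hz hsk.symm
    · exfalso
      rw [e, hui', hui'] at hc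
      exact h4 hc.symm
    · exfalso
      rw [e, map_mul, hju, hui', map_mul, hju, hui'] at hc
      exact h5 hc.symm
    · exact e
    · exact absurd e (hneg k)
    · exfalso
      rw [e, map_mul, hui', e, map_mul, map_mul, hui', e] at hc
      -- `i * (i * (i * k)) = k`
      rw [← mul_assoc i i, hii] at hc
      have : j * (i * k) = 1 * k := by rw [one_mul]; exact hc
      rw [← mul_assoc] at this
      have h6 := mul_right_cancel this
      have h7 : i = j := by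
        calc i = j * (j * i) := by rw [← mul_assoc, hzz, one_mul]
          _ = j := by rw [h6, mul_one]
      rw [h7, hzz] at hii
      exact hz hii.symm
    · exfalso
      have e1 : φ (φ k) = j * k := by
        rw [e, map_mul, map_mul, hju, hui', e, hQ.izx, hQ.zz, ← mul_assoc, hii]
      rw [e1, map_mul, hju, e, hQ.zz] at hc
      have h9 : i * k = 1 * k := by rw [one_mul]; exact hc
      have h10 := mul_right_cancel h9
      rw [h10, one_mul] at hii
      exact hz hii.symm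
  refine ⟨hfix, ?_⟩
  obtain ⟨i, hi, -, -, hii, -, -⟩ := h.t3.ex4
  set k := φ i with hk
  have hkJ : k ∈ J := hu i hi hii
  have hkk : k * k = j := hsq i hii
  have h4 : k ≠ i := hfix i hi hii
  have h5 : k ≠ j * i := hneg i
  obtain ⟨hQ, hQQ⟩ := qt_of_QQ h hi hkJ hii hkk h4 h5
  set l := φ k with hl
  have hlJ : l ∈ J := hu k hkJ hkk
  have hll : l * l = j := hsq k hkk
  have hul : φ l = i := hcube i
  have hlQ : l ∈ Subgroup.closure ({i, k} : Set Y) := by rw [← hQQ]; exact mem_QQ hlJ hll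
  rcases hQ.mem_cases hlQ with e | e | e | e | e | e | e | e
  · exfalso; rw [e, one_mul] at hll; exact hz hll.symm
  · exfalso; rw [e, hzz] at hll; exact hz hll.symm
  · exfalso
    rw [e, ← hk] at hul
    exact h4 hul
  · exfalso
    rw [e, map_mul, hju, ← hk] at hul
    apply h5
    rw [← hul, ← mul_assoc, hzz, one_mul]
  · exfalso
    exact hfix k hkJ hkk e
  · exact absurd e (hneg k)
  · exact ⟨i, k, hi, hkJ, hQ, hQQ, hk.symm, hl.symm.trans e⟩
  · have hjJ : j ∈ J := h.mem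
    have e1 : (j * i) * (j * i) = j := by
      rw [mul_assoc, hQ.izx, hQ.zz, hii]
    have e2 : (j * k) * (j * k) = j := by
      rw [mul_assoc, hQ.jzx, hQ.zz, hkk]
    have e3 : j * k ≠ j * i := fun h6 => h4 (mul_left_cancel h6)
    have e4 : j * k ≠ j * (j * i) := fun h6 => h5 (mul_left_cancel h6)
    obtain ⟨hQ', hQQ'⟩ := qt_of_QQ h (mul_mem hjJ hi) (mul_mem hjJ hkJ) e1 e2 e3 e4
    refine ⟨j * i, j * k, mul_mem hjJ hi, mul_mem hjJ hkJ, hQ', hQQ', ?_, ?_⟩
    · rw [map_mul, hju, ← hk]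
    · rw [map_mul, hju, ← hl, e, ← mul_assoc j j, hzz, one_mul, mul_assoc j i, hQ.izx, hQ.zz]

end quat

section main

variable {J C M N U V : Subgroup Y} {j : Y}

namespace Rn

theorem cube (H : Rn M N U V) {u : Y} (hu : u ∈ U) : u * u * u = 1 := by
  have h1 : (⟨u, hu⟩ : U) ^ Nat.card U = 1 := pow_card_eq_one'
  rw [H.card] at h1
  have h2 : u ^ 3 = 1 := by simpa using congrArg Subtype.val h1
  rw [← h2, pow_succ, pow_two]

/-- `U` is generated by any of its non-trivial elements -/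
theorem gen [Finite Y] (H : Rn M N U V) {u : Y} (hu : u ∈ U) (hu1 : u ≠ 1) : U = Subgroup.zpowers u := by
  symm
  refine Subgroup.eq_of_le_of_card_ge (by rw [Subgroup.zpowers_le]; exact hu) ?_
  rw [H.card, Nat.card_zpowers]
  have h1 : orderOf u = 3 := orderOf_eq_prime (by rw [pow_succ, pow_two]; exact H.cube hu) hu1
  rw [h1]

theorem comm_of_gen [Finite Y] (H : Rn M N U V) {u : Y} (hu : u ∈ U) (hu1 : u ≠ 1) {t : Y} (ht : u * t = t * u) :
    ∀ v ∈ U, t * v = v * t := by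
  rw [H.gen hu hu1]
  rintro _ ⟨k, rfl⟩
  exact (Commute.zpow_right (show Commute t u from ht.symm) k)

/-- the four cosets of `N ∩ C(U)` -/
theorem cosets [Finite Y] (H : Rn M N U V) {a b c : Y} (haN : a ∈ N) (hbN : b ∈ N) (hcN : c ∈ N)
    (ha : a ∉ Subgroup.centralizer (U : Set Y)) (hb : b ∉ Subgroup.centralizer (U : Set Y))
    (hc : c ∉ Subgroup.centralizer (U : Set Y)) (hab : a⁻¹ * b ∉ Subgroup.centralizer (U : Set Y))
    (hac : a⁻¹ * c ∉ Subgroup.centralizer (U : Set Y)) (hbc : b⁻¹ * c ∉ Subgroup.centralizer (U : Set Y))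
    {y : Y} (hy : y ∈ N) : ∃ x, (x = 1 ∨ x = a ∨ x = b ∨ x = c) ∧ x ∈ N ∧
      x⁻¹ * y ∈ N ∧ x⁻¹ * y ∈ Subgroup.centralizer (U : Set Y) := by
  have h1 : ((Subgroup.centralizer (U : Set Y)).subgroupOf N).index = 4 := by
    have h2 := Subgroup.card_mul_index ((Subgroup.centralizer (U : Set Y)).subgroupOf N)
    have h3 : Nat.card ((Subgroup.centralizer (U : Set Y)).subgroupOf N) =
        Nat.card (N ⊓ Subgroup.centralizer (U : Set Y) : Subgroup Y) := by
      rw [← Subgroup.inf_subgroupOf_left]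
      exact Nat.card_congr (Subgroup.subgroupOfEquivOfLe inf_le_left).toEquiv
    rw [h3, ← H.four, mul_comm] at h2
    exact Nat.eq_of_mul_eq_mul_right Nat.card_pos h2
  rcases four_cosets h1 (a := ⟨a, haN⟩) (b := ⟨b, hbN⟩) (c := ⟨c, hcN⟩) ha hb hc hab hac hbc ⟨y, hy⟩ with
    h2 | h2 | h2 | h2
  · exact ⟨1, Or.inl rfl, one_mem _, by rw [inv_one, one_mul]; exact hy, by rw [inv_one, one_mul]; exact h2⟩
  · exact ⟨a, Or.inr (Or.inl rfl), haN, mul_mem (inv_mem haN) hy, h2⟩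
  · exact ⟨b, Or.inr (Or.inr (Or.inl rfl)), hbN, mul_mem (inv_mem hbN) hy, h2⟩
  · exact ⟨c, Or.inr (Or.inr (Or.inr rfl)), hcN, mul_mem (inv_mem hcN) hy, h2⟩

/-- the elements of `U` normalise `J` -/
theorem mem_normalizer [Finite Y] (H : Rn M N U V) (hO : pPrimeCore 2 ↥C = ⊥) (hj : ∀ y : Y, y * j = j * y)
    (h : IsPr J j) (hs : Sn J C) (hMC : M ≤ C) (hQN : QQ J j ≤ N) {u : Y} (hu : u ∈ U) :
    u ∈ Subgroup.normalizer (J : Set Y) := by
  rw [mem_normalizer_iff_cj]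
  by_contra hne
  have hu1 : u ≠ 1 := by
    rintro rfl
    exact hne (cj_one J)
  have h3 := H.cube hu
  have huM := H.UM hu
  have huC := hMC huM
  have huN := H.norm huM
  -- conjugates
  have hcj : ∀ g ∈ C, cj g J ≠ J → ∀ x ∈ J, ∀ y ∈ cj g J, x * y = y * x := by
    intro g hg hgne
    have h1 : IsSl (cj g J) j := by
      have h2 := (show IsSl J j from h.sl).cj g
      have h3 : g * j * g⁻¹ = j := by rw [hj g]; group
      rwa [h3] at h2
    have h2 : Sn (cj g J) C := by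
      have := hs.cj g
      rwa [mem_normalizer_iff_cj.1 (Subgroup.le_normalizer hg)] at this
    rcases eq_or_comm hO (fun x _ => hj x) h.sl h1 hs h2 with h3 | h3
    · exact absurd h3.symm hgne
    · exact h3
  have hne2 : cj (u * u) J ≠ J := by
    intro h1
    apply hne
    have h2 := congrArg (cj u) h1
    rw [← cj_mul, ← mul_assoc, h3, cj_one] at h2
    exact h2.symm
  have c1 := hcj u huC hne
  have c2 := hcj (u * u) (mul_mem huC huC) hne2
  -- `φ y = u y u⁻¹`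
  obtain ⟨φ, hφ⟩ : ∃ φ : Y →* Y, ∀ y, u * y * u⁻¹ = φ y := ⟨(MulAut.conj u).toMonoidHom, fun y => rfl⟩
  have hcube : ∀ y : Y, φ (φ (φ y)) = y := by
    intro y
    rw [← hφ, ← hφ, ← hφ]
    calc u * (u * (u * y * u⁻¹) * u⁻¹) * u⁻¹ = (u * u * u) * y * (u * u * u)⁻¹ := by group
      _ = y := by rw [h3]; group
  have hφ1 : ∀ y ∈ J, φ y ∈ cj u J := fun y hy => by rw [← hφ]; exact conj_mem_cj hy
  have hφ2 : ∀ y ∈ J, φ (φ y) ∈ cj (u * u) J := fun y hy => by
    rw [← hφ, ← hφ]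
    have : u * (u * y * u⁻¹) * u⁻¹ = (u * u) * y * (u * u)⁻¹ := by group
    rw [this]; exact conj_mem_cj hy
  have k01 : ∀ x ∈ J, ∀ y ∈ J, Commute x (φ y) := fun x hx y hy => c1 x hx _ (hφ1 y hy)
  have k02 : ∀ x ∈ J, ∀ y ∈ J, Commute x (φ (φ y)) := fun x hx y hy => c2 x hx _ (hφ2 y hy)
  have k12 : ∀ x ∈ J, ∀ y ∈ J, Commute (φ x) (φ (φ y)) := fun x hx y hy => by
    have h1 := k01 x hx y hy
    exact h1.map φ
  -- the elements
  obtain ⟨a, ha, b, hb, haj, hbj, hab⟩ := h.t3.ex4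
  have haN : a ∈ N := hQN (mem_QQ ha haj)
  have hbN : b ∈ N := hQN (mem_QQ hb hbj)
  have hφN : ∀ y ∈ N, φ y ∈ N := fun y hy => by
    rw [← hφ]; exact (Subgroup.mem_normalizer_iff.1 huN y).1 hy
  have huL : u ∈ U ⊔ V := Subgroup.mem_sup_left hu
  have hφL : ∀ y ∈ U ⊔ V, φ y ∈ U ⊔ V := fun y hy => by
    rw [← hφ]; exact mul_mem (mul_mem huL hy) (inv_mem huL)
  have hnL : ∀ y ∈ N, y⁻¹ * φ y ∈ U ⊔ V := by
    intro y hy
    rw [← hφ]
    have h1 : y⁻¹ * u * y⁻¹⁻¹ ∈ U ⊔ V :=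
      (Subgroup.mem_normalizer_iff.1 (H.normL (H.NM (inv_mem hy))) u).1 huL
    have h2 : y⁻¹ * (u * y * u⁻¹) = (y⁻¹ * u * y⁻¹⁻¹) * u⁻¹ := by group
    rw [h2]; exact mul_mem h1 (inv_mem huL)
  -- elements of `N` commuting with `u` commute with `⟨U, V⟩`
  have hcL : ∀ t ∈ N, φ t = t → ∀ l ∈ U ⊔ V, Commute t l := by
    intro t ht htu l hl
    have h1 : u * t = t * u := by rw [← hφ, mul_inv_eq_iff_eq_mul] at htu; exact htu
    have h2 := H.comm_of_gen hu hu1 h1
    have h4 := H.cent t ht h2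
    have h5 : U ⊔ V ≤ Subgroup.centralizer ({t} : Set Y) := by
      refine sup_le (fun x hx => ?_) (fun x hx => ?_)
      · rw [Subgroup.mem_centralizer_singleton_iff]; exact (h2 x hx).symm
      · rw [Subgroup.mem_centralizer_singleton_iff]; exact (h4 x hx).symm
    exact (Subgroup.mem_centralizer_singleton_iff.1 (h5 hl)).symm
  have hcen : ∀ t, t ∈ Subgroup.centralizer (U : Set Y) ↔ φ t = t := by
    intro t
    rw [← hφ, mul_inv_eq_iff_eq_mul]
    constructor
    · intro h1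
      exact Subgroup.mem_centralizer_iff.1 h1 u hu
    · intro h1
      rw [Subgroup.mem_centralizer_iff]
      intro v hv
      exact (H.comm_of_gen hu hu1 h1 v hv).symm
  set x := a⁻¹ * φ a with hx
  set y := φ (b⁻¹ * φ b) with hy
  have hxN : x ∈ N := mul_mem (inv_mem haN) (hφN a haN)
  have hyN : y ∈ N := hφN _ (mul_mem (inv_mem hbN) (hφN b hbN))
  have hxL : x ∈ U ⊔ V := hnL a haN
  have hyL : y ∈ U ⊔ V := hφL _ (hnL b hbN)
  have hy' : y = (φ b)⁻¹ * φ (φ b) := by rw [hy, map_mul, map_inv]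
  -- `x` and `y` do not commute
  have hxy : ¬ Commute x y := by
    intro h1
    have h2 : x * y = y * x := h1
    rw [hy', hx] at h2
    have e1 := (k01 a ha b hb)
    have e2 := (k02 a ha b hb)
    have e3 := (k12 a ha b hb)
    -- cancel `a⁻¹` and `φ (φ b)`
    have h4 : a⁻¹ * φ a * ((φ b)⁻¹ * φ (φ b)) = a⁻¹ * (φ a * (φ b)⁻¹) * φ (φ b) := by group
    have h5 : (φ b)⁻¹ * φ (φ b) * (a⁻¹ * φ a) = a⁻¹ * ((φ b)⁻¹ * φ a) * φ (φ b) := by
      have c1 : Commute ((φ b)⁻¹) a⁻¹ := e1.symm.inv_inv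
      have c2 : Commute (φ (φ b)) a⁻¹ := e2.symm.inv_right
      have c3 : Commute (φ (φ b)) (φ a) := e3.symm
      calc (φ b)⁻¹ * φ (φ b) * (a⁻¹ * φ a) = (φ b)⁻¹ * (φ (φ b) * a⁻¹) * φ a := by group
        _ = (φ b)⁻¹ * (a⁻¹ * φ (φ b)) * φ a := by rw [c2.eq]
        _ = ((φ b)⁻¹ * a⁻¹) * (φ (φ b) * φ a) := by group
        _ = (a⁻¹ * (φ b)⁻¹) * (φ a * φ (φ b)) := by rw [c1.eq, c3.eq]
        _ = a⁻¹ * ((φ b)⁻¹ * φ a) * φ (φ b) := by group
    rw [h4, h5] at h2
    have h6 : φ a * (φ b)⁻¹ = (φ b)⁻¹ * φ a := mul_left_cancel (mul_right_cancel h2)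
    have h7 : Commute (φ a) (φ b) := by
      have h8 : Commute (φ a) (φ b)⁻¹ := h6
      simpa using h8.inv_right
    have h9 := (h7.map φ).map φ
    rw [hcube, hcube] at h9
    exact hab h9
  -- `x` commutes with `φ x`, `φ (φ x)`
  have hxx1 : Commute x (φ x) := by
    have e1 := k01 a ha a ha
    have e2 := k02 a ha a ha
    have e3 := k12 a ha a ha
    have h1 : φ x = (φ a)⁻¹ * φ (φ a) := by rw [hx, map_mul, map_inv]
    rw [h1, hx]
    refine Commute.mul_left ?_ ?_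
    · exact (e1.inv_inv).mul_right (e2.inv_left)
    · exact ((Commute.refl (φ a)).inv_right).mul_right e3
  have hxx2 : Commute x (φ (φ x)) := by
    have h1 := (hxx1.map φ).map φ
    rw [hcube] at h1
    exact h1.symm
  -- the case `x ∈ C(U)`
  by_cases hxc : φ x = x
  · exact hxy (hcL x hxN hxc y hyL)
  have hφxN := hφN x hxN
  have hφφxN := hφN _ hφxN
  have hn1 : x ∉ Subgroup.centralizer (U : Set Y) := fun h1 => hxc ((hcen x).1 h1)
  have hn2 : φ x ∉ Subgroup.centralizer (U : Set Y) := by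
    intro h1
    have h2 := (hcen _).1 h1
    apply hxc
    have h4 := congrArg φ h2
    rw [hcube] at h4
    rw [h2] at h4
    exact h4.symm
  have hn3 : φ (φ x) ∉ Subgroup.centralizer (U : Set Y) := by
    intro h1
    have h2 := (hcen _).1 h1
    rw [hcube] at h2
    apply hxc
    have h4 := congrArg φ h2
    rw [hcube] at h4
    exact h4
  have hn4 : x⁻¹ * φ x ∉ Subgroup.centralizer (U : Set Y) := by
    intro h1
    set c := x⁻¹ * φ x with hc
    have h2 : φ c = c := (hcen _).1 h1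
    have hcN : c ∈ N := mul_mem (inv_mem hxN) hφxN
    have e1 : φ x = x * c := by rw [hc]; group
    have e2 := hcube x
    rw [e1, map_mul, e1, h2, map_mul, map_mul, e1, h2] at e2
    have e3 : c * c * c = 1 := by
      have : x * (c * c * c) = x * 1 := by
        rw [mul_one]
        calc x * (c * c * c) = x * c * c * c := by group
          _ = x := e2
      exact mul_left_cancel this
    obtain ⟨m, hm⟩ := H.two ⟨c, hcN⟩
    have e4 : c = 1 := SLThree.Sl.eq_one_of_cube e3 (n := m) (by simpa using congrArg Subtype.val hm)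
    rw [e4, mul_one] at e1
    exact hxc e1
  have hn6 : (φ x)⁻¹ * φ (φ x) ∉ Subgroup.centralizer (U : Set Y) := by
    intro h1
    have h2 := (hcen _).1 h1
    apply hn4
    rw [hcen]
    have h4 : φ (x⁻¹ * φ x) = (φ x)⁻¹ * φ (φ x) := by rw [map_mul, map_inv]
    rw [← h4] at h2
    have h5 := congrArg φ h2
    rw [hcube] at h5
    rw [h2] at h5
    exact h5.symm
  have hn5 : x⁻¹ * φ (φ x) ∉ Subgroup.centralizer (U : Set Y) := by
    intro h1
    have h2 := (hcen _).1 h1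
    apply hn4
    rw [map_mul, map_inv, hcube] at h2
    -- `(φ x)⁻¹ * x = x⁻¹ * φ (φ x)` lies in the centralizer
    have h4 : (φ x)⁻¹ * x ∈ Subgroup.centralizer (U : Set Y) := by rw [h2]; exact h1
    have h5 := inv_mem h4
    rwa [mul_inv_rev, inv_inv] at h5
  obtain ⟨s, hsx, -, hs1, hs2⟩ := H.cosets hxN hφxN hφφxN hn1 hn2 hn3 hn4 hn5 hn6 hyN
  apply hxy
  have h1 : Commute x (s⁻¹ * y) := (hcL _ hs1 ((hcen _).1 hs2) x hxL).symm
  have h2 : Commute x s := by
    rcases hsx with rfl | rfl | rfl | rfl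
    · exact Commute.one_right x
    · exact Commute.refl x
    · exact hxx1
    · exact hxx2
  have h4 := h2.mul_right h1
  rwa [mul_inv_cancel_left] at h4

end Rn

/-- **the rank one group is `J`** -/
theorem eq_sup [Finite Y] (H : Rn M N U V) (hO : pPrimeCore 2 ↥C = ⊥)
    (hj : ∀ y : Y, y * j = j * y) (h : IsPr J j) (hs : Sn J C) (hMC : M ≤ C) (hsL : Sn (U ⊔ V) C)
    (hQN : QQ J j ≤ N) (hne : ¬ ∀ q ∈ QQ J j, ∀ u ∈ U, q * u = u * q) : J = U ⊔ V := by
  have hUJ : U ≤ Subgroup.normalizer (J : Set Y) := fun u hu => H.mem_normalizer hO hj h hs hMC hQN hu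
  obtain ⟨u, hu, hu1⟩ : ∃ u ∈ U, u ≠ 1 := by
    by_contra h0
    push Not at h0
    have h1 : U = ⊥ := (Subgroup.eq_bot_iff_forall _).2 h0
    have h2 := H.card
    rw [h1, Subgroup.card_bot] at h2
    omega
  have h3 := H.cube hu
  obtain ⟨hfix, i, k, hi, hk, hQ, hQQ, hik, hkk⟩ := exists_perm (u := u) h hj
    (fun y hy _ => (Subgroup.mem_normalizer_iff.1 (hUJ hu) y).1 hy) h3 (by
      intro h1
      apply hne
      intro q hq v hv
      refine H.comm_of_gen hu hu1 ?_ v hv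
      rcases QQ_cases h hq with h2 | h2 | h2
      · exact h1 q (QQ_le hq) h2
      · rw [h2, mul_one, one_mul]
      · rw [h2]; exact hj u)
  have hz := h.t3.z_ne
  have hiN : i ∈ N := hQN (mem_QQ hi hQ.i2)
  have hkN : k ∈ N := hQN (mem_QQ hk hQ.j2)
  have hjN : j ∈ N := hQN (mem_z_QQ h)
  have hikJ : i * k ∈ J := mul_mem hi hk
  have hiksq : (i * k) * (i * k) = j := by
    calc (i * k) * (i * k) = i * (k * i) * k := by group
      _ = i * (j * (i * k)) * k := by rw [hQ.ji]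
      _ = j * ((i * i) * (k * k)) := by rw [hQ.izx]; group
      _ = j := by rw [hQ.i2, hQ.j2, hQ.z2, mul_one]
  -- elements of order 4 of `J` are not in the centralizer of `U`
  have hn : ∀ y ∈ J, y * y = j → y ∉ Subgroup.centralizer (U : Set Y) := by
    intro y hy hyj h1
    exact hfix y hy hyj (Subgroup.mem_centralizer_iff.1 h1 u hu)
  have e1 : i⁻¹ * k = j * (i * k) := by rw [hQ.i_inv, mul_assoc]
  have e2 : i⁻¹ * (i * k) = k := by group
  have e3 : k⁻¹ * (i * k) = j * i := by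
    rw [hQ.j_inv]
    calc j * k * (i * k) = j * ((k * i) * k) := by group
      _ = j * (j * (i * k) * k) := by rw [hQ.ji]
      _ = j * (j * (i * (k * k))) := by group
      _ = i * j := by rw [hQ.j2, ← mul_assoc j j, hQ.z2, one_mul]
      _ = j * i := hQ.iz
  have sqj : ∀ y : Y, y * y = j → (j * y) * (j * y) = j := by
    intro y hy
    calc (j * y) * (j * y) = j * (y * j) * y := by group
      _ = j * (j * y) * y := by rw [hj y]
      _ = (j * j) * (y * y) := by group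
      _ = j := by rw [hQ.z2, one_mul, hy]
  -- `U ⊔ V = closure {i, u}`
  have hgen : U ⊔ V = Subgroup.closure {i, u} := by
    apply le_antisymm
    · have hUc : U ≤ Subgroup.closure ({i, u} : Set Y) := by
        rw [H.gen hu hu1, Subgroup.zpowers_le]
        exact Subgroup.subset_closure (by simp)
      have hic : i ∈ Subgroup.closure ({i, u} : Set Y) := Subgroup.subset_closure (by simp)
      have huc : u ∈ Subgroup.closure ({i, u} : Set Y) := Subgroup.subset_closure (by simp)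
      have hkc : k ∈ Subgroup.closure ({i, u} : Set Y) := by
        rw [← hik]; exact mul_mem (mul_mem huc hic) (inv_mem huc)
      refine sup_le hUc ?_
      obtain ⟨nn, hnn, hV⟩ := H.conj
      obtain ⟨m, hm, hmn⟩ := H.all nn hnn
      have hV' : V = cj m U := by
        have h4 : nn = m * (m⁻¹ * nn) := by group
        rw [hV, h4, cj_mul, mem_normalizer_iff_cj.1 hmn]
      obtain ⟨x, hx, -, -, hx2⟩ := H.cosets (a := i) (b := k) (c := i * k) hiN hkN (mul_mem hiN hkN) (hn i hi hQ.i2)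
        (hn k hk hQ.j2) (hn _ hikJ hiksq) (by rw [e1]; exact hn _ (mul_mem h.mem hikJ) (sqj _ hiksq))
        (by rw [e2]; exact hn k hk hQ.j2) (by rw [e3]; exact hn _ (mul_mem h.mem hi) (sqj _ hQ.i2)) hm
      have hxc : x ∈ Subgroup.closure ({i, u} : Set Y) := by
        rcases hx with rfl | rfl | rfl | rfl
        · exact one_mem _
        · exact hic
        · exact hkc
        · exact mul_mem hic hkc
      have hV2 : V = cj x U := by
        have h4 : m = x * (x⁻¹ * m) := by group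
        have h5 : x⁻¹ * m ∈ Subgroup.normalizer (U : Set Y) := Nodes.ClsNorm.centralizer_le_normalizer' _ hx2
        rw [hV', h4, cj_mul, mem_normalizer_iff_cj.1 h5]
      rw [hV2]
      rintro _ ⟨v, hv, rfl⟩
      exact mul_mem (mul_mem hxc (hUc hv)) (inv_mem hxc)
    · rw [Subgroup.closure_le]
      have huL : u ∈ U ⊔ V := Subgroup.mem_sup_left hu
      rintro y (rfl | rfl)
      · -- `i⁻¹ k ∈ L`
        have h1 : y⁻¹ * k ∈ U ⊔ V := by
          rw [← hik]
          have h2 : y⁻¹ * u * y⁻¹⁻¹ ∈ U ⊔ V :=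
            (Subgroup.mem_normalizer_iff.1 (H.normL (H.NM (inv_mem hiN))) u).1 huL
          have h4 : y⁻¹ * (u * y * u⁻¹) = (y⁻¹ * u * y⁻¹⁻¹) * u⁻¹ := by group
          rw [h4]; exact mul_mem h2 (inv_mem huL)
        have h2 : k⁻¹ * (y * k) ∈ U ⊔ V := by
          have h4 : k⁻¹ * (y * k) = u * (y⁻¹ * k) * u⁻¹ := by
            rw [← hkk]
            have h5 : k⁻¹ * (u * k * u⁻¹) = (u * y * u⁻¹)⁻¹ * (u * k * u⁻¹) := by rw [hik]
            rw [h5]; group
          rw [h4]; exact mul_mem (mul_mem huL h1) (inv_mem huL)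
        rw [e3] at h2
        have h4 : j ∈ U ⊔ V := by
          rw [← sqj y hQ.i2]; exact mul_mem h2 h2
        exact (Subgroup.mul_mem_cancel_left _ h4).1 h2
      · exact huL
  have hSl : Sl (U ⊔ V) j i k u := ⟨hQ, hik, hkk, h3, hgen⟩
  rcases eq_or_comm hO (fun x _ => hj x) h.sl ⟨i, k, u, hSl⟩ hs hsL with h1 | h1
  · exact h1
  · exact absurd (h1 i hi k hSl.hj) hQ.not_comm

end main

end Cfsg.Agent.OddHalf.NI3.FThree

end

-- merged: Cfsg.Agent.OddHalf.NI3.FThree.B3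
section

/-!
# (F2'₃): kind `B₃`

* `St.levi_sn` : `⟨X b, X (-b)⟩` is subnormal in `C(z r)`;
* `St.eq_LL` : `J = ⟨X b, X (-b)⟩`, `|X b| = 3`.
-/

set_option autoImplicit false
set_option linter.unusedSectionVars false
set_option linter.dupNamespace false

namespace Cfsg.Agent.OddHalf.NI3.FThree

open Cfsg
open CoxeterSystem Cfsg.Agent.ChevalleyStructure.CoxeterGeom Cfsg.Agent.Tits.Roots Cfsg.Agent.Tits.Core
  Cfsg.Agent.Tits.RootComb Cfsg.Agent.Nodes.Comb Cfsg.Agent.Nodes.Reps Cfsg.Agent.Nodes.BNOf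
  Cfsg.Agent.Nodes.RGDLib Cfsg.Agent.Nodes.Chart Cfsg.Agent.Nodes.Coroot Cfsg.Agent.Nodes.FreeTorus
  Cfsg.Agent.Nodes.SubComb Cfsg.Agent.Nodes.Bruhat Cfsg.Agent.Nodes.StabComb Cfsg.Agent.Nodes.Perp
  Cfsg.Agent.Nodes.Sub Cfsg.Agent.Nodes.ClsSub
open Cfsg.Agent.OddHalf.NI.FTwo (R1 commute_cj mem_of_sq_mem cj_T cj_LL le_T_DD₂)

variable {I W Y : Type*} [Fintype I] [DecidableEq I] [Group W] [Fintype W] [Group Y] {M : CoxeterMatrix I}
  {cs : CoxeterSystem M W} {A : I → I → ℤ} {h : IsCartan M A} {p : ℕ} {T : Subgroup Y} {n : I → Y}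
  {X : (I → ℤ) → Subgroup Y} {R : Set (I → ℤ)} {Z : (I → ℤ) → Subgroup Y} {z : (I → ℤ) → Y}
  {J : Subgroup Y} {j : Y} {r : I → ℤ}

/-- the roots orthogonal to `r` in kind `B₃` -/
structure Fr (cs : CoxeterSystem M W) {A : I → I → ℤ} (h : IsCartan M A) (X : (I → ℤ) → Subgroup Y)
    (R : Set (I → ℤ)) (Z : (I → ℤ) → Subgroup Y) (r r' b : I → ℤ) : Prop where
  r'_mem : r' ∈ R
  rr' : form cs h r' r = 0
  b_root : IsRoot cs h b
  b_not : b ∉ R
  br : form cs h b r = 0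
  br' : form cs h b r' = 0
  perp : ∀ y, IsRoot cs h y → form cs h y r = 0 → y = r' ∨ y = -r' ∨ y = b ∨ y = -b
  zx : ∀ s ∈ R, Z s = X s
  ab : ∀ x ∈ X b, ∀ y ∈ X b, x * y = y * x

namespace St

/-- `p = 3` -/
theorem p_eq [Finite Y] (C : Cls cs h p T n X R Z z) (S : St cs h p T X R Z z r J j) : p = 3 := by
  have : Fact p.Prime := ⟨S.prime⟩
  have h1 : Nat.card (KK Z r) = 24 := by
    obtain ⟨i, k, d, hl⟩ := (S.cl r S.mem).pr.sl
    exact hl.card
  have hp : IsPGroup p (Z r) := (C.rgd.pgrp' (C.root r S.mem)).to_le (C.le r S.mem)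
  obtain ⟨m, hm⟩ := IsPGroup.iff_card.1 hp
  have h2 : Nat.card (Z r) ∣ Nat.card (KK Z r) := Subgroup.card_dvd_of_le le_sup_left
  have h3 : m ≠ 0 := by
    rintro rfl
    rw [pow_zero] at hm
    exact C.ne_bot r S.mem (Subgroup.eq_bot_of_card_eq _ hm)
  have h4 : p ∣ 24 := by
    rw [← h1]
    refine dvd_trans ?_ h2
    rw [hm]; exact dvd_pow_self p h3
  have h5 : p ∣ 2 ^ 3 * 3 := by norm_num; exact h4
  rcases (Nat.Prime.dvd_mul S.prime).1 h5 with h6 | h6
  · exact absurd ((Nat.prime_dvd_prime_iff_eq S.prime Nat.prime_two).1 (S.prime.dvd_of_dvd_pow h6)) S.odd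
  · exact (Nat.prime_dvd_prime_iff_eq S.prime Nat.prime_three).1 h6

/-- `|Z s| = 3` -/
theorem card_Z [Finite Y] (C : Cls cs h p T n X R Z z) (S : St cs h p T X R Z z r J j) {s : I → ℤ} (hs : s ∈ R) :
    Nat.card (Z s) = 3 := by
  have h0 := S.p_eq C
  have : Fact (Nat.Prime 3) := ⟨Nat.prime_three⟩
  have h1 : Nat.card (KK Z s) = 24 := by
    obtain ⟨i, k, d, hl⟩ := (S.cl s hs).pr.sl
    exact hl.card
  have hp : IsPGroup 3 (Z s) := by
    rw [← h0]; exact (C.rgd.pgrp' (C.root s hs)).to_le (C.le s hs)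
  obtain ⟨m, hm⟩ := IsPGroup.iff_card.1 hp
  have h2 : Nat.card (Z s) ∣ Nat.card (KK Z s) := Subgroup.card_dvd_of_le le_sup_left
  rw [hm, h1] at h2
  have h3 : m ≠ 0 := by
    rintro rfl
    rw [pow_zero] at hm
    exact C.ne_bot s hs (Subgroup.eq_bot_of_card_eq _ hm)
  have h4 : m < 2 := by
    by_contra h5
    push Not at h5
    have h6 : 3 ^ 2 ∣ 24 := (pow_dvd_pow 3 h5).trans h2
    norm_num at h6
  have h5 : m = 1 := by omega
  rw [hm, h5, pow_one]

theorem LL_le_cent (C : Cls cs h p T n X R Z z) (S : St cs h p T X R Z z r J j) {b : I → ℤ} (hb : IsRoot cs h b)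
    (hbr : form cs h b r = 0) : LL X b ≤ Subgroup.centralizer ({z r} : Set Y) :=
  sup_le (S.zr_comm C hb hbr) (S.zr_comm C hb.neg (by rw [form_neg_left, hbr, neg_zero]))

theorem T_le_cent (C : Cls cs h p T n X R Z z) (S : St cs h p T X R Z z r J j) :
    T ≤ Subgroup.centralizer ({z r} : Set Y) := fun t ht => mem_cent.2 (C.z_T r S.mem t ht).symm

theorem LL_le_GG' {b : I → ℤ} (hb : IsRoot cs h b) : LL X b ≤ GG cs h T X :=
  sup_le (X_le_GG hb) (X_le_GG hb.neg)

/-- a reflection-type statement: the elements of `N` centralising `z r` preserve `± b` -/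
theorem rep_b [Finite Y] (C : Cls cs h p T n X R Z z) (S : St cs h p T X R Z z r J j) {r' b : I → ℤ}
    (F : Fr cs h X R Z r r' b) {w : W} {k : Y} (hk : Rp cs C.rgd.nsys w k) (hkz : k * z r = z r * k) :
    rep cs h w b = b ∨ rep cs h w b = -b := by
  have hr := S.mem
  have hz1 : z (rep cs h w r) = z r := by
    rw [← Nodes.ClsNorm.conj_z C hk hr, hkz]; group
  have hwR : ∀ y, rep cs h w y ∈ R → y ∈ R := by
    intro y hy
    have := C.act _ hy w⁻¹
    rwa [rep_inv_apply] at this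
  have hwR' : ∀ y, rep cs h w⁻¹ y ∈ R → y ∈ R := by
    intro y hy
    have := C.act _ hy w
    rwa [rep_apply_inv] at this
  have hbR : rep cs h w b ∉ R := fun h1 => F.b_not (hwR b h1)
  have hnb : -b ∉ R := fun h1 => F.b_not (by rw [← neg_neg b]; exact Nodes.Perp.neg_mem C h1)
  have hR1 := C.act r hr w
  -- `w r` is `± r` or orthogonal to `r`
  have hcases : rep cs h w r = r ∨ rep cs h w r = -r ∨ form cs h (rep cs h w r) r = 0 := by
    by_contra hcon
    push Not at hcon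
    obtain ⟨c, hc, hc1⟩ := Z_ne_bot' C hR1
    have h1 := C.z_inv r hr _ (C.root _ hR1) hcon.1 hcon.2.1 hcon.2.2 c (C.le _ hR1 hc)
    have h2 := C.z_cent _ hR1 c hc
    rw [hz1] at h2
    rw [h2, mul_assoc, C.z_sq r hr, mul_one] at h1
    obtain ⟨m, hm⟩ := (C.rgd.pgrp' (C.root _ hR1)) ⟨c, C.le _ hR1 hc⟩
    have h3 : c ∈ (⊥ : Subgroup Y) := by
      refine mem_of_sq_mem (k := p ^ m) ((S.prime.odd_of_ne_two S.odd).pow) (by simpa using congrArg Subtype.val hm) ?_
      rw [Subgroup.mem_bot]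
      nth_rewrite 1 [h1]
      exact inv_mul_cancel c
    exact hc1 (Subgroup.mem_bot.1 h3)
  have hb0 : form cs h (rep cs h w b) (rep cs h w r) = 0 := by rw [form_rep]; exact F.br
  have fin1 : form cs h (rep cs h w b) r = 0 → rep cs h w b = b ∨ rep cs h w b = -b := by
    intro h1
    rcases F.perp _ (F.b_root.act w) h1 with h2 | h2 | h2 | h2
    · exact absurd (h2 ▸ F.r'_mem) hbR
    · exact absurd (h2 ▸ Nodes.Perp.neg_mem C F.r'_mem) hbR
    · exact Or.inl h2
    · exact Or.inr h2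
  rcases hcases with h1 | h1 | h1
  · rw [h1] at hb0; exact fin1 hb0
  · rw [h1, form_neg_right, neg_eq_zero] at hb0; exact fin1 hb0
  · -- `w r = ± r'`
    have h2 : rep cs h w r = r' ∨ rep cs h w r = -r' := by
      rcases F.perp _ (C.root _ hR1) h1 with h2 | h2 | h2 | h2
      · exact Or.inl h2
      · exact Or.inr h2
      · exact absurd (h2 ▸ hR1) F.b_not
      · exact absurd (h2 ▸ hR1) hnb
    have h3 : form cs h b (rep cs h w r) = 0 := by
      rcases h2 with h2 | h2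
      · rw [h2]; exact F.br'
      · rw [h2, form_neg_right, F.br', neg_zero]
    have h4 : form cs h (rep cs h w⁻¹ b) r = 0 := by
      rw [form_rep_left, inv_inv]; exact h3
    rcases F.perp _ (F.b_root.act _) h4 with h5 | h5 | h5 | h5
    · exact absurd (hwR' b (h5 ▸ F.r'_mem)) F.b_not
    · exact absurd (hwR' b (h5 ▸ Nodes.Perp.neg_mem C F.r'_mem)) F.b_not
    · left
      have := congrArg (rep cs h w) h5
      rw [rep_apply_inv] at this
      exact this.symm
    · right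
      have := congrArg (rep cs h w) h5
      rw [rep_apply_inv, map_neg] at this
      exact neg_eq_iff_eq_neg.1 this.symm

/-- `⟨X b, X (-b)⟩` is normal in `C_GG(z r)` -/
theorem levi_norm [Finite Y] (C : Cls cs h p T n X R Z z) (S : St cs h p T X R Z z r J j) {r' b : I → ℤ}
    (F : Fr cs h X R Z r r' b) :
    GG cs h T X ⊓ Subgroup.centralizer ({z r} : Set Y) ≤ Subgroup.normalizer (LL X b : Set Y) := by
  have hr := S.mem
  have hb := F.b_root
  rintro g ⟨hgG, hgz⟩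
  have hS : ({z r} : Set Y) ⊆ T := by
    rintro _ rfl
    exact C.z_torus r hr
  obtain ⟨u, hu, w, k, hk, hkz, v, hv, rfl⟩ := Nodes.NormalForm.mem_centralizer C.rgd hS hgG hgz
  -- the root groups
  have hle : RGD.Sup (fun x => X x ⊓ Subgroup.centralizer ({z r} : Set Y)) (RGD.Pos cs h) ≤
      Subgroup.normalizer (LL X b : Set Y) := by
    refine RGD.Sup_le fun x hx => ?_
    have hxr : IsRoot cs h x := hx.1
    -- a member of `R` orthogonal to `b`
    have hR : ∀ s ∈ R, form cs h b s = 0 → X s ≤ Subgroup.normalizer (LL X b : Set Y) := by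
      intro s hs h0
      refine le_trans ?_ (Nodes.ClsNorm.centralizer_le_normalizer' _)
      intro a ha
      rw [Subgroup.mem_centralizer_iff]
      have ha' : a ∈ KK Z s := Subgroup.mem_sup_left (by rw [F.zx s hs]; exact ha)
      have h1 : LL X b ≤ Subgroup.centralizer ({a} : Set Y) := by
        refine sup_le (fun y hy => ?_) (fun y hy => ?_)
        · exact mem_cent.2 (X_cm_KK C hs hb h0 y hy a ha')
        · exact mem_cent.2 (X_cm_KK C hs hb.neg (by rw [form_neg_left, h0, neg_zero]) y hy a ha')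
      intro y hy
      exact mem_cent.1 (h1 hy)
    by_cases h1 : form cs h x r = 0
    · refine inf_le_left.trans ?_
      rcases F.perp x hxr h1 with rfl | rfl | rfl | rfl
      · exact hR _ F.r'_mem F.br'
      · exact hR _ (Nodes.Perp.neg_mem C F.r'_mem) (by rw [form_neg_right, F.br', neg_zero])
      · exact (le_sup_left : X x ≤ LL X x).trans Subgroup.le_normalizer
      · exact (le_sup_right : X (-b) ≤ LL X b).trans Subgroup.le_normalizer
    · by_cases h2 : x = r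
      · refine inf_le_left.trans ?_
        rw [h2]; exact hR r hr F.br
      by_cases h3 : x = -r
      · refine inf_le_left.trans ?_
        rw [h3]; exact hR _ (Nodes.Perp.neg_mem C hr) (by rw [form_neg_right, F.br, neg_zero])
      · rintro a ⟨ha, haz⟩
        have h4 := C.z_inv r hr x hxr h2 h3 h1 a ha
        have h5 : a * z r = z r * a := mem_cent.1 haz
        rw [← h5, mul_assoc, C.z_sq r hr, mul_one] at h4
        obtain ⟨m, hm⟩ := (C.rgd.pgrp' hxr) ⟨a, ha⟩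
        have h6 : a ∈ (⊥ : Subgroup Y) := by
          refine mem_of_sq_mem (k := p ^ m) ((S.prime.odd_of_ne_two S.odd).pow)
            (by simpa using congrArg Subtype.val hm) ?_
          rw [Subgroup.mem_bot]
          nth_rewrite 1 [h4]
          exact inv_mul_cancel a
        rw [Subgroup.mem_bot.1 h6]; exact one_mem _
  refine mul_mem (mul_mem (hle hu) ?_) (hle hv)
  rw [mem_normalizer_iff_cj, cj_LL C.rgd hk hb]
  have hkz' : k * z r = z r * k := mem_cent.1 hkz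
  rcases S.rep_b C F hk hkz' with h1 | h1
  · rw [h1]
  · rw [h1]; unfold LL; rw [neg_neg, sup_comm]

/-- `⟨X b, X (-b)⟩` is subnormal in `C(z r)` -/
theorem levi_sn [Finite Y] (C : Cls cs h p T n X R Z z) (S : St cs h p T X R Z z r J j) {r' b : I → ℤ}
    (F : Fr cs h X R Z r r' b) : Sn (LL X b) (Subgroup.centralizer ({z r} : Set Y)) := by
  have h1 : Sn (LL X b) (GG cs h T X ⊓ Subgroup.centralizer ({z r} : Set Y)) :=
    Sn.of_normal (le_inf (LL_le_GG' F.b_root) (S.LL_le_cent C F.b_root F.br)) (S.levi_norm C F)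
  refine h1.trans (Sn.of_normal inf_le_right ?_)
  exact (le_inf S.norm Subgroup.le_normalizer).trans Subgroup.inf_normalizer_le_normalizer_inf

/-- `O₂(J) ≤ T ⟨X b, X (-b)⟩` -/
theorem QQ_le_T_LL [Finite Y] (C : Cls cs h p T n X R Z z) (S : St cs h p T X R Z z r J j) {r' b : I → ℤ}
    (F : Fr cs h X R Z r r' b) : QQ J j ≤ T ⊔ LL X b := by
  have h1 := le_T_DD₂ C S.mem F.r'_mem F.rr' S.ge (fun x hx y hy => S.comm x (QQ_le hx) y hy)
    (fun x hx y hy => S.KK_comm C F.r'_mem F.rr' x (QQ_le hx) y hy)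
  refine h1.trans (sup_le_sup_left (RGD.Sup_le fun y hy => ?_) _)
  have h2 := hy.2 r (Or.inl rfl)
  have h3 := hy.2 r' (Or.inr rfl)
  have h4 := form_pos cs h (C.root r' F.r'_mem).ne_zero
  rcases F.perp y hy.1 h2 with rfl | rfl | rfl | rfl
  · omega
  · rw [form_neg_left] at h3; omega
  · exact le_sup_left
  · exact le_sup_right

/-- the rank one group of `b` -/
theorem exists_rn [Finite Y] (C : Cls cs h p T n X R Z z) (S : St cs h p T X R Z z r J j) {r' b : I → ℤ}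
    (F : Fr cs h X R Z r r' b) (hne : ¬ ∀ q ∈ QQ J j, ∀ u ∈ X b, q * u = u * q) :
    ∃ N, Rn (T ⊔ LL X b) N (X b) (X (-b)) ∧ QQ J j ≤ N := by
  obtain rfl := S.p_eq C
  have : Fact (Nat.Prime 3) := ⟨Nat.prime_three⟩
  have hb := F.b_root
  set M := T ⊔ LL X b with hM
  set E := GG cs h T X ⊓ Subgroup.centralizer ({z r} : Set Y) with hE
  have hME : M ≤ E := le_inf (sup_le T_le_GG (LL_le_GG' hb)) (sup_le (S.T_le_cent C) (S.LL_le_cent C hb F.br))
  set N := P2 E ⊓ M with hN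
  have hN2 : IsPGroup 2 N := (P2_pgrp E).to_le inf_le_left
  have hNM : N ≤ M := inf_le_right
  have hnorm : M ≤ Subgroup.normalizer (N : Set Y) :=
    (le_inf (hME.trans (le_normalizer_P2 E)) Subgroup.le_normalizer).trans Subgroup.inf_normalizer_le_normalizer_inf
  have hQN : QQ J j ≤ N := by
    refine le_inf (le_P2 ((QQ_sn S.pr S.sn).restrict inf_le_right (le_inf S.ge ?_)) (QQ_pgrp S.pr))
      (S.QQ_le_T_LL C F)
    exact QQ_le.trans S.sn.1
  obtain ⟨nn, hnn, hconj, H⟩ := r1_root C.rgd hb F.ab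
  have hXM : X b ≤ M := le_sup_left.trans le_sup_right
  have hXb : X b ≠ ⊥ := Nodes.StdConn.X_ne_bot C hb
  have hXb' : (X b).subgroupOf M ≠ ⊥ := by
    rw [Ne, Subgroup.subgroupOf_eq_bot, disjoint_iff, inf_eq_left.2 hXM]
    exact hXb
  have hNn : (N.subgroupOf M).Normal := (Subgroup.normal_subgroupOf_iff_le_normalizer hNM).2 hnorm
  have hN2' : IsPGroup 2 (N.subgroupOf M) := hN2.comap_subtype
  have hBn : T ⊔ X b ≤ Subgroup.normalizer (X b : Set Y) :=
    sup_le (fun t ht => mem_normalizer_iff_cj.2 (C.rgd.tor _ hb t ht)) Subgroup.le_normalizer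
  have hXp : IsPGroup 3 (X b) := C.rgd.pgrp' hb
  obtain ⟨hall, hcard, hfour⟩ := two H hNn hN2' (by
    intro h1
    apply hne
    intro q hq u hu
    exact congrArg Subtype.val (h1 ⟨q, hNM (hQN hq)⟩ (hQN hq) ⟨u, hXM hu⟩ hu))
  have hNB : (N ⊓ Subgroup.centralizer (X b : Set Y)).subgroupOf M = N.subgroupOf M ⊓ (T ⊔ X b).subgroupOf M := by
    ext ⟨t, ht⟩
    rw [Subgroup.mem_inf, Subgroup.mem_subgroupOf, Subgroup.mem_subgroupOf, Subgroup.mem_subgroupOf, Subgroup.mem_inf]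
    refine and_congr_right fun htN => ⟨fun h1 => ?_, fun h1 => ?_⟩
    · have h2 : (⟨t, ht⟩ : M) ∈ Subgroup.normalizer ((X b).subgroupOf M : Set M) := by
        rw [Subgroup.mem_normalizer_iff]
        intro x
        have h3 := Nodes.ClsNorm.centralizer_le_normalizer' _ h1
        exact Subgroup.mem_normalizer_iff.1 h3 x
      exact mem_B_of_normalizes H hXb' h2
    · rw [Subgroup.mem_centralizer_iff]
      intro u hu
      exact (comm_of_normalizes hXp hN2 (hXM.trans hnorm) htN (hBn h1) u hu).symm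
  refine ⟨N, ?_, hQN⟩
  refine
    { UM := hXM
      VM := le_sup_right.trans le_sup_right
      NM := hNM
      two := hN2
      norm := hnorm
      card := ?_
      all := ?_
      four := ?_
      cent := ?_
      conj := ⟨nn, hnn, hconj.symm⟩
      normL := ?_ }
  · rw [← hcard]
    exact (Nat.card_congr (Subgroup.subgroupOfEquivOfLe hXM).toEquiv).symm
  · intro g hg
    obtain ⟨m, hm, hmg⟩ := hall ⟨g, hg⟩
    exact ⟨m, hm, hBn hmg⟩
  · rw [← hNB] at hfour
    have e1 : Nat.card ((N ⊓ Subgroup.centralizer (X b : Set Y)).subgroupOf M) =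
        Nat.card (N ⊓ Subgroup.centralizer (X b : Set Y) : Subgroup Y) :=
      Nat.card_congr (Subgroup.subgroupOfEquivOfLe (inf_le_left.trans hNM)).toEquiv
    have e2 : Nat.card (N.subgroupOf M) = Nat.card N := Nat.card_congr (Subgroup.subgroupOfEquivOfLe hNM).toEquiv
    rw [← e1, ← e2]; exact hfour
  · intro t ht htU v hv
    rw [← hconj] at hv
    obtain ⟨u, hu, rfl⟩ := hv
    have h1 := cent H hXb' hNn hN2' (t := ⟨t, hNM ht⟩) ht
      (fun u hu => Subtype.ext (htU u hu)) ⟨u, hXM hu⟩ hu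
    exact congrArg Subtype.val h1
  · refine sup_le (fun t ht => ?_) Subgroup.le_normalizer
    rw [mem_normalizer_iff_cj]
    change Nodes.Reps.cj t (LL X b) = LL X b
    unfold LL
    rw [cj_sup, C.rgd.tor _ hb t ht, C.rgd.tor _ hb.neg t ht]

/-- **`J = ⟨X b, X (-b)⟩`** -/
theorem eq_LL [Finite Y] (C : Cls cs h p T n X R Z z) (S : St cs h p T X R Z z r J j) {r' b : I → ℤ}
    (F : Fr cs h X R Z r r' b) (hne : ¬ ∀ q ∈ QQ J j, ∀ u ∈ X b, q * u = u * q) :
    J = LL X b ∧ Nat.card (X b) = 3 := by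
  obtain ⟨N, H, hQN⟩ := S.exists_rn C F hne
  refine ⟨eq_sup H S.core S.jc S.pr S.sn ?_ (S.levi_sn C F) hQN hne, H.card⟩
  exact sup_le (S.T_le_cent C) (S.LL_le_cent C F.b_root F.br)

end St

end Cfsg.Agent.OddHalf.NI3.FThree

end

-- merged: Cfsg.Agent.OddHalf.NI3.FThree.Bad
section

/-!
# (F2'₃): root groups commuting with `J`

* `St.X_comm` : `J` commutes with `X y`, `y` orthogonal to `r`, if `y ∈ R` or `y` is not orthogonal to some `s ∈ R`
  orthogonal to `r`;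
* `St.comm_or_bad` : if `O₂(J)` does not commute with all `X y`, `y` orthogonal to `r`, there is a root `b ∉ R`
  orthogonal to `r` and to all `s ∈ R` orthogonal to `r` with `X b` not commuting with `O₂(J)`.
-/

set_option autoImplicit false
set_option linter.unusedSectionVars false
set_option linter.dupNamespace false

namespace Cfsg.Agent.OddHalf.NI3.FThree

open Cfsg
open CoxeterSystem Cfsg.Agent.ChevalleyStructure.CoxeterGeom Cfsg.Agent.Tits.Roots Cfsg.Agent.Tits.Core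
  Cfsg.Agent.Tits.RootComb Cfsg.Agent.Nodes.Comb Cfsg.Agent.Nodes.Reps Cfsg.Agent.Nodes.BNOf
  Cfsg.Agent.Nodes.RGDLib Cfsg.Agent.Nodes.Chart Cfsg.Agent.Nodes.Coroot Cfsg.Agent.Nodes.FreeTorus
  Cfsg.Agent.Nodes.SubComb Cfsg.Agent.Nodes.Bruhat Cfsg.Agent.Nodes.StabComb Cfsg.Agent.Nodes.Perp
  Cfsg.Agent.Nodes.Sub Cfsg.Agent.Nodes.ClsSub
open Cfsg.Agent.OddHalf.NI.FTwo (commute_cj mem_of_sq_mem)

variable {I W Y : Type*} [Fintype I] [DecidableEq I] [Group W] [Fintype W] [Group Y] {M : CoxeterMatrix I}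
  {cs : CoxeterSystem M W} {A : I → I → ℤ} {h : IsCartan M A} {p : ℕ} {T : Subgroup Y} {n : I → Y}
  {X : (I → ℤ) → Subgroup Y} {R : Set (I → ℤ)} {Z : (I → ℤ) → Subgroup Y} {z : (I → ℤ) → Y}
  {J : Subgroup Y} {j : Y} {r : I → ℤ}

namespace St

/-- **Root groups commuting with `J`** -/
theorem X_comm [Finite Y] (C : Cls cs h p T n X R Z z) (S : St cs h p T X R Z z r J j) {y : I → ℤ}
    (hy : IsRoot cs h y) (h0 : form cs h y r = 0)
    (hyR : y ∈ R ∨ ∃ s ∈ R, form cs h s r = 0 ∧ form cs h y s ≠ 0) : ∀ a ∈ J, ∀ b ∈ X y, a * b = b * a := by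
  have key : ∀ s ∈ R, form cs h s r = 0 → ∀ d ∈ X y, ∀ a ∈ J, ∀ b ∈ KK Z s,
      a * (d⁻¹ * b * d) = (d⁻¹ * b * d) * a := by
    intro s hs hsr d hd a ha b hb
    have S' := S.cj C (X_le_GG hy hd) (fun k hk => X_cm_KK C S.mem hy h0 d hd k hk)
    have h1 := S'.KK_comm C hs hsr (d * a * d⁻¹) (conj_mem_cj.2 ha) b hb
    calc a * (d⁻¹ * b * d) = d⁻¹ * ((d * a * d⁻¹) * b) * d := by group
      _ = d⁻¹ * (b * (d * a * d⁻¹)) * d := by rw [h1]
      _ = (d⁻¹ * b * d) * a := by group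
  have key1 : ∀ s ∈ R, form cs h s r = 0 → ∀ a ∈ J, ∀ b ∈ KK Z s, a * b = b * a := fun s hs hsr =>
    S.KK_comm C hs hsr
  intro a ha b hb
  obtain ⟨k, hk⟩ := C.rgd.pgrp' hy ⟨b, hb⟩
  have hk' : b ^ p ^ k = 1 := congrArg Subtype.val hk
  have hodd : Odd (p ^ k) := (S.prime.odd_of_ne_two S.odd).pow
  have hcen : b ∈ Subgroup.centralizer {a} := by
    refine mem_of_sq_mem hodd hk' ?_
    by_cases hyR' : y ∈ R
    · have h1 := C.z_inv_self y hyR' b⁻¹ (inv_mem hb)
      have h2 := key1 y hyR' h0 a ha _ (Subgroup.mem_sup_left (T := Z (-y)) h1)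
      have h3 := key1 y hyR' h0 a ha _ (C.z_mem y hyR')
      have h4 := key y hyR' h0 b hb a ha _ (C.z_mem y hyR')
      have e : b * b = (z y * b⁻¹ * z y * b⁻¹)⁻¹ * z y * (b⁻¹ * z y * b) := by group
      rw [e]
      rw [Subgroup.mem_centralizer_singleton_iff]
      have c1 : Commute a (z y * b⁻¹ * z y * b⁻¹) := h2
      have c2 : Commute a (z y) := h3
      have c3 : Commute a (b⁻¹ * z y * b) := h4
      exact ((c1.inv_right.mul_right c2).mul_right c3).eq.symm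
    · obtain ⟨s, hs, hsr, h5⟩ := hyR.resolve_left hyR'
      have hys : y ≠ s := fun e => hyR' (e ▸ hs)
      have hys' : y ≠ -s := fun e => hyR' (e ▸ Nodes.Perp.neg_mem C hs)
      have h1 := C.z_inv s hs y hy hys hys' h5 b⁻¹ (inv_mem hb)
      rw [inv_inv] at h1
      have c2 : Commute a (z s) := key1 s hs hsr a ha _ (C.z_mem s hs)
      have c3 : Commute a (b⁻¹ * z s * b) := key s hs hsr b hb a ha _ (C.z_mem s hs)
      have e : b * b = z s * (b⁻¹ * z s * b) := by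
        calc b * b = z s * b⁻¹ * z s * b := by rw [h1]
          _ = _ := by group
      rw [e, Subgroup.mem_centralizer_singleton_iff]
      exact (c2.mul_right c3).eq.symm
  exact (Subgroup.mem_centralizer_singleton_iff.1 hcen).symm

/-- a root group orthogonal to `r` which does not commute with `O₂(J)` -/
theorem exists_bad [Finite Y] (C : Cls cs h p T n X R Z z) (S : St cs h p T X R Z z r J j)
    (H : ¬ ∀ q ∈ QQ J j, ∀ x, IsRoot cs h x → form cs h x r = 0 → ∀ u ∈ X x, q * u = u * q) :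
    ∃ b, IsRoot cs h b ∧ b ∉ R ∧ form cs h b r = 0 ∧ (∀ s ∈ R, form cs h s r = 0 → form cs h b s = 0) ∧
      ¬ ∀ q ∈ QQ J j, ∀ u ∈ X b, q * u = u * q := by
  by_contra hcon
  push Not at hcon
  apply H
  intro q hq x hx h0 u hu
  by_cases h1 : x ∈ R ∨ ∃ s ∈ R, form cs h s r = 0 ∧ form cs h x s ≠ 0
  · exact S.X_comm C hx h0 h1 q (QQ_le hq) u hu
  · push Not at h1
    exact hcon x hx h1.1 h0 h1.2 q hq u hu

/-- a root group orthogonal to `r` which does not commute with `J` -/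
theorem exists_bad' [Finite Y] (C : Cls cs h p T n X R Z z) (S : St cs h p T X R Z z r J j)
    (H : ¬ ∀ q ∈ J, ∀ x, IsRoot cs h x → form cs h x r = 0 → ∀ u ∈ X x, q * u = u * q) :
    ∃ b, IsRoot cs h b ∧ b ∉ R ∧ form cs h b r = 0 ∧ (∀ s ∈ R, form cs h s r = 0 → form cs h b s = 0) := by
  by_contra hcon
  push Not at hcon
  apply H
  intro q hq x hx h0 u hu
  by_cases h1 : x ∈ R ∨ ∃ s ∈ R, form cs h s r = 0 ∧ form cs h x s ≠ 0
  · exact S.X_comm C hx h0 h1 q hq u hu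
  · push Not at h1
    obtain ⟨s, hs, hsr, hn⟩ := hcon x hx h1.1 h0
    exact absurd (h1.2 s hs hsr) hn

end St

/-- **the kind is `B₃`** if `O₂(J)` does not commute with all `X x`, `x` orthogonal to `r` -/
theorem kind_B3 {Y : Type*} [Group Y] [Finite Y] {Om : Set (Subgroup Y)} {p : ℕ} {L : Subgroup Y}
    (C : Chart Om p L) {τ : Nodes.Chart.Ty} (hτ : C.IsTy τ) (ok : Cit.KindOk τ) {r : C.I → ℤ} {J : Subgroup Y} {j : Y}
    (S : St C.cs C.h p C.T C.X C.R C.Z C.z r J j)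
    (H : ¬ ∀ q ∈ QQ J j, ∀ x, IsRoot C.cs C.h x → form C.cs C.h x r = 0 → ∀ u ∈ C.X x, q * u = u * q) :
    τ = .B 3 ∧ ∃ b, IsRoot C.cs C.h b ∧ b ∉ C.R ∧ form C.cs C.h b r = 0 ∧
      (∀ s ∈ C.R, form C.cs C.h s r = 0 → form C.cs C.h b s = 0) ∧
      ¬ ∀ q ∈ QQ J j, ∀ u ∈ C.X b, q * u = u * q := by
  obtain ⟨b, hb, hbR, h0, h1, h2⟩ := S.exists_bad C.cls H
  exact ⟨(NI.FTwo.Comb.comb C hτ ok S.mem hb hbR h0 h1).1, b, hb, hbR, h0, h1, h2⟩

/-- in the other kinds all of `J` commutes with all `X x`, `x` orthogonal to `r` -/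
theorem comm_of_ne_B3 {Y : Type*} [Group Y] [Finite Y] {Om : Set (Subgroup Y)} {p : ℕ} {L : Subgroup Y}
    (C : Chart Om p L) {τ : Nodes.Chart.Ty} (hτ : C.IsTy τ) (ok : Cit.KindOk τ) {r : C.I → ℤ} {J : Subgroup Y} {j : Y}
    (S : St C.cs C.h p C.T C.X C.R C.Z C.z r J j) (hne : τ ≠ .B 3) :
    ∀ q ∈ J, ∀ x, IsRoot C.cs C.h x → form C.cs C.h x r = 0 → ∀ u ∈ C.X x, q * u = u * q := by
  by_contra H
  obtain ⟨b, hb, hbR, h0, h1⟩ := S.exists_bad' C.cls H
  exact hne (NI.FTwo.Comb.comb C hτ ok S.mem hb hbR h0 h1).1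

end Cfsg.Agent.OddHalf.NI3.FThree

end

-- merged: Cfsg.Agent.OddHalf.NI3.FThree.Pos
section

/-!
# (F2'₃): the chart of type `B₃`

`exists_frame` : the frame `r, r', b` of a chart of kind `B₃`; `pos3` : the structure `PosB3` over `F₃`.
-/

set_option autoImplicit false
set_option linter.unusedSectionVars false
set_option linter.dupNamespace false

namespace Cfsg.Agent.OddHalf.NI3.FThree

open Cfsg
open CoxeterSystem Cfsg.Agent.ChevalleyStructure.CoxeterGeom Cfsg.Agent.Tits.Roots Cfsg.Agent.Tits.Core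
  Cfsg.Agent.Tits.RootComb Cfsg.Agent.Nodes.Comb Cfsg.Agent.Nodes.Reps Cfsg.Agent.Nodes.BNOf
  Cfsg.Agent.Nodes.RGDLib Cfsg.Agent.Nodes.Chart Cfsg.Agent.Nodes.Coroot Cfsg.Agent.Nodes.FreeTorus
  Cfsg.Agent.Nodes.SubComb Cfsg.Agent.Nodes.Bruhat Cfsg.Agent.Nodes.StabComb Cfsg.Agent.Nodes.Perp
  Cfsg.Agent.Nodes.Sub Cfsg.Agent.Nodes.ClsSub
open Cfsg.Agent.OddHalf.NI.FTwo (R1 commute_cj mem_of_sq_mem cj_T cj_LL le_T_DD₂ X_comm_self exists_refl_rep zprod
  PosB3 ChartB3)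

/-- the frame of a bad root -/
theorem exists_frame {Y : Type*} [Group Y] {Om : Set (Subgroup Y)} {p : ℕ} {L : Subgroup Y}
    (C : Chart Om p L) {τ : Nodes.Chart.Ty} (hτ : C.IsTy τ) (ok : Cit.KindOk τ)
    (zx : (∀ r ∈ C.R, C.Z r = C.X r) ∨ ∃ n, τ = .C n) {r b : C.I → ℤ} (hr : r ∈ C.R)
    (hb : IsRoot C.cs C.h b) (hbR : b ∉ C.R) (hbr : form C.cs C.h b r = 0)
    (hbo : ∀ s ∈ C.R, form C.cs C.h s r = 0 → form C.cs C.h b s = 0) :
    τ = .B 3 ∧ ∃ r', Fr C.cs C.h C.X C.R C.Z r r' b ∧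
      ∃ w, r' = r - cpr C.cs C.h r (rep C.cs C.h w b) • rep C.cs C.h w b ∧
        form C.cs C.h r (rep C.cs C.h w b) ≠ 0 := by
  obtain ⟨rfl, r', hr', hrr', hr'1, hr'2, hperp, ⟨w₀, hw₀, hw₀n⟩, s₀, hs₀, hs₀b⟩ :=
    NI.FTwo.Comb.comb C hτ ok hr hb hbR hbr hbo
  have hZX : ∀ s ∈ C.R, C.Z s = C.X s := by
    rcases zx with h1 | ⟨n, h1⟩
    · exact h1
    · exact absurd h1 (by simp)
  exact ⟨rfl, r', ⟨hr', hrr', hb, hbR, hbr, hbo r' hr' hrr', hperp, hZX, X_comm_self C.cls hb hbR hs₀ hs₀b⟩,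
    w₀, hw₀, hw₀n⟩

variable {N : Type*} [Group N] {Om : Set (Subgroup N)} {p : ℕ}

/-- **The chart of type `B₃` over `F₃`** -/
theorem pos3 [Finite N] (C : Chart Om p (⊤ : Subgroup N)) {τ : Nodes.Chart.Ty} (hτ : C.IsTy τ)
    (ok : Cit.KindOk τ) (zx : (∀ r ∈ C.R, C.Z r = C.X r) ∨ ∃ n, τ = .C n) {r b : C.I → ℤ} {J : Subgroup N} {j : N}
    (S : St C.cs C.h p C.T C.X C.R C.Z C.z r J j)
    (hb : IsRoot C.cs C.h b) (hbR : b ∉ C.R) (hbr : form C.cs C.h b r = 0)
    (hbo : ∀ s ∈ C.R, form C.cs C.h s r = 0 → form C.cs C.h b s = 0)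
    (hne : ¬ ∀ q ∈ QQ J j, ∀ u ∈ C.X b, q * u = u * q) :
    ∃ r', PosB3 C (ZMod 3) j (C.z r) J (KK C.Z r) (KK C.Z r') r r' b := by
  have hr := S.mem
  obtain ⟨rfl, r', F, w₀, hw₀, hw₀n⟩ := exists_frame C hτ ok zx hr hb hbR hbr hbo
  obtain ⟨hJb, hcb⟩ := S.eq_LL C.cls F hne
  obtain rfl := S.p_eq C.cls
  have hr' := F.r'_mem
  have hrr' := F.rr'
  have hperp := F.perp
  have hZX := F.zx
  have hbab := F.ab
  have hbr' := F.br'
  have hzne : ∀ s ∈ C.R, C.z s ≠ 1 := fun s hs => (S.cl s hs).pr.t3.z_ne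
  have hzo : ∀ s ∈ C.R, orderOf (C.z s) = 2 := fun s hs => (S.cl s hs).pr.ord
  have hj2 : orderOf j = 2 := S.pr.ord
  have hjcen : ∀ g : N, g * j * g⁻¹ = j := by
    intro g
    rw [S.jc g]; group
  have hj : j ∈ Subgroup.center N := Subgroup.mem_center_iff.2 fun g => S.jc g
  have hKL : ∀ s ∈ C.R, KK C.Z s = LL C.X s := by
    intro s hs
    unfold KK LL
    rw [hZX s hs, hZX _ (Nodes.Perp.neg_mem C.cls hs)]
  -- the product of the involutions
  have hzp : C.z r * C.z r' = j := by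
    obtain ⟨k, hk⟩ := exists_rp C.cs C.cls.rgd.nsys w₀
    have hs : rep C.cs C.h w₀⁻¹ r ∈ C.R := C.cls.act r hr _
    have h1 : form C.cs C.h (rep C.cs C.h w₀⁻¹ r) b ≠ 0 := by
      rw [form_rep_left, inv_inv]; exact hw₀n
    have h2 := zprod C.cls hb hbR hs h1 (j := j)
      (fun x _ => (S.jc x).symm)
      (fun t ht htt ht1 => by
        rw [← hJb] at ht
        rcases S.pr.t3.cases t ht with h5 | h5 | h5 | h5 | h5
        · exact absurd (h5.symm.trans htt) S.pr.t3.z_ne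
        · exact absurd h5 ht1
        · exact h5
        · rw [htt, one_mul] at h5; exact absurd h5 ht1
        · rw [htt, one_mul] at h5; exact h5)
    have h3 : rep C.cs C.h w₀⁻¹ r - cpr C.cs C.h (rep C.cs C.h w₀⁻¹ r) b • b = rep C.cs C.h w₀⁻¹ r' := by
      have h4 : cpr C.cs C.h (rep C.cs C.h w₀⁻¹ r) b = cpr C.cs C.h r (rep C.cs C.h w₀ b) := by
        have h5 := cpr_rep C.cs C.h w₀ (rep C.cs C.h w₀⁻¹ r) hb
        rw [rep_apply_inv] at h5
        exact h5.symm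
      rw [h4, hw₀, map_sub, map_smul, rep_inv_apply]
    rw [h3] at h2
    have h4 := congrArg (fun x => k * x * k⁻¹) h2
    simp only [hjcen] at h4
    rw [← h4]
    have h5 := Nodes.ClsNorm.conj_z C.cls hk hs
    have h6 := Nodes.ClsNorm.conj_z C.cls hk (C.cls.act r' hr' w₀⁻¹)
    rw [rep_apply_inv] at h5 h6
    rw [← h5, ← h6]; group
  have hzz' : C.z r * C.z r = 1 := C.cls.z_sq r hr
  have hzr' : C.z r' = j * C.z r := by
    have h1 : C.z r' = C.z r * j := by rw [← hzp, ← mul_assoc, hzz', one_mul]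
    rw [h1, S.jc]
  -- all roots outside `R` are conjugate to `b`
  have hshort : ∀ y, IsRoot C.cs C.h y → y ∉ C.R → ∃ w, y = rep C.cs C.h w b := by
    intro y hy hyR
    rcases NI.FTwo.Comb.comb_short C hτ hb hbR hy hyR with rfl | rfl | ⟨s, hs, rfl⟩
    · exact ⟨1, by rw [map_one, Module.End.one_apply]⟩
    · obtain ⟨w, hw⟩ := exists_refl_rep (cs := C.cs) (h := C.h) hb
      refine ⟨w, ?_⟩
      rw [hw, cpr_self C.cs C.h hb]; module
    · obtain ⟨w, hw⟩ := exists_refl_rep (cs := C.cs) (h := C.h) (C.cls.root s hs)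
      exact ⟨w, (hw b).symm⟩
  have hXR : ∀ s ∈ C.R, ∀ a ∈ C.X s, ∀ a' ∈ C.X s, a * a' = a' * a := by
    intro s hs a ha a' ha'
    refine C.cls.cent s hs s (C.cls.root s hs) ?_ a ha a' (by rw [hZX s hs]; exact ha')
    exact (form_pos C.cs C.h (C.cls.root s hs).ne_zero).le
  have hcR : ∀ s ∈ C.R, Nat.card (C.X s) = 3 := by
    intro s hs
    rw [← hZX s hs]
    exact S.card_Z C.cls hs
  refine ⟨r', ?_⟩
  refine
    { ty := hτ
      odd := by rw [ZMod.card]; decide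
      charP := inferInstance
      r_mem := hr
      r'_mem := hr'
      b_root := hb
      b_not := hbR
      rr' := by rw [form_comm]; exact hrr'
      br := hbr
      br' := hbr'
      perp := hperp
      short := fun y hy hyR => NI.FTwo.Comb.comb_short C hτ hb hbR hy hyR
      zx := hZX
      sl := ?_
      card := ?_
      comm := ?_
      A_eq := hJb
      B_eq := hKL r hr
      A'_eq := hKL r' hr'
      zr := rfl
      zr' := hzr'
      zz := ?_
      c_mem := ?_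
      c_center := hj
      c_order := hj2
      d_order := hzo r hr }
  · intro y hy
    by_cases hyR : y ∈ C.R
    · rw [← hKL y hyR]; exact (S.cl y hyR).pr.iso
    · obtain ⟨w, rfl⟩ := hshort y hy hyR
      obtain ⟨k, hk⟩ := exists_rp C.cs C.cls.rgd.nsys w
      rw [← cj_LL C.cls.rgd hk hb, ← hJb]
      exact (S.pr.cj k).iso
  · intro y hy
    rw [ZMod.card]
    by_cases hyR : y ∈ C.R
    · exact hcR y hyR
    · obtain ⟨w, rfl⟩ := hshort y hy hyR
      obtain ⟨k, hk⟩ := exists_rp C.cs C.cls.rgd.nsys w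
      rw [← C.cls.rgd.conj_rp hk hb]
      exact (Subgroup.card_map_of_injective (MulAut.conj k).injective).trans hcb
  · intro y hy
    by_cases hyR : y ∈ C.R
    · exact hXR y hyR
    · obtain ⟨w, rfl⟩ := hshort y hy hyR
      obtain ⟨k, hk⟩ := exists_rp C.cs C.cls.rgd.nsys w
      rw [← C.cls.rgd.conj_rp hk hb]
      exact (commute_cj k).2 hbab
  · intro s hs s' hs' hss'
    obtain ⟨w, rfl⟩ := C.trans r hr s hs
    obtain ⟨k, hk⟩ := exists_rp C.cs C.cls.rgd.nsys w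
    have h1 : rep C.cs C.h w⁻¹ s' ∈ C.R := C.cls.act s' hs' _
    have h2 : form C.cs C.h (rep C.cs C.h w⁻¹ s') r = 0 := by
      rw [form_rep_left, inv_inv, form_comm]; exact hss'
    have h3 : C.z (rep C.cs C.h w⁻¹ s') = C.z r' := by
      rcases hperp _ (C.cls.root _ h1) h2 with h4 | h4 | h4 | h4
      · rw [h4]
      · rw [h4, C.cls.z_neg r' hr']
      · exact absurd (h4 ▸ h1) hbR
      · exact absurd (by rw [← neg_neg b, ← h4]; exact Nodes.Perp.neg_mem C.cls h1) hbR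
    have h5 := Nodes.ClsNorm.conj_z C.cls hk hr
    have h6 := Nodes.ClsNorm.conj_z C.cls hk h1
    rw [rep_apply_inv, h3] at h6
    rw [← h5, ← h6]
    calc k * C.z r * k⁻¹ * (k * C.z r' * k⁻¹) = k * (C.z r * C.z r') * k⁻¹ := by group
      _ = j := by rw [hzp, hjcen]
  · intro y hy hyR
    obtain ⟨w, rfl⟩ := hshort y hy hyR
    obtain ⟨k, hk⟩ := exists_rp C.cs C.cls.rgd.nsys w
    rw [← cj_LL C.cls.rgd hk hb, ← hJb, ← hjcen k]
    exact conj_mem_cj.2 S.pr.mem

end Cfsg.Agent.OddHalf.NI3.FThree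

end

-- merged: Cfsg.Agent.OddHalf.NI3.FThree.C1
section

/-!
# (F2'_3), part (c1): charts over `F₃` whose classical root groups form a simply laced system

`r ∈ R`, `Q` a subgroup of `⟨X x⟩` which centralises `KK Z r` and all `X x`, `x` orthogonal to `r`.  Then `Q ≤ T`, and if
`|Z s| = 3`, `X s = Z s` for `s ∈ R` and `R` is simply laced then `Q` is commutative (`comm_of_perp`).
-/

set_option autoImplicit false
set_option linter.unusedSectionVars false
set_option linter.dupNamespace false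

namespace Cfsg.Agent.OddHalf.NI3.FThree

open Cfsg
open CoxeterSystem Cfsg.Agent.ChevalleyStructure.CoxeterGeom Cfsg.Agent.Tits.Roots Cfsg.Agent.Tits.Core
  Cfsg.Agent.Tits.RootComb Cfsg.Agent.Nodes.Comb Cfsg.Agent.Nodes.Reps Cfsg.Agent.Nodes.BNOf
  Cfsg.Agent.Nodes.RGDLib Cfsg.Agent.Nodes.Chart Cfsg.Agent.Nodes.Coroot Cfsg.Agent.Nodes.FreeTorus
  Cfsg.Agent.Nodes.SubComb Cfsg.Agent.Nodes.Bruhat Cfsg.Agent.Nodes.StabComb Cfsg.Agent.Nodes.Perp
  Cfsg.Agent.Nodes.Sub Cfsg.Agent.Nodes.ClsSub Cfsg.Agent.Nodes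

variable {I W Y : Type*} [Fintype I] [DecidableEq I] [Group W] [Fintype W] [Group Y] {M : CoxeterMatrix I}
  {cs : CoxeterSystem M W} {A : I → I → ℤ} {h : IsCartan M A} {p : ℕ} {T : Subgroup Y} {n : I → Y}
  {X : (I → ℤ) → Subgroup Y} {R : Set (I → ℤ)} {Z : (I → ℤ) → Subgroup Y} {z : (I → ℤ) → Y}

/-! ### The torus -/

/-- An element of `L_J` normalising the root groups of `L_J` lies in the torus. -/
theorem mem_T_of_LJ (D : RGD cs h p T n X) (J : Set I) {g : Y} (hg : g ∈ LJ cs h T X J)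
    (hn : ∀ x ∈ RootsJ cs h J, cj g (X x) = X x) : g ∈ T := by
  have : DecidablePred (· ∈ J) := Classical.decPred _
  let f : J ↪ I := Function.Embedding.subtype _
  have hfr : Set.range f = J := Subtype.range_coe
  let cs' : CoxeterSystem (leviMatrix f M) (leviMatrix f M).Group := (leviMatrix f M).toCoxeterSystem
  have hfin : Finite (leviMatrix f M).Group :=
    (levi_subSys (cs := cs) (h := h) f).finite cs' (levi_isCartan f h)
  let _ : Fintype (leviMatrix f M).Group := Fintype.ofFinite _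
  have D' := rgd_levi D f cs'
  rw [← hfr, ← GG_levi (cs := cs) (h := h) f cs' T X] at hg
  have h1 : g ∈ HH cs' (levi_isCartan f h) (fun c => X (iota (fun j => sr (f j)) c)) := by
    rw [mem_HH]
    intro c hc
    rw [map_one, Module.End.one_apply]
    apply hn
    have h2 := (mem_RootsJ_range_iff (cs := cs) (h := h) f cs').2 ⟨c, hc, rfl⟩
    rwa [hfr] at h2
  rw [← Nodes.CommonNorm.HH_inf_GG D']
  exact ⟨h1, hg⟩

/-- An element of `GG` centralising `KK Z r` and normalising all `X x`, `x` orthogonal to `r`, lies in the torus. -/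
theorem mem_T_of_perp [Finite Y] (C : Cls cs h p T n X R Z z) {r : I → ℤ} (hr : r ∈ R) {q : Y}
    (hq : q ∈ GG cs h T X) (hqr : ∀ y ∈ KK Z r, q * y = y * q)
    (hqp : ∀ x, IsRoot cs h x → form cs h x r = 0 → cj q (X x) = X x) : q ∈ T := by
  obtain ⟨w, hw⟩ := Nodes.ClsNorm.exists_dominant (cs := cs) (h := h) r
  obtain ⟨k, hk⟩ := exists_rp cs C.rgd.nsys w
  have hkG : k ∈ GG cs h T X := NN_le_GG C.rgd ⟨_, hk⟩
  have hq' : k * q * k⁻¹ ∈ GG cs h T X := mul_mem (mul_mem hkG hq) (inv_mem hkG)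
  have hc : ∀ x ∈ Subgroup.zpowers (k * q * k⁻¹), ∀ y ∈ KK Z (rep cs h w r), x * y = y * x := by
    have h1 : Subgroup.zpowers (k * q * k⁻¹) ≤ Subgroup.centralizer (KK Z (rep cs h w r) : Set Y) := by
      rw [Subgroup.zpowers_le, Subgroup.mem_centralizer_iff]
      intro y hy
      rw [← Nodes.Perp.conj_KK C hk hr] at hy
      have h2 := hqr _ (mem_cj.1 hy)
      calc y * (k * q * k⁻¹) = k * ((k⁻¹ * y * k) * q) * k⁻¹ := by group
        _ = k * (q * (k⁻¹ * y * k)) * k⁻¹ := by rw [h2]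
        _ = k * q * k⁻¹ * y := by group
    intro x hx y hy
    exact (Subgroup.mem_centralizer_iff.1 (h1 hx) y hy).symm
  have h1 := NI.FTwo.le_T_DD C (C.act r hr w) (K := Subgroup.zpowers (k * q * k⁻¹))
    (by rw [Subgroup.zpowers_le]; exact hq') hc (Subgroup.mem_zpowers _)
  rw [← NI.FTwo.LJ_orth_eq hw] at h1
  have h2 : k * q * k⁻¹ ∈ T := by
    refine mem_T_of_LJ C.rgd _ h1 fun x hx => ?_
    have hxf := (Nodes.ClsNorm.mem_RootsJ_orth_iff hw hx.1).1 hx
    have h3 := hqp (rep cs h w⁻¹ x) (hx.1.act _) (by rw [form_rep_left, inv_inv]; exact hxf)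
    have h4 : cj k (X (rep cs h w⁻¹ x)) = X x := by
      rw [C.rgd.conj_rp hk (hx.1.act _), rep_apply_inv]
    rw [← h4, cj_mul, cj_mul, cj_inv_cj, h3]
  have h3 := mem_normalizer_iff_cj.1 hk.mem_normalizer
  rw [← h3, mem_cj] at h2
  have e : k⁻¹ * (k * q * k⁻¹) * k = q := by group
  rwa [e] at h2

/-- `q` commutes with the elements of `H` -/
def Cq (q : Y) (H : Subgroup Y) : Prop := ∀ y ∈ H, q * y = y * q

theorem Cq.sup {q : Y} {H K : Subgroup Y} (h1 : Cq q H) (h2 : Cq q K) : Cq q (H ⊔ K) := by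
  have h3 : H ⊔ K ≤ Subgroup.centralizer {q} := by
    refine sup_le (fun y hy => ?_) (fun y hy => ?_)
    · rw [Subgroup.mem_centralizer_singleton_iff]; exact (h1 y hy).symm
    · rw [Subgroup.mem_centralizer_singleton_iff]; exact (h2 y hy).symm
  intro y hy
  exact (Subgroup.mem_centralizer_singleton_iff.1 (h3 hy)).symm

theorem Cq.mono {q : Y} {H K : Subgroup Y} (h1 : Cq q H) (hle : K ≤ H) : Cq q K := fun y hy => h1 y (hle hy)

theorem Cq.conj {q m : Y} {H : Subgroup Y} (h1 : Cq q H) (hm : q * m = m * q) : Cq q (cj m H) := by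
  intro y hy
  have h2 := h1 _ (mem_cj.1 hy)
  have hm' : q * m⁻¹ = m⁻¹ * q := by
    have : m⁻¹ * (q * m) * m⁻¹ = m⁻¹ * (m * q) * m⁻¹ := by rw [hm]
    have e1 : m⁻¹ * (q * m) * m⁻¹ = m⁻¹ * q := by group
    have e2 : m⁻¹ * (m * q) * m⁻¹ = q * m⁻¹ := by group
    rw [e1, e2] at this
    exact this.symm
  calc q * y = q * m * (m⁻¹ * y * m) * m⁻¹ := by group
    _ = m * (q * (m⁻¹ * y * m)) * m⁻¹ := by rw [hm]; group
    _ = m * (m⁻¹ * y * m) * (q * m⁻¹) := by rw [h2]; group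
    _ = y * q := by rw [hm']; group

/-- An element of the torus centralising `Z s` centralises `Z (-s)`. -/
theorem Cq.opp [Finite Y] (C : Cls cs h p T n X R Z z) (hp : p.Prime) (hodd : p ≠ 2) {s : I → ℤ} (hs : s ∈ R)
    {q : Y} (hq : q ∈ T) (hc : Cq q (Z s)) : Cq q (Z (-s)) := by
  intro b hb
  by_cases hb1 : b = 1
  · subst hb1; rw [mul_one, one_mul]
  obtain ⟨a, ha, c, hc', w, hm, -⟩ := exists_refl_KK C hp hodd hs hb hb1
  have h1 : Rp cs C.rgd.nsys w (q * (a * b * c) * q⁻¹) := by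
    have := ((rp_of_mem (cs := cs) (hN := C.rgd.nsys) hq).mul hm).mul (rp_of_mem (cs := cs) (hN := C.rgd.nsys) (inv_mem hq))
    rwa [one_mul, mul_one] at this
  have h2 := hm.unique h1
  have e : (a * b * c)⁻¹ * (q * (a * b * c) * q⁻¹) = c⁻¹ * (b⁻¹ * (q * b * q⁻¹)) * c := by
    have e1 : q * a = a * q := hc a ha
    have e2 : c * q⁻¹ = q⁻¹ * c := by
      have e3 : q * c = c * q := hc c hc'
      calc c * q⁻¹ = q⁻¹ * (q * c) * q⁻¹ := by group
        _ = q⁻¹ * (c * q) * q⁻¹ := by rw [e3]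
        _ = q⁻¹ * c := by group
    calc (a * b * c)⁻¹ * (q * (a * b * c) * q⁻¹)
        = c⁻¹ * b⁻¹ * a⁻¹ * (q * a) * b * (c * q⁻¹) := by group
      _ = c⁻¹ * b⁻¹ * a⁻¹ * (a * q) * b * (q⁻¹ * c) := by rw [e1, e2]
      _ = c⁻¹ * (b⁻¹ * (q * b * q⁻¹)) * c := by group
  rw [e] at h2
  -- a `p`-element of the torus
  have h3 : b⁻¹ * (q * b * q⁻¹) ∈ X (-s) := by
    refine mul_mem (inv_mem (C.le _ (neg_mem C hs) hb)) ?_
    have h4 := C.tor _ (neg_mem C hs) q hq
    have h5 : q * b * q⁻¹ ∈ cj q (Z (-s)) := conj_mem_cj.2 hb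
    rw [h4] at h5
    exact C.le _ (neg_mem C hs) h5
  have hone : c⁻¹ * (b⁻¹ * (q * b * q⁻¹)) * c = 1 := by
    have : Fact p.Prime := ⟨hp⟩
    obtain ⟨j, hj⟩ := (C.rgd.pgrp' (C.root s hs).neg) ⟨_, h3⟩
    have hj' : (b⁻¹ * (q * b * q⁻¹)) ^ p ^ j = 1 := congrArg Subtype.val hj
    have h6 : (c⁻¹ * (b⁻¹ * (q * b * q⁻¹)) * c) ^ p ^ j = 1 := by
      have := conj_pow (i := p ^ j) (a := c⁻¹) (b := b⁻¹ * (q * b * q⁻¹))
      rw [inv_inv] at this
      rw [this, hj']; group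
    have h7 : orderOf (c⁻¹ * (b⁻¹ * (q * b * q⁻¹)) * c) ∣ p ^ j := orderOf_dvd_of_pow_eq_one h6
    have h8 : orderOf (c⁻¹ * (b⁻¹ * (q * b * q⁻¹)) * c) ∣ Nat.card T := by
      have := orderOf_dvd_natCard (⟨_, h2⟩ : T)
      rwa [← Subgroup.orderOf_coe] at this
    have h9 : Nat.Coprime (Nat.card T) (p ^ j) := Nat.Coprime.pow_right j C.rgd.tcop
    have h10 := Nat.dvd_gcd h8 h7
    rw [h9] at h10
    exact orderOf_eq_one_iff.1 (Nat.dvd_one.1 h10)
  have h4 : b⁻¹ * (q * b * q⁻¹) = 1 := by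
    have e : b⁻¹ * (q * b * q⁻¹) = c * (c⁻¹ * (b⁻¹ * (q * b * q⁻¹)) * c) * c⁻¹ := by group
    rw [e, hone]; group
  have h5 : q * b * q⁻¹ = b := by
    have := inv_mul_eq_one.1 h4
    exact this.symm
  calc q * b = (q * b * q⁻¹) * q := by group
    _ = b * q := by rw [h5]

theorem Cq.kk [Finite Y] (C : Cls cs h p T n X R Z z) (hp : p.Prime) (hodd : p ≠ 2) {s : I → ℤ} (hs : s ∈ R)
    {q : Y} (hq : q ∈ T) (hc : Cq q (Z s)) : Cq q (KK Z s) := hc.sup (hc.opp C hp hodd hs hq)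

/-! ### Moving along reflections -/

/-- if `q` commutes with `LL X t` then it commutes with `X x` iff with `X (s_t x)` -/
theorem Cq.refl_LL (C : Cls cs h p T n X R Z z) {t : I → ℤ} (ht : IsRoot cs h t) {q : Y} (hq : Cq q (LL X t))
    {s : I → ℤ} (hs : s ∈ R) (hc : Cq q (Z s)) : Cq q (Z (s - cpr cs h s t • t)) := by
  obtain ⟨b, hb, hb1⟩ : ∃ b ∈ X (-t), b ≠ 1 := by
    by_contra hcon
    push Not at hcon
    exact Nodes.StdConn.X_ne_bot C ht.neg (by rw [Subgroup.eq_bot_iff_forall]; exact hcon)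
  obtain ⟨a, ha, c, hc', w, hm, hw⟩ := exists_refl_LL C.rgd ht hb hb1
  rw [← hw, ← Nodes.ClsNorm.conj_Z C hm hs]
  refine hc.conj (hq _ (mul_mem (mul_mem ?_ ?_) ?_))
  · exact (le_sup_left : X t ≤ LL X t) ha
  · exact (le_sup_right : X (-t) ≤ LL X t) hb
  · exact (le_sup_left : X t ≤ LL X t) hc'

theorem Cq.refl_KK (C : Cls cs h p T n X R Z z) (hp : p.Prime) (hodd : p ≠ 2) {t : I → ℤ} (ht : t ∈ R) {q : Y}
    (hq : Cq q (KK Z t)) {s : I → ℤ} (hs : s ∈ R) (hc : Cq q (Z s)) : Cq q (Z (s - cpr cs h s t • t)) := by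
  obtain ⟨b, hb, hb1⟩ := Z_ne_bot' C (neg_mem C ht)
  obtain ⟨a, ha, c, hc', w, hm, hw⟩ := exists_refl_KK C hp hodd ht hb hb1
  rw [← hw, ← Nodes.ClsNorm.conj_Z C hm hs]
  refine hc.conj (hq _ (mul_mem (mul_mem ?_ ?_) ?_))
  · exact (le_sup_left : Z t ≤ KK Z t) ha
  · exact (le_sup_right : Z (-t) ≤ KK Z t) hb
  · exact (le_sup_left : Z t ≤ KK Z t) hc'

theorem Cq.refl_X (C : Cls cs h p T n X R Z z) (hp : p.Prime) (hodd : p ≠ 2) {t : I → ℤ} (ht : t ∈ R) {q : Y}
    (hq : Cq q (KK Z t)) {x : I → ℤ} (hx : IsRoot cs h x) (hc : Cq q (X (x - cpr cs h x t • t))) :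
    Cq q (X x) := by
  obtain ⟨b, hb, hb1⟩ := Z_ne_bot' C (neg_mem C ht)
  obtain ⟨a, ha, c, hc', w, hm, hw⟩ := exists_refl_KK C hp hodd ht hb hb1
  have hmq : q * (a * b * c) = (a * b * c) * q := by
    refine hq _ (mul_mem (mul_mem ?_ ?_) ?_)
    · exact (le_sup_left : Z t ≤ KK Z t) ha
    · exact (le_sup_right : Z (-t) ≤ KK Z t) hb
    · exact (le_sup_left : Z t ≤ KK Z t) hc'
  have hmq' : q * (a * b * c)⁻¹ = (a * b * c)⁻¹ * q := by
    set m := a * b * c
    calc q * m⁻¹ = m⁻¹ * (m * q) * m⁻¹ := by group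
      _ = m⁻¹ * (q * m) * m⁻¹ := by rw [hmq]
      _ = m⁻¹ * q := by group
  rw [← hw, ← C.rgd.conj_rp hm hx] at hc
  have := hc.conj hmq'
  rwa [← cj_mul, inv_mul_cancel, cj_one] at this

/-! ### The signs -/

/-- `R` is a simply laced system of root groups of order three; the other roots can be moved by a reflection of `R`
into the hyperplane of `r` -/
structure Lac (cs : CoxeterSystem M W) (h : IsCartan M A) (X : (I → ℤ) → Subgroup Y) (R : Set (I → ℤ))
    (Z : (I → ℤ) → Subgroup Y) (r : I → ℤ) : Prop where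
  mem : r ∈ R
  card : ∀ s ∈ R, Nat.card (Z s) = 3
  zx : ∀ s ∈ R, Z s = X s
  le_one : ∀ x ∈ R, ∀ y ∈ R, x ≠ y → x ≠ -y → |cpr cs h x y| ≤ 1
  short : ∀ x, IsRoot cs h x → x ∉ R → form cs h x r ≠ 0 → ∃ s ∈ R, form cs h (x - cpr cs h x s • s) r = 0

variable {r : I → ℤ}

theorem cpr_eq_one (C : Cls cs h p T n X R Z z) (L : Lac cs h X R Z r) {s s' : I → ℤ} (hs : s ∈ R) (hs' : s' ∈ R)
    (hne : s ≠ s') (hf : 0 < form cs h s s') : cpr cs h s s' = 1 := by
  have h1 : s ≠ -s' := by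
    rintro rfl
    rw [form_neg_left] at hf
    have := form_pos cs h (C.root s' hs').ne_zero
    omega
  have h2 := L.le_one s hs s' hs' hne h1
  have h3 := (cpr_pos_iff cs h s (C.root s' hs')).2 hf
  rw [abs_le] at h2
  omega

/-- one step -/
theorem step_pos (C : Cls cs h p T n X R Z z) (L : Lac cs h X R Z r) {q : Y}
    (hq : ∀ x, IsRoot cs h x → form cs h x r = 0 → Cq q (X x)) {s s' : I → ℤ} (hs : s ∈ R) (hs' : s' ∈ R)
    (hf : 0 < form cs h s s') (hr : form cs h s r = form cs h s' r) (hc : Cq q (Z s)) : Cq q (Z s') := by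
  by_cases hne : s = s'
  · rwa [← hne]
  have h1 := cpr_eq_one C L hs hs' hne hf
  have h2 := cpr_eq_one C L hs' hs (Ne.symm hne) (by rwa [form_comm])
  obtain ⟨ht, hcp⟩ := KindBase.cpr_diff cs h (C.root s' hs') (C.root s hs) h2 h1 s
  rw [h1, cpr_self cs h (C.root s hs)] at hcp
  have ht0 : form cs h (s' - s) r = 0 := by rw [form_sub_left, hr, sub_self]
  have hL : Cq q (LL X (s' - s)) := (hq _ ht ht0).sup (hq _ ht.neg (by rw [form_neg_left, ht0, neg_zero]))
  have h3 := hL.refl_LL C ht hs hc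
  rw [hcp] at h3
  have e : s - (1 - 2 : ℤ) • (s' - s) = s' := by
    have : (1 - 2 : ℤ) = -1 := by norm_num
    rw [this, neg_one_smul]; abel
  rwa [e] at h3

/-- the sign is constant on the roots of level one -/
theorem level_one [Finite Y] (C : Cls cs h p T n X R Z z) (hp : p.Prime) (hodd : p ≠ 2) (L : Lac cs h X R Z r)
    {q : Y} (hqT : q ∈ T) (hqr : Cq q (KK Z r)) (hq : ∀ x, IsRoot cs h x → form cs h x r = 0 → Cq q (X x))
    {s s' : I → ℤ} (hs : s ∈ R) (hs' : s' ∈ R) (h1 : cpr cs h s r = 1) (h1' : cpr cs h s' r = 1)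
    (hc : Cq q (Z s)) : Cq q (Z s') := by
  have hrr := C.root r L.mem
  have f1 := two_form_cpr cs h s hrr
  have f2 := two_form_cpr cs h s' hrr
  rw [h1, one_mul] at f1
  rw [h1', one_mul] at f2
  rcases lt_or_ge 0 (form cs h s s') with hf | hf
  · exact step_pos C L hq hs hs' hf (by omega) hc
  · have h2 := hqr.refl_KK C hp hodd L.mem hs hc
    rw [h1, one_smul] at h2
    have h3 := refl_mem C hs hrr
    rw [h1, one_smul] at h3
    have h4 := h2.opp C hp hodd h3 hqT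
    have h5 := neg_mem C h3
    rw [neg_sub] at h4 h5
    refine step_pos C L hq h5 hs' ?_ ?_ h4
    · rw [form_sub_left, form_comm cs h r s']
      have := form_pos cs h hrr.ne_zero
      omega
    · rw [form_sub_left]; omega

/-- an element normalising a group of order three commutes with it or inverts it -/
theorem inv_of_not_comm {H : Subgroup Y} (h3 : Nat.card H = 3) {q : Y} (hn : cj q H = H) (hc : ¬ Cq q H) :
    ∀ y ∈ H, q * y * q⁻¹ = y⁻¹ := by
  unfold Cq at hc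
  push Not at hc
  obtain ⟨a, ha, hne⟩ := hc
  have ha1 : a ≠ 1 := by rintro rfl; exact hne (by rw [mul_one, one_mul])
  have : Fact (Nat.Prime 3) := ⟨Nat.prime_three⟩
  have hfin : Finite H := Nat.finite_of_card_ne_zero (by omega)
  have hmem : ∀ y ∈ H, y = 1 ∨ y = a ∨ y = a⁻¹ := by
    intro y hy
    have h1 : (⟨y, hy⟩ : H) ∈ Subgroup.zpowers (⟨a, ha⟩ : H) :=
      mem_zpowers_of_prime_card (p := 3) h3 (fun h => ha1 (congrArg Subtype.val h))
    obtain ⟨k, hk⟩ := Subgroup.mem_zpowers_iff.1 h1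
    have hk' : a ^ k = y := congrArg Subtype.val hk
    have ha3 : a ^ (3 : ℤ) = 1 := by
      have h2 : (⟨a, ha⟩ : H) ^ 3 = 1 := by rw [← h3]; exact pow_card_eq_one'
      have h2' : a ^ 3 = 1 := congrArg Subtype.val h2
      exact_mod_cast h2'
    have hkm : a ^ k = a ^ (k % 3) := by
      conv_lhs => rw [← Int.mul_ediv_add_emod k 3, zpow_add, zpow_mul, ha3, one_zpow, one_mul]
    have hlt := Int.emod_lt_of_pos k (show (0 : ℤ) < 3 by norm_num)
    have hge := Int.emod_nonneg k (show (3 : ℤ) ≠ 0 by norm_num)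
    rw [← hk', hkm]
    interval_cases k % 3
    · left; exact zpow_zero a
    · right; left; exact zpow_one a
    · right; right
      have e : a ^ (2 : ℤ) = a⁻¹ * a ^ (3 : ℤ) := by rw [show (3 : ℤ) = 1 + 2 by norm_num, zpow_add, zpow_one]; group
      rw [e, ha3, mul_one]
  have hqa : q * a * q⁻¹ = a⁻¹ := by
    have h1 : q * a * q⁻¹ ∈ H := by
      have := conj_mem_cj (g := q).2 ha
      rwa [hn] at this
    rcases hmem _ h1 with h2 | h2 | h2
    · exfalso; apply ha1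
      have : a = q⁻¹ * (q * a * q⁻¹) * q := by group
      rw [this, h2]; group
    · exfalso; apply hne
      calc q * a = (q * a * q⁻¹) * q := by group
        _ = a * q := by rw [h2]
    · exact h2
  intro y hy
  rcases hmem y hy with rfl | rfl | rfl
  · group
  · exact hqa
  · have : q * a⁻¹ * q⁻¹ = (q * a * q⁻¹)⁻¹ := by group
    rw [this, hqa]

/-- **`q` or `q z_r` centralises all classical root groups.** -/
theorem exists_cent [Finite Y] (C : Cls cs h p T n X R Z z) (hp : p.Prime) (hodd : p ≠ 2) (L : Lac cs h X R Z r)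
    {q : Y} (hqT : q ∈ T) (hqr : Cq q (KK Z r)) (hq : ∀ x, IsRoot cs h x → form cs h x r = 0 → Cq q (X x)) :
    ∃ q', (q' = q ∨ q' = q * z r) ∧ ∀ s ∈ R, Cq q' (Z s) := by
  have hrr := C.root r L.mem
  have base : ∀ s ∈ R, s ≠ r → s ≠ -r → form cs h s r ≠ 0 → cpr cs h s r = 1 ∨ cpr cs h s r = -1 := by
    intro s hs h1 h2 h3
    have h4 := L.le_one s hs r L.mem h1 h2
    have h5 : cpr cs h s r ≠ 0 := fun h0 => h3 ((cpr_zero_iff cs h s hrr).1 h0)
    rw [abs_le] at h4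
    omega
  by_cases hall : ∀ s ∈ R, s ≠ r → s ≠ -r → form cs h s r ≠ 0 → Cq q (Z s)
  · refine ⟨q, Or.inl rfl, fun s hs => ?_⟩
    by_cases h1 : s = r
    · rw [h1]; exact hqr.mono le_sup_left
    by_cases h2 : s = -r
    · rw [h2]; exact hqr.mono le_sup_right
    by_cases h3 : form cs h s r = 0
    · exact (hq s (C.root s hs) h3).mono (C.le s hs)
    · exact hall s hs h1 h2 h3
  · push Not at hall
    obtain ⟨s₀, hs₀, g1, g2, g3, g4⟩ := hall
    have hnone : ∀ s ∈ R, s ≠ r → s ≠ -r → form cs h s r ≠ 0 → ¬ Cq q (Z s) := by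
      intro s hs h1 h2 h3 hc
      apply g4
      -- make both of level one
      have key : ∀ s ∈ R, cpr cs h s r = 1 ∨ cpr cs h s r = -1 → ∃ s₁ ∈ R, cpr cs h s₁ r = 1 ∧
          (Cq q (Z s) ↔ Cq q (Z s₁)) := by
        rintro s hs (hh | hh)
        · exact ⟨s, hs, hh, Iff.rfl⟩
        · refine ⟨-s, neg_mem C hs, by rw [cpr_neg cs h s hrr, hh, neg_neg], fun hh => hh.opp C hp hodd hs hqT,
            fun hh => ?_⟩
          have := hh.opp C hp hodd (neg_mem C hs) hqT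
          rwa [neg_neg] at this
      obtain ⟨s₁, hs₁, k1, k2⟩ := key s hs (base s hs h1 h2 h3)
      obtain ⟨s₂, hs₂, k3, k4⟩ := key s₀ hs₀ (base s₀ hs₀ g1 g2 g3)
      exact k4.2 (level_one C hp hodd L hqT hqr hq hs₁ hs₂ k1 k3 (k2.1 hc))
    refine ⟨q * z r, Or.inr rfl, fun s hs => ?_⟩
    have hzK : z r ∈ KK Z r := C.z_mem r L.mem
    by_cases h1 : s = r
    · rw [h1]
      intro y hy
      have e1 := hqr y (le_sup_left (a := Z r) hy)
      have e2 := C.z_cent r L.mem y hy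
      rw [mul_assoc, e2, ← mul_assoc, e1, mul_assoc]
    by_cases h2 : s = -r
    · rw [h2]
      intro y hy
      have e1 := hqr y (le_sup_right (a := Z r) hy)
      have e2 := C.z_cent (-r) (neg_mem C L.mem) y hy
      rw [C.z_neg r L.mem] at e2
      rw [mul_assoc, e2, ← mul_assoc, e1, mul_assoc]
    by_cases h3 : form cs h s r = 0
    · intro y hy
      have e1 := (hq s (C.root s hs) h3) y (C.le s hs hy)
      have e2 := Nodes.ZRel.z_cent_of_orth C L.mem (C.root s hs) h3 (C.le s hs hy)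
      rw [mul_assoc, ← e2, ← mul_assoc, e1, mul_assoc]
    · intro y hy
      have e1 := inv_of_not_comm (L.card s hs) (C.tor s hs q hqT) (hnone s hs h1 h2 h3) y⁻¹ (inv_mem hy)
      have e2 := C.z_inv r L.mem s (C.root s hs) h1 h2 h3 y (C.le s hs hy)
      rw [inv_inv] at e1
      calc q * z r * y = q * (z r * y * z r) * z r := by
            have := C.z_sq r L.mem
            calc q * z r * y = q * z r * y * 1 := by rw [mul_one]
              _ = q * z r * y * (z r * z r) := by rw [this]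
              _ = q * (z r * y * z r) * z r := by group
        _ = q * y⁻¹ * z r := by rw [e2]
        _ = (q * y⁻¹ * q⁻¹) * q * z r := by group
        _ = y * (q * z r) := by rw [e1]; group

/-- `q` or `q z_r` centralises all root groups. -/
theorem exists_cent_X [Finite Y] (C : Cls cs h p T n X R Z z) (hp : p.Prime) (hodd : p ≠ 2) (L : Lac cs h X R Z r)
    {q : Y} (hqT : q ∈ T) (hqr : Cq q (KK Z r)) (hq : ∀ x, IsRoot cs h x → form cs h x r = 0 → Cq q (X x)) :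
    ∃ q', (q' = q ∨ q' = q * z r) ∧ ∀ x, IsRoot cs h x → Cq q' (X x) := by
  obtain ⟨q', hq', hc⟩ := exists_cent C hp hodd L hqT hqr hq
  refine ⟨q', hq', ?_⟩
  have hperp : ∀ x, IsRoot cs h x → form cs h x r = 0 → Cq q' (X x) := by
    intro x hx h0
    rcases hq' with rfl | rfl
    · exact hq x hx h0
    · intro y hy
      have e1 := hq x hx h0 y hy
      have e2 := Nodes.ZRel.z_cent_of_orth C L.mem hx h0 hy
      rw [mul_assoc, ← e2, ← mul_assoc, e1, mul_assoc]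
  intro x hx
  by_cases hxR : x ∈ R
  · rw [← L.zx x hxR]; exact hc x hxR
  by_cases h0 : form cs h x r = 0
  · exact hperp x hx h0
  obtain ⟨s, hs, h1⟩ := L.short x hx hxR h0
  have h2 : Cq q' (KK Z s) := (hc s hs).sup (hc _ (neg_mem C hs))
  exact h2.refl_X C hp hodd hs hx (hperp _ (isRoot_refl cs h hx (C.root s hs)) h1)

/-- **(F2'_3), (c1)**: `Q` is commutative. -/
theorem comm_of_perp [Finite Y] (C : Cls cs h p T n X R Z z) (hp : p.Prime) (hodd : p ≠ 2) (L : Lac cs h X R Z r)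
    {Q : Subgroup Y} (hQ : Q ≤ G1 cs h X) (hQr : ∀ q ∈ Q, Cq q (KK Z r))
    (hQx : ∀ q ∈ Q, ∀ x, IsRoot cs h x → form cs h x r = 0 → Cq q (X x)) :
    ∀ q ∈ Q, ∀ q' ∈ Q, q * q' = q' * q := by
  intro q hq q₂ hq₂
  have hGG : G1 cs h X ≤ GG cs h T X := le_sup_right
  have hcj : ∀ {H : Subgroup Y}, Cq q H → cj q H = H := by
    intro H hH
    rw [← mem_normalizer_iff_cj]
    exact Nodes.ClsNorm.centralizer_le_normalizer' H (Subgroup.mem_centralizer_iff.2 fun x hx => (hH x hx).symm)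
  have hqT : q ∈ T := mem_T_of_perp C L.mem (hGG (hQ hq)) (hQr q hq) fun x hx h0 => hcj (hQx q hq x hx h0)
  obtain ⟨q', hq', hc⟩ := exists_cent_X C hp hodd L hqT (hQr q hq) (hQx q hq)
  have h1 : Cq q' (G1 cs h X) := by
    have h2 : G1 cs h X ≤ Subgroup.centralizer {q'} := by
      refine RGD.Sup_le fun x hx y hy => ?_
      rw [Subgroup.mem_centralizer_singleton_iff]
      exact (hc x hx y hy).symm
    intro y hy
    exact (Subgroup.mem_centralizer_singleton_iff.1 (h2 hy)).symm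
  have h2 := h1 q₂ (hQ hq₂)
  rcases hq' with rfl | rfl
  · exact h2
  · have h3 := hQr q₂ hq₂ (z r) (C.z_mem r L.mem)
    have h4 : q * q₂ * z r = q₂ * q * z r := by
      calc q * q₂ * z r = q * (q₂ * z r) := by group
        _ = q * z r * q₂ := by rw [h3]; group
        _ = q₂ * q * z r := by rw [h2]; group
    exact mul_right_cancel h4

end Cfsg.Agent.OddHalf.NI3.FThree

end

-- merged: Cfsg.Agent.OddHalf.NI3.FThree.C2
section

/-!
# (F2'_3), part (c2): charts over `F₃` of the kinds `C_n`, `n ≥ 2` (`Sp_{2n}(3)`, `SU_{2n}(3)`, `SU_{2n+1}(3)`)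

An element `c` of order three which normalises `⟨T, X x⟩` and centralises `KK Z r` and all `X x`, `x` orthogonal to `r`,
centralises all root groups (`cent_of_perp`).
-/

set_option autoImplicit false
set_option linter.unusedSectionVars false
set_option linter.dupNamespace false

namespace Cfsg.Agent.OddHalf.NI3.FThree

open Cfsg
open CoxeterSystem Cfsg.Agent.ChevalleyStructure.CoxeterGeom Cfsg.Agent.Tits.Roots Cfsg.Agent.Tits.Core
  Cfsg.Agent.Tits.RootComb Cfsg.Agent.Nodes.Comb Cfsg.Agent.Nodes.Reps Cfsg.Agent.Nodes.BNOf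
  Cfsg.Agent.Nodes.RGDLib Cfsg.Agent.Nodes.Chart Cfsg.Agent.Nodes.Coroot Cfsg.Agent.Nodes.FreeTorus
  Cfsg.Agent.Nodes.SubComb Cfsg.Agent.Nodes.Bruhat Cfsg.Agent.Nodes.StabComb Cfsg.Agent.Nodes.Perp
  Cfsg.Agent.Nodes.Sub Cfsg.Agent.Nodes.ClsSub Cfsg.Agent.Nodes
open scoped commutatorElement

variable {I W Y : Type*} [Fintype I] [DecidableEq I] [Group W] [Fintype W] [Group Y] {M : CoxeterMatrix I}
  {cs : CoxeterSystem M W} {A : I → I → ℤ} {h : IsCartan M A} {p : ℕ} {T : Subgroup Y} {n : I → Y}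
  {X : (I → ℤ) → Subgroup Y} {R : Set (I → ℤ)} {Z : (I → ℤ) → Subgroup Y} {z : (I → ℤ) → Y}

/-! ### Roots -/

/-- the members of `R` are pairwise orthogonal (or opposite) of the same length, the other roots are half sums -/
structure Lcc (cs : CoxeterSystem M W) (h : IsCartan M A) (R : Set (I → ℤ)) : Prop where
  root : ∀ x ∈ R, IsRoot cs h x
  neg : ∀ x ∈ R, -x ∈ R
  orth : ∀ x ∈ R, ∀ y ∈ R, x ≠ y → x ≠ -y → form cs h x y = 0
  len : ∀ x ∈ R, ∀ y ∈ R, form cs h x x = form cs h y y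
  half : ∀ x, IsRoot cs h x → x ∉ R → ∃ a ∈ R, ∃ b ∈ R, form cs h a b = 0 ∧ (2 : ℤ) • x = a + b

/-- `y = (r + s) / 2` -/
structure Tri (cs : CoxeterSystem M W) (h : IsCartan M A) (R : Set (I → ℤ)) (r s y : I → ℤ) : Prop where
  hr : r ∈ R
  hs : s ∈ R
  orth : form cs h r s = 0
  hy : IsRoot cs h y
  e : (2 : ℤ) • y = r + s

section Roots

theorem two_form_left (x y : I → ℤ) : form cs h ((2 : ℤ) • x) y = 2 * form cs h x y := form_smul_left ..

variable {r s y : I → ℤ}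

namespace Tri

variable (K : Lcc cs h R) (t : Tri cs h R r s y)

include t

theorem symm : Tri cs h R s r y := ⟨t.hs, t.hr, by rw [form_comm]; exact t.orth, t.hy, by rw [t.e, add_comm]⟩

include K

theorem pos : 0 < form cs h r r := form_pos cs h (K.root r t.hr).ne_zero

theorem yr : 2 * form cs h y r = form cs h r r := by
  rw [← form_smul_left, t.e, form_add_left, form_comm cs h s r, t.orth, add_zero]

theorem ys : 2 * form cs h y s = form cs h r r := by
  rw [← form_smul_left, t.e, form_add_left, t.orth, zero_add, K.len s t.hs r t.hr]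

theorem yy : 2 * form cs h y y = form cs h r r := by
  have h1 : 2 * (2 * form cs h y y) = 2 * form cs h r r := by
    have h2 : 2 * form cs h y y = form cs h y r + form cs h y s := by
      rw [← form_smul_right, t.e, form_add_right]
    rw [h2, mul_add, t.yr K, t.ys K]; ring
  linarith

theorem neg : Tri cs h R (-r) (-s) (-y) :=
  ⟨K.neg r t.hr, K.neg s t.hs, by rw [form_neg_left, form_neg_right, t.orth]; rfl, t.hy.neg,
    by rw [smul_neg, t.e]; abel⟩

theorem cpr_ys : cpr cs h y s = 1 :=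
  cpr_eq_of_form cs h (K.root s t.hs) (by rw [one_mul, t.ys K, K.len s t.hs r t.hr])

theorem cpr_ry : cpr cs h r y = 2 :=
  cpr_eq_of_form cs h t.hy (by rw [t.yy K, form_comm, t.yr K])

/-- the other one -/
theorem flip : Tri cs h R r (-s) (y - s) := by
  have h1 := isRoot_refl cs h t.hy (K.root s t.hs)
  rw [t.cpr_ys K, one_smul] at h1
  refine ⟨t.hr, K.neg s t.hs, by rw [form_neg_right, t.orth]; rfl, h1, ?_⟩
  rw [smul_sub, t.e, two_smul]; abel

/-- a root with positive products with `r` and `s` is `y` -/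
theorem eq_of_pos {w : I → ℤ} (hw : IsRoot cs h w) (h1 : 0 < form cs h w r) (h2 : 0 < form cs h w s) : w = y := by
  have hrs : r ≠ s := by
    rintro rfl
    have := t.orth
    have := t.pos K
    omega
  have hrs' : r ≠ -s := by
    intro e
    have h3 := t.orth
    rw [e, form_neg_left] at h3
    have h4 := form_pos cs h (K.root s t.hs).ne_zero
    omega
  have hP : 0 < form cs h r r := t.pos K
  have hS : 0 < form cs h s s := form_pos cs h (K.root s t.hs).ne_zero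
  have hsr : form cs h s r = 0 := by rw [form_comm]; exact t.orth
  have hrs0 := t.orth
  have hwR : w ∉ R := by
    intro hwR
    by_cases e1 : w = r
    · subst e1; omega
    by_cases e2 : w = -r
    · subst e2; rw [form_neg_left] at h1; omega
    have := K.orth w hwR r t.hr e1 e2
    omega
  obtain ⟨a, ha, b, hb, hab, e⟩ := K.half w hw hwR
  have hr1 : form cs h a r + form cs h b r > 0 := by
    rw [← form_add_left, ← e, form_smul_left]; omega
  have hs1 : form cs h a s + form cs h b s > 0 := by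
    rw [← form_add_left, ← e, form_smul_left]; omega
  have tri : ∀ a ∈ R, ∀ x ∈ R, a = x ∨ a = -x ∨ form cs h a x = 0 := by
    intro a ha x hx
    by_cases e1 : a = x
    · exact Or.inl e1
    by_cases e2 : a = -x
    · exact Or.inr (Or.inl e2)
    exact Or.inr (Or.inr (K.orth a ha x hx e1 e2))
  have key : (2 : ℤ) • w = r + s := by
    rcases tri a ha r t.hr with rfl | rfl | ha0
    · rcases tri b hb s t.hs with rfl | rfl | hb0
      · exact e
      · rw [form_neg_left] at hs1; omega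
      · omega
    · rcases tri b hb s t.hs with rfl | rfl | hb0
      · rw [form_neg_left] at hr1; omega
      · rw [form_neg_left, form_neg_left] at hr1; omega
      · rw [form_neg_left] at hs1; omega
    · rcases tri b hb r t.hr with rfl | rfl | hb0
      · rcases tri a ha s t.hs with rfl | rfl | ha1
        · rw [e, add_comm]
        · rw [form_neg_left] at hs1; omega
        · omega
      · rw [form_neg_left] at hr1; omega
      · omega
  rw [← t.e] at key
  have h3 : (2 : ℤ) • (w - y) = 0 := by rw [smul_sub, key, sub_self]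
  rcases smul_eq_zero.1 h3 with h4 | h4
  · norm_num at h4
  · exact sub_eq_zero.1 h4

/-- a root positive with `r` and orthogonal to the rest of `R` is `r` -/
theorem eq_of_zero {w : I → ℤ} (hw : IsRoot cs h w) {m a : ℤ} (hm : 0 < m) (ha : 0 < a) (e : m • w = a • r) :
    w = r := by
  have hP : 0 < form cs h r r := t.pos K
  have h1 : 0 < form cs h w r := by
    have h2 : m * form cs h w r = a * form cs h r r := by rw [← form_smul_left, e, form_smul_left]
    have h3 : 0 < a * form cs h r r := mul_pos ha hP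
    rw [← h2] at h3
    exact (mul_pos_iff_of_pos_left hm).1 h3
  have hz : ∀ x ∈ R, form cs h r x = 0 → form cs h w x = 0 := by
    intro x hx h0
    have h2 : m * form cs h w x = a * form cs h r x := by rw [← form_smul_left, e, form_smul_left]
    rw [h0, mul_zero] at h2
    rcases mul_eq_zero.1 h2 with h3 | h3
    · omega
    · exact h3
  by_cases hwR : w ∈ R
  · by_contra e1
    by_cases e2 : w = -r
    · rw [e2, form_neg_left] at h1; omega
    have := K.orth w hwR r t.hr e1 e2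
    omega
  · exfalso
    obtain ⟨a', ha', b', hb', hab, e'⟩ := K.half w hw hwR
    have hr1 : form cs h a' r + form cs h b' r > 0 := by
      rw [← form_add_left, ← e', form_smul_left]; omega
    have key : ∀ a' ∈ R, ∀ b' ∈ R, form cs h a' b' = 0 → (2 : ℤ) • w = a' + b' → form cs h a' r ≠ 0 → False := by
      intro a' ha' b' hb' hab e' hne
      have h2 : form cs h r b' = 0 := by
        by_cases e1 : a' = r
        · rw [← e1]; exact hab
        by_cases e2 : a' = -r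
        · rw [e2, form_neg_left] at hab; omega
        exact absurd (K.orth a' ha' r t.hr e1 e2) hne
      have h3 := hz b' hb' h2
      have h4 : 2 * form cs h w b' = form cs h b' b' := by
        rw [← form_smul_left, e', form_add_left, hab, zero_add]
      have h5 := form_pos cs h (K.root b' hb').ne_zero
      omega
    by_cases h2 : form cs h a' r = 0
    · refine key b' hb' a' ha' (by rw [form_comm]; exact hab) (by rw [e', add_comm]) (by omega)
    · exact key a' ha' b' hb' hab e' h2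

/-- **(L1)** -/
theorem no_btwn {x w : I → ℤ} (h1 : 0 < form cs h x r) (h2 : form cs h x s = 0) : ¬ Btwn cs h y x w := by
  rintro ⟨hw, m, a, b, hm, ha, hb, e⟩
  have hy1 : 0 < form cs h y r := by have := t.yr K; have := t.pos K; omega
  have hy2 : 0 < form cs h y s := by have := t.ys K; have := t.pos K; omega
  have e1 : m * form cs h w r = a * form cs h y r + b * form cs h x r := by
    rw [← form_smul_left, e, form_add_left, form_smul_left, form_smul_left]
  have e2 : m * form cs h w s = a * form cs h y s := by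
    rw [← form_smul_left, e, form_add_left, form_smul_left, form_smul_left, h2, mul_zero, add_zero]
  have g1 : 0 < form cs h w r := by
    have h3 : 0 < m * form cs h w r := by rw [e1]; exact add_pos (mul_pos ha hy1) (mul_pos hb h1)
    exact (mul_pos_iff_of_pos_left hm).1 h3
  have g2 : 0 < form cs h w s := by
    have h3 : 0 < m * form cs h w s := by rw [e2]; exact mul_pos ha hy2
    exact (mul_pos_iff_of_pos_left hm).1 h3
  have g3 := t.eq_of_pos K hw g1 g2
  subst g3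
  have g4 : m = a := mul_right_cancel₀ hy2.ne' e2
  rw [g4] at e1
  have := mul_pos hb h1
  omega

/-- **(L2)** -/
theorem btwn_flip {w : I → ℤ} (hw : Btwn cs h y (y - s) w) : w = r := by
  obtain ⟨hw, m, a, b, hm, ha, hb, e⟩ := hw
  have tf := t.flip K
  have hP := t.pos K
  have y1 := t.yr K
  have y2 := t.ys K
  have y3 := tf.yr K
  have y4 := tf.ys K
  rw [form_neg_right] at y4
  set P := form cs h r r
  have e1 : 2 * (m * form cs h w r) = (a + b) * P := by
    rw [← form_smul_left, e, form_add_left, form_smul_left, form_smul_left]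
    linear_combination a * y1 + b * y3
  have e2 : 2 * (m * form cs h w s) = (a - b) * P := by
    rw [← form_smul_left, e, form_add_left, form_smul_left, form_smul_left]
    linear_combination a * y2 - b * y4
  have g1 : 0 < form cs h w r := by
    have h3 : 0 < m * form cs h w r := by have := mul_pos (add_pos ha hb) hP; omega
    exact (mul_pos_iff_of_pos_left hm).1 h3
  rcases lt_trichotomy (form cs h w s) 0 with h0 | h0 | h0
  · exfalso
    have g3 := tf.eq_of_pos K hw g1 (by rw [form_neg_right]; omega)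
    subst g3
    have g5 : (m - (a + b)) * P = 0 := by linear_combination e1 - m * y3
    have g6 : (m + (a - b)) * P = 0 := by linear_combination (-1 : ℤ) * e2 - m * y4
    rcases mul_eq_zero.1 g5 with h5 | h5
    · rcases mul_eq_zero.1 g6 with h6 | h6 <;> omega
    · omega
  · rw [h0, mul_zero, mul_zero] at e2
    have hab : a = b := by
      rcases mul_eq_zero.1 e2.symm with h5 | h5 <;> omega
    refine t.eq_of_zero K hw hm ha ?_
    rw [e, ← hab, ← smul_add]
    congr 1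
    have := t.e
    rw [two_smul] at this
    calc y + (y - s) = (y + y) - s := by abel
      _ = r := by rw [this]; abel
  · exfalso
    have g3 := t.eq_of_pos K hw g1 h0
    subst g3
    have g5 : (m - (a + b)) * P = 0 := by linear_combination e1 - m * y1
    have g6 : (m - (a - b)) * P = 0 := by linear_combination e2 - m * y2
    rcases mul_eq_zero.1 g5 with h5 | h5
    · rcases mul_eq_zero.1 g6 with h6 | h6 <;> omega
    · omega

/-- **(L3)** -/
theorem btwn_neg {w : I → ℤ} (hw : Btwn cs h (-s) y w) : w = y - s ∨ w = r := by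
  obtain ⟨hw, m, a, b, hm, ha, hb, e⟩ := hw
  have tf := t.flip K
  have hP := t.pos K
  have y1 := t.yr K
  have y2 := t.ys K
  have hl := K.len s t.hs r t.hr
  have hsr : form cs h s r = 0 := by rw [form_comm]; exact t.orth
  set P := form cs h r r
  have e1 : 2 * (m * form cs h w r) = b * P := by
    rw [← form_smul_left, e, form_add_left, form_smul_left, form_smul_left, form_neg_left, hsr]
    linear_combination b * y1
  have e2 : 2 * (m * form cs h w s) = (b - 2 * a) * P := by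
    rw [← form_smul_left, e, form_add_left, form_smul_left, form_smul_left, form_neg_left, hl]
    linear_combination b * y2
  have g1 : 0 < form cs h w r := by
    have h3 : 0 < m * form cs h w r := by have := mul_pos hb hP; omega
    exact (mul_pos_iff_of_pos_left hm).1 h3
  rcases lt_trichotomy (form cs h w s) 0 with h0 | h0 | h0
  · left
    exact tf.eq_of_pos K hw g1 (by rw [form_neg_right]; omega)
  · right
    rw [h0, mul_zero, mul_zero] at e2
    have hab : b = 2 * a := by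
      rcases mul_eq_zero.1 e2.symm with h5 | h5 <;> omega
    refine t.eq_of_zero K hw hm ha ?_
    rw [e, hab, mul_comm, mul_smul, t.e, smul_add, smul_neg]
    abel
  · exfalso
    have g3 := t.eq_of_pos K hw g1 h0
    subst g3
    have g5 : (m - b) * P = 0 := by linear_combination e1 - m * y1
    have g6 : (m - (b - 2 * a)) * P = 0 := by linear_combination e2 - m * y2
    rcases mul_eq_zero.1 g5 with h5 | h5
    · rcases mul_eq_zero.1 g6 with h6 | h6 <;> omega
    · omega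

end Tri

end Roots

/-! ### An abstract lemma -/

/-- an automorphism of order three preserving an anisotropic form of exponent three is the identity -/
theorem fixed_of_aniso {V Y' : Type*} [AddCommGroup V] [Group Y'] (f : V → V → Y') (φ : V → V)
    (hφ : ∀ a b, φ (a + b) = φ a + φ b) (h3 : ∀ v, φ (φ (φ v)) = v)
    (hf1 : ∀ a b v, f (a + b) v = f a v * f b v) (hf3 : ∀ a v, f a v * f a v * f a v = 1)
    (hfφ : ∀ a b, f (φ a) (φ b) = f a b) (an : ∀ v, f v v = 1 → v = 0) (v : V) : φ v = v := by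
  have e3 : ∀ v : V, v + v + v = 0 := by
    intro v
    apply an
    rw [hf1, hf1, hf3]
  have hf0 : ∀ v, f 0 v = 1 := by
    intro v
    have := hf1 0 0 v
    rw [add_zero] at this
    exact (mul_eq_left.1 this.symm)
  have φ0 : φ 0 = 0 := by
    have := hφ 0 0
    rw [add_zero] at this
    exact (add_eq_left.1 this.symm)
  have φn : ∀ a, φ (-a) = -φ a := by
    intro a
    have := hφ (-a) a
    rw [neg_add_cancel, φ0] at this
    exact eq_neg_of_add_eq_zero_left this.symm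
  have φs : ∀ a b, φ (a - b) = φ a - φ b := by
    intro a b
    rw [sub_eq_add_neg, hφ, φn, ← sub_eq_add_neg]
  -- one step
  have step : ∀ u, φ (φ u - u) = φ u - u → φ u = u := by
    intro u hu
    have h1 : f (φ u - u) (φ u - u) = 1 := by
      have h2 : f (φ u) (φ u - u) = f u (φ u - u) := by
        conv_lhs => rw [← hu]
        exact hfφ _ _
      have h4 : f u (φ u - u) * f (-u) (φ u - u) = 1 := by
        rw [← hf1, add_neg_cancel, hf0]
      rw [sub_eq_add_neg, hf1, ← sub_eq_add_neg, h2, h4]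
    exact sub_eq_zero.1 (an _ h1)
  have h4 : ∀ u, φ (φ (φ u - u) - (φ u - u)) = φ (φ u - u) - (φ u - u) := by
    intro u
    have h5 := e3 (φ (φ u) - φ u)
    rw [φs, φs, φs, h3, ← sub_eq_zero]
    have h6 : u - φ (φ u) - (φ (φ u) - φ u) - (φ (φ u) - φ u - (φ u - u)) =
        -((φ (φ u) - φ u) + (φ (φ u) - φ u) + (φ (φ u) - φ u)) := by abel
    rw [h6, h5, neg_zero]
  exact step v (step _ (h4 v))

/-! ### Groups -/

/-- root groups of opposite halves meet trivially -/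
theorem sep (D : RGD cs h p T n X) (v : I → ℤ) {u : Y}
    (h1 : u ∈ RGD.Sup X {x | IsRoot cs h x ∧ 0 < form cs h x v})
    (h2 : u ∈ RGD.Sup X {x | IsRoot cs h x ∧ form cs h x v < 0}) : u = 1 := by
  obtain ⟨w, hw⟩ := Nodes.ClsNorm.exists_dominant (cs := cs) (h := h) v
  obtain ⟨k, hk⟩ := exists_rp cs D.nsys w
  have e1 : k * u * k⁻¹ ∈ RGD.Sup X (RGD.Pos cs h) := by
    refine conj_mem_Sup D hk (S' := RGD.Pos cs h) (fun x hx => hx.1) (fun x hx => ⟨hx.1.act _, ?_⟩) h1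
    rcases (hx.1.act w).pos_or_neg with h0 | h0
    · exact h0
    · exfalso
      have h3 := form_nonneg_of_dom cs h hw (neg_nonneg.2 h0)
      rw [form_neg_right, form_comm, form_rep] at h3
      have := hx.2
      omega
  have e2 : k * u * k⁻¹ ∈ OppDec.UN cs h X := by
    refine conj_mem_Sup D hk (S' := OppDec.Neg cs h) (fun x hx => hx.1) (fun x hx => ⟨hx.1.act _, ?_⟩) h2
    rcases (hx.1.act w).pos_or_neg with h0 | h0
    · exfalso
      have h3 := form_nonneg_of_dom cs h hw h0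
      rw [form_comm, form_rep] at h3
      have := hx.2
      omega
    · exact h0
  have h3 : k * u * k⁻¹ ∈ RGD.Sup X (RGD.Pos cs h) ⊓ OppDec.UN cs h X := ⟨e1, e2⟩
  rw [OppDec.U_inf_UN D, Subgroup.mem_bot] at h3
  have : u = k⁻¹ * (k * u * k⁻¹) * k := by group
  rw [this, h3]; group

/-- an element equal to its inverse is trivial if its order is odd -/
theorem eq_one_of_pow {x : Y} {k : ℕ} (hp : p.Prime) (hodd : p ≠ 2) (hk : x ^ p ^ k = 1) (e : x = x⁻¹) : x = 1 := by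
  have h5 : x ^ 2 = 1 := by
    rw [pow_two]
    nth_rewrite 1 [e]
    exact inv_mul_cancel x
  have h6 : orderOf x ∣ 2 := orderOf_dvd_of_pow_eq_one h5
  have h7 : orderOf x ∣ p ^ k := orderOf_dvd_of_pow_eq_one hk
  have h8 : Nat.Coprime 2 (p ^ k) := by
    apply Nat.Coprime.pow_right
    rw [Nat.coprime_primes Nat.prime_two hp]
    exact fun e => hodd e.symm
  have h9 : orderOf x = 1 := Nat.dvd_one.1 (by rw [← h8]; exact Nat.dvd_gcd h6 h7)
  exact orderOf_eq_one_iff.1 h9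

section Groups

variable {r s y : I → ℤ} (C : Cls cs h p T n X R Z z) (K : Lcc cs h R) (t : Tri cs h R r s y)

namespace Tri

include C K t

theorem inv_zr {u : Y} (hu : u ∈ X y) : z r * u * z r = u⁻¹ := by
  have h1 := t.yr K
  have h2 := t.ys K
  have h3 := t.pos K
  have h4 := t.orth
  refine C.z_inv r t.hr y t.hy ?_ ?_ (by omega) u hu
  · rintro rfl; omega
  · rintro rfl; rw [form_neg_left] at h2; omega

theorem inv_zs {u : Y} (hu : u ∈ X y) : z s * u * z s = u⁻¹ := t.symm.inv_zr C K hu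

theorem comm_x {x : I → ℤ} (hx : IsRoot cs h x) (h1 : 0 < form cs h x r) (h2 : form cs h x s = 0) {a b : Y}
    (ha : a ∈ X y) (hb : b ∈ X x) : a * b = b * a := by
  have h3 := t.ys K
  have h4 := t.pos K
  have h5 := Nodes.PairOf.comm_of_no_btwn C.rgd t.hy hx (by rintro rfl; omega)
    (by rintro rfl; rw [form_neg_left] at h3; omega) (fun w => t.no_btwn K h1 h2) a ha b hb
  rwa [commutatorElement_eq_one_iff_mul_comm] at h5

theorem comm_r {a b : Y} (ha : a ∈ X y) (hb : b ∈ X r) : a * b = b * a :=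
  t.comm_x C K (C.root r t.hr) (t.pos K) t.orth ha hb

theorem comm_s {a b : Y} (ha : a ∈ X y) (hb : b ∈ X s) : a * b = b * a := t.symm.comm_r C K ha hb

theorem comm_mem {a b : Y} (ha : a ∈ X y) (hb : b ∈ X (y - s)) : ⁅a, b⁆ ∈ X r := by
  have h3 := t.yr K
  have h4 := t.pos K
  have h5 := (t.flip K).yr K
  have h1 : s ≠ 0 := (C.root s t.hs).ne_zero
  have h2 := C.rgd.comm y (y - s) t.hy (t.flip K).hy (fun e => h1 (by
    have : y - (y - s) = 0 := by rw [← e, sub_self]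
    rwa [sub_sub_cancel] at this)) (fun e => by
      rw [e, form_neg_left] at h3
      omega) a ha b hb
  have h6 : btw cs h X y (y - s) ≤ X r := by
    unfold Reps.btw
    refine iSup_le ?_
    rintro ⟨w, hw⟩
    change X w ≤ X r
    rw [t.btwn_flip K hw]
  exact h6 h2

theorem comm_mem' {a b : Y} (ha : a ∈ X (-s)) (hb : b ∈ X y) : ⁅a, b⁆ ∈ X (y - s) ⊔ X r := by
  have h3 := t.yr K
  have h4 := t.pos K
  have h5 : form cs h s r = 0 := by rw [form_comm]; exact t.orth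
  have h2 := C.rgd.comm (-s) y (C.root s t.hs).neg t.hy (fun e => by
      rw [← e, form_neg_left] at h3
      omega) (fun e => by
      rw [neg_injective e] at h5
      omega) a ha b hb
  have h6 : btw cs h X (-s) y ≤ X (y - s) ⊔ X r := by
    unfold Reps.btw
    refine iSup_le ?_
    rintro ⟨w, hw⟩
    change X w ≤ _
    rcases t.btwn_neg K hw with e | e
    · rw [e]; exact le_sup_left
    · rw [e]; exact le_sup_right
  exact h6 h2

/-- `Sup {x | (x, r) > 0}` is contained in `X (y - s) X y V₀`. -/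
theorem decomp {v : Y} (hv : v ∈ RGD.Sup X {x | IsRoot cs h x ∧ 0 < form cs h x r}) :
    ∃ a ∈ X (y - s), ∃ b ∈ X y, ∃ w ∈ RGD.Sup X {x | IsRoot cs h x ∧ 0 < form cs h x r ∧ form cs h x s = 0},
      v = a * b * w := by
  have tf := t.flip K
  have hP := t.pos K
  have y1 := t.yr K
  have y2 := t.ys K
  have y3 := tf.yr K
  have y4 := tf.ys K
  rw [form_neg_right] at y4
  set S0 : Set (I → ℤ) := {x | IsRoot cs h x ∧ 0 < form cs h x r ∧ form cs h x s = 0} with hS0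
  set S1 : Set (I → ℤ) := {x | IsRoot cs h x ∧ 0 < form cs h x r ∧ 0 ≤ form cs h x s} with hS1
  have h1 : X (y - s) ≤ Subgroup.normalizer (RGD.Sup X S1 : Set Y) := by
    refine C.rgd.le_normalizer tf.hy ?_
    rintro x ⟨hx, hx1, hx2⟩
    refine ⟨hx, Or.inr ⟨?_, ?_⟩⟩
    · intro e
      rw [e, form_neg_left] at y3
      omega
    · rintro w ⟨hw, m, a, b, hm, ha, hb, e⟩
      have e1 : m * form cs h w r = a * form cs h (y - s) r + b * form cs h x r := by
        rw [← form_smul_left, e, form_add_left, form_smul_left, form_smul_left]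
      have e2 : m * form cs h w s = a * form cs h (y - s) s + b * form cs h x s := by
        rw [← form_smul_left, e, form_add_left, form_smul_left, form_smul_left]
      have hf : 0 < form cs h (y - s) r := by omega
      have g1 : 0 < form cs h w r := by
        have h3 : 0 < m * form cs h w r := by rw [e1]; exact add_pos (mul_pos ha hf) (mul_pos hb hx1)
        exact (mul_pos_iff_of_pos_left hm).1 h3
      refine ⟨hw, g1, ?_⟩
      by_contra hneg
      push Not at hneg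
      have g3 := tf.eq_of_pos K hw g1 (by rw [form_neg_right]; omega)
      subst g3
      have g4 : (m - a) * form cs h (y - s) r = b * form cs h x r := by linear_combination e1
      have g5 : (m - a) * form cs h (y - s) s = b * form cs h x s := by linear_combination e2
      have g6 : 0 < m - a := by
        have h3 : 0 < (m - a) * form cs h (y - s) r := by rw [g4]; exact mul_pos hb hx1
        exact (mul_pos_iff_of_pos_right hf).1 h3
      have g7 : (m - a) * form cs h (y - s) s < 0 := mul_neg_of_pos_of_neg g6 hneg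
      have g8 : 0 ≤ b * form cs h x s := mul_nonneg hb.le hx2
      omega
  have h2 : X y ≤ Subgroup.normalizer (RGD.Sup X S0 : Set Y) := by
    refine le_trans ?_ (Nodes.ClsNorm.centralizer_le_normalizer' _)
    intro a ha
    have h3 : RGD.Sup X S0 ≤ Subgroup.centralizer {a} := by
      refine RGD.Sup_le fun x hx b hb => ?_
      rw [Subgroup.mem_centralizer_singleton_iff]
      exact (t.comm_x C K hx.1 hx.2.1 hx.2.2 ha hb).symm
    rw [Subgroup.mem_centralizer_iff]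
    intro b hb
    exact Subgroup.mem_centralizer_singleton_iff.1 (h3 hb)
  have h3 : RGD.Sup X {x | IsRoot cs h x ∧ 0 < form cs h x r} ≤ X (y - s) ⊔ RGD.Sup X S1 := by
    refine RGD.Sup_le fun x hx => ?_
    rcases lt_or_ge (form cs h x s) 0 with h0 | h0
    · rw [tf.eq_of_pos K hx.1 hx.2 (by rw [form_neg_right]; omega)]
      exact le_sup_left
    · exact le_trans (RGD.le_Sup (S := S1) ⟨hx.1, hx.2, h0⟩) le_sup_right
  have h4 : RGD.Sup X S1 ≤ X y ⊔ RGD.Sup X S0 := by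
    refine RGD.Sup_le fun x hx => ?_
    rcases lt_or_eq_of_le hx.2.2 with h0 | h0
    · rw [t.eq_of_pos K hx.1 hx.2.1 h0]
      exact le_sup_left
    · exact le_trans (RGD.le_Sup (S := S0) ⟨hx.1, hx.2.1, h0.symm⟩) le_sup_right
  have h5 : v ∈ ((X (y - s) ⊔ RGD.Sup X S1 : Subgroup Y) : Set Y) := h3 hv
  rw [Subgroup.coe_mul_of_left_le_normalizer_right _ _ h1, Set.mem_mul] at h5
  obtain ⟨a, ha, m, hm, rfl⟩ := h5
  have h6 : m ∈ ((X y ⊔ RGD.Sup X S0 : Subgroup Y) : Set Y) := h4 hm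
  rw [Subgroup.coe_mul_of_left_le_normalizer_right _ _ h2, Set.mem_mul] at h6
  obtain ⟨b, hb, w, hw, rfl⟩ := h6
  exact ⟨a, ha, b, hb, w, hw, by rw [mul_assoc]⟩

/-- **Step A**, `r` dominant -/
theorem stepA_dom (hp : p.Prime) (hodd : p ≠ 2) (hd : Dom A r) {c : Y}
    (hcG : ∀ g ∈ GG cs h T X, c * g * c⁻¹ ∈ GG cs h T X)
    (hcr : Cq c (KK Z r)) (hcs : Cq c (KK Z s)) {u : Y} (hu : u ∈ X y) : c * u * c⁻¹ ∈ X y := by
  have tf := t.flip K
  have hP := t.pos K
  have y1 := t.yr K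
  have y2 := t.ys K
  have y3 := tf.yr K
  have y4 := tf.ys K
  have hzr := hcr _ (C.z_mem r t.hr)
  have hzs := hcs _ (C.z_mem s t.hs)
  have hzr2 := C.z_sq r t.hr
  have hzs2 := C.z_sq s t.hs
  have hzri := Nodes.ZRel.z_inv' C t.hr
  -- a square root
  obtain ⟨u₁, hu₁, hu₂⟩ : ∃ u₁ ∈ X y, u₁ * u₁ = u := by
    obtain ⟨k, hk⟩ := (C.rgd.pgrp' t.hy) ⟨u, hu⟩
    have hk' : u ^ p ^ k = 1 := congrArg Subtype.val hk
    obtain ⟨m, hm⟩ := (hp.odd_of_ne_two hodd).pow (n := k)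
    refine ⟨u ^ (m + 1), pow_mem hu _, ?_⟩
    rw [← pow_add]
    have : m + 1 + (m + 1) = p ^ k + 1 := by omega
    rw [this, pow_succ, hk', one_mul]
  set v := c * u * c⁻¹ with hv
  have hc' : ∀ x, c * x = x * c → c⁻¹ * x = x * c⁻¹ := by
    intro x hx
    calc c⁻¹ * x = c⁻¹ * (x * c) * c⁻¹ := by group
      _ = c⁻¹ * (c * x) * c⁻¹ := by rw [hx]
      _ = x * c⁻¹ := by group
  have hvV : v ∈ LeviDec.VJ cs h X (StabComb.orth cs h r) := by
    have hg : c * u₁ * c⁻¹ ∈ GG cs h T X := by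
      apply hcG
      exact (le_sup_right : G1 cs h X ≤ GG cs h T X) (X_le_G1 t.hy hu₁)
    have hcN : c ∈ Subgroup.normalizer (Z r : Set Y) :=
      Nodes.ClsNorm.centralizer_le_normalizer' _ (Subgroup.mem_centralizer_iff.2 fun x hx =>
        (hcr x ((le_sup_left : Z r ≤ KK Z r) hx)).symm)
    have hu₁N : u₁ ∈ Subgroup.normalizer (Z r : Set Y) :=
      Nodes.ClsNorm.centralizer_le_normalizer' _ (Nodes.ClsNorm.X_le_centralizer C t.hr t.hy (by omega) hu₁)
    have h1 := Nodes.ClsNorm.comm_mem_VJ C t.hr hd hg (mul_mem (mul_mem hcN hu₁N) (inv_mem hcN))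
    have h2 : c * u₁ * c⁻¹ * z r * (c * u₁ * c⁻¹)⁻¹ * (z r)⁻¹ = v := by
      have h3 := t.inv_zr C K (inv_mem hu₁)
      rw [inv_inv] at h3
      calc c * u₁ * c⁻¹ * z r * (c * u₁ * c⁻¹)⁻¹ * (z r)⁻¹
          = c * u₁ * (c⁻¹ * z r) * c * u₁⁻¹ * (c⁻¹ * (z r)⁻¹) := by group
        _ = c * u₁ * (z r * c⁻¹) * c * u₁⁻¹ * (z r * c⁻¹) := by rw [hzri, hc' _ hzr]
        _ = c * u₁ * (z r * u₁⁻¹ * z r) * c⁻¹ := by group
        _ = c * (u₁ * u₁) * c⁻¹ := by rw [h3]; group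
        _ = v := by rw [hu₂]
    rwa [h2] at h1
  have hvS : v ∈ RGD.Sup X {x | IsRoot cs h x ∧ 0 < form cs h x r} := by
    refine RGD.Sup_mono (fun x hx => ?_) hvV
    have hx1 : IsRoot cs h x := hx.1
    exact ⟨hx1, (Nodes.ClsNorm.mem_NotJ_orth_iff hd hx1).1 hx⟩
  obtain ⟨a, ha, b, hb, w, hw, e⟩ := t.decomp C K hvS
  -- `a = 1`
  have hvs : ∀ x ∈ Z s, v * x = x * v := by
    intro x hx
    have h1 := hcs x ((le_sup_left : Z s ≤ KK Z s) hx)
    have h2 := C.cent s t.hs y t.hy (by omega) u hu x hx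
    calc v * x = c * u * (c⁻¹ * x) := by rw [hv]; group
      _ = c * (u * x) * c⁻¹ := by rw [hc' _ h1]; group
      _ = (c * x) * u * c⁻¹ := by rw [h2]; group
      _ = x * v := by rw [h1, hv]; group
  have hws : ∀ x ∈ Z s, w * x = x * w := by
    intro x hx
    have h1 : RGD.Sup X {x | IsRoot cs h x ∧ 0 < form cs h x r ∧ form cs h x s = 0} ≤ Subgroup.centralizer {x} := by
      refine RGD.Sup_le fun x' hx' b' hb' => ?_
      rw [Subgroup.mem_centralizer_singleton_iff]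
      exact C.cent s t.hs x' hx'.1 hx'.2.2.ge b' hb' x hx
    exact Subgroup.mem_centralizer_singleton_iff.1 (h1 hw)
  have ha1 : a = 1 := by
    have h1 : ∀ x ∈ Z s, a * x = x * a := by
      intro x hx
      have h2 := hvs x hx
      have h3 := C.cent s t.hs y t.hy (by omega) b hb x hx
      have h4 := hws x hx
      have h5 : a = v * w⁻¹ * b⁻¹ := by rw [e]; group
      have hi : ∀ g : Y, g * x = x * g → g⁻¹ * x = x * g⁻¹ := by
        intro g hg
        calc g⁻¹ * x = g⁻¹ * (x * g) * g⁻¹ := by group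
          _ = g⁻¹ * (g * x) * g⁻¹ := by rw [hg]
          _ = x * g⁻¹ := by group
      calc a * x = v * w⁻¹ * (b⁻¹ * x) := by rw [h5]; group
        _ = v * (w⁻¹ * x) * b⁻¹ := by rw [hi b h3]; group
        _ = (v * x) * w⁻¹ * b⁻¹ := by rw [hi w h4]; group
        _ = x * a := by rw [h2, h5]; group
    have h2 : ∀ x ∈ Z (-s), a * x = x * a := fun x hx =>
      C.cent (-s) tf.hs (y - s) tf.hy (by omega) a ha x hx
    have h3 : z s ∈ Subgroup.centralizer {a} := by
      refine (sup_le (fun x hx => ?_) (fun x hx => ?_) : Z s ⊔ Z (-s) ≤ Subgroup.centralizer {a}) (C.z_mem s t.hs)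
      · rw [Subgroup.mem_centralizer_singleton_iff]; exact (h1 x hx).symm
      · rw [Subgroup.mem_centralizer_singleton_iff]; exact (h2 x hx).symm
    have h4 : z s * a = a * z s := Subgroup.mem_centralizer_singleton_iff.1 h3
    have h5 := tf.inv_zs C K ha
    rw [C.z_neg s t.hs, h4, mul_assoc, hzs2, mul_one] at h5
    exact Nodes.ZRel.eq_one_of_inv C hp hodd tf.hy ha h5
  rw [ha1, one_mul] at e
  -- `w = 1`
  have hwz : z s * w = w * z s := by
    have h1 : RGD.Sup X {x | IsRoot cs h x ∧ 0 < form cs h x r ∧ form cs h x s = 0} ≤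
        Subgroup.centralizer {z s} := by
      refine RGD.Sup_le fun x' hx' b' hb' => ?_
      rw [Subgroup.mem_centralizer_singleton_iff]
      exact Nodes.ZRel.z_cent_of_orth C t.hs hx'.1 hx'.2.2 hb'
    exact (Subgroup.mem_centralizer_singleton_iff.1 (h1 hw)).symm
  have hbw : b * w = w * b := by
    have h1 : RGD.Sup X {x | IsRoot cs h x ∧ 0 < form cs h x r ∧ form cs h x s = 0} ≤
        Subgroup.centralizer {b} := by
      refine RGD.Sup_le fun x' hx' b' hb' => ?_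
      rw [Subgroup.mem_centralizer_singleton_iff]
      exact (t.comm_x C K hx'.1 hx'.2.1 hx'.2.2 hb hb').symm
    exact (Subgroup.mem_centralizer_singleton_iff.1 (h1 hw)).symm
  have hvz : z s * v * z s = v⁻¹ := by
    calc z s * v * z s = (z s * c) * u * (c⁻¹ * z s) := by rw [hv]; group
      _ = (c * z s) * u * (z s * c⁻¹) := by rw [hzs, hc' _ hzs]
      _ = c * (z s * u * z s) * c⁻¹ := by group
      _ = v⁻¹ := by rw [t.inv_zs C K hu, hv]; group
  have hw1 : w = 1 := by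
    have hpg : IsPGroup p ↥(RGD.Sup X {x | IsRoot cs h x ∧ 0 < form cs h x r ∧ form cs h x s = 0}) := by
      refine C.rgd.isPGroup_of_pos fun x hx => ⟨hx.1, ?_⟩
      exact ((Nodes.ClsNorm.mem_NotJ_orth_iff hd hx.1).2 hx.2.1).2.1
    obtain ⟨k, hk⟩ := hpg ⟨w, hw⟩
    have hk' : w ^ p ^ k = 1 := congrArg Subtype.val hk
    refine eq_one_of_pow hp hodd hk' ?_
    have h1 := t.inv_zs C K hb
    have h2 : z s * (b * w) * z s = b⁻¹ * w := by
      calc z s * (b * w) * z s = z s * b * (w * z s) := by group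
        _ = (z s * b * z s) * w := by rw [← hwz]; group
        _ = b⁻¹ * w := by rw [h1]
    rw [e, h2, hbw, mul_inv_rev] at hvz
    exact mul_left_cancel hvz
  rw [e, hw1, mul_one]
  exact hb

end Tri

include C in
theorem Cq.conj_rp {c : Y} {k : Y} {H : Subgroup Y} (hc : Cq c H) : Cq (k * c * k⁻¹) (cj k H) := by
  intro y hy
  have h2 := hc _ (mem_cj.1 hy)
  calc k * c * k⁻¹ * y = k * (c * (k⁻¹ * y * k)) * k⁻¹ := by group
    _ = k * ((k⁻¹ * y * k) * c) * k⁻¹ := by rw [h2]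
    _ = y * (k * c * k⁻¹) := by group

namespace Tri

include C K t

/-- **Step A** -/
theorem stepA (hp : p.Prime) (hodd : p ≠ 2) {c : Y} (hcG : ∀ g ∈ GG cs h T X, c * g * c⁻¹ ∈ GG cs h T X)
    (hcr : Cq c (KK Z r)) (hcs : Cq c (KK Z s)) {u : Y} (hu : u ∈ X y) : c * u * c⁻¹ ∈ X y := by
  obtain ⟨w, hw⟩ := Nodes.ClsNorm.exists_dominant (cs := cs) (h := h) r
  obtain ⟨k, hk⟩ := exists_rp cs C.rgd.nsys w
  have hkG : k ∈ GG cs h T X := NN_le_GG C.rgd ⟨_, hk⟩
  have t' : Tri cs h R (rep cs h w r) (rep cs h w s) (rep cs h w y) :=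
    ⟨C.act r t.hr w, C.act s t.hs w, by rw [form_rep, t.orth], t.hy.act w, by rw [← map_smul, t.e, map_add]⟩
  have h1 := t'.stepA_dom C K hp hodd hw (c := k * c * k⁻¹) (fun g hg => by
      have h2 : k * c * k⁻¹ * g * (k * c * k⁻¹)⁻¹ = k * (c * (k⁻¹ * g * k) * c⁻¹) * k⁻¹ := by group
      rw [h2]
      exact mul_mem (mul_mem hkG (hcG _ (mul_mem (mul_mem (inv_mem hkG) hg) hkG))) (inv_mem hkG))
    (by rw [← Nodes.Perp.conj_KK C hk t.hr]; exact Cq.conj_rp C hcr)
    (by rw [← Nodes.Perp.conj_KK C hk t.hs]; exact Cq.conj_rp C hcs) (u := k * u * k⁻¹)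
    (by rw [← C.rgd.conj_rp hk t.hy]; exact conj_mem_cj.2 hu)
  have h2 : k * c * k⁻¹ * (k * u * k⁻¹) * (k * c * k⁻¹)⁻¹ = k * (c * u * c⁻¹) * k⁻¹ := by group
  rw [h2, ← C.rgd.conj_rp hk t.hy] at h1
  exact conj_mem_cj.1 h1

/-- **Step C** (anisotropy) -/
theorem aniso (hp : p.Prime) (hodd : p ≠ 2) {a₀ b₀ c₀ : Y} (ha₀ : a₀ ∈ Z s) (hb₀ : b₀ ∈ Z (-s)) (hb₁ : b₀ ≠ 1)
    (hc₀ : c₀ ∈ Z s) {w : W} (hm : Rp cs C.rgd.nsys w (a₀ * b₀ * c₀))
    (hw : ∀ x, rep cs h w x = x - cpr cs h x s • s) {u : Y} (hu : u ∈ X y)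
    (hcm : u * ((a₀ * b₀ * c₀)⁻¹ * u * (a₀ * b₀ * c₀)) = ((a₀ * b₀ * c₀)⁻¹ * u * (a₀ * b₀ * c₀)) * u) : u = 1 := by
  by_contra hu1
  have tf := t.flip K
  have tn := t.neg K
  have hP := t.pos K
  have y1 := t.yr K
  have y2 := t.ys K
  have y3 := tf.yr K
  have y4 := tf.ys K
  rw [form_neg_right] at y4
  have hsr : form cs h s r = 0 := by rw [form_comm]; exact t.orth
  have hss := K.len s t.hs r t.hr
  have hrR := C.root r t.hr
  have hsR := C.root s t.hs
  have hzs2 := C.z_sq s t.hs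
  set n₀ := a₀ * b₀ * c₀ with hn₀
  -- `u` is part of a reflection
  obtain ⟨a', ha', c', hc', w', hm', hw'⟩ := exists_refl_LL C.rgd t.hy.neg (b := u) (by rwa [neg_neg]) hu1
  have hrw : rep cs h w' r = -s := by
    rw [hw', cpr_neg_right cs h _ t.hy, t.cpr_ry K]
    have := t.e
    rw [two_smul] at this
    rw [neg_smul_neg, two_smul, this]; abel
  have hcZ : cj (a' * u * c') (Z r) = Z (-s) := by
    rw [Nodes.ClsNorm.conj_Z C hm' t.hr, hrw]
  have hab : a' * b₀ = b₀ * a' := C.cent (-s) (K.neg s t.hs) (-y) t.hy.neg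
    (by rw [form_neg_left, form_neg_right]; omega) a' ha' b₀ hb₀
  obtain ⟨ρ, hρ, hρe⟩ : ∃ ρ ∈ Z r, u⁻¹ * b₀ * u = c' * ρ * c'⁻¹ := by
    refine ⟨(a' * u * c')⁻¹ * b₀ * (a' * u * c'), mem_cj.1 (by rw [hcZ]; exact hb₀), ?_⟩
    calc u⁻¹ * b₀ * u = u⁻¹ * (a'⁻¹ * (a' * b₀)) * u := by group
      _ = u⁻¹ * (a'⁻¹ * (b₀ * a')) * u := by rw [hab]
      _ = c' * ((a' * u * c')⁻¹ * b₀ * (a' * u * c')) * c'⁻¹ := by group
  have hρ1 : ρ ≠ 1 := by
    rintro rfl
    apply hb₁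
    have h1 : b₀ = u * (u⁻¹ * b₀ * u) * u⁻¹ := by group
    rw [h1, hρe]; group
  -- commuting root groups
  have hy'r : ∀ {a b : Y}, a ∈ X (y - s) → b ∈ X r → a * b = b * a := fun ha hb => tf.comm_r C K ha hb
  have hy's : ∀ {a b : Y}, a ∈ X (y - s) → b ∈ X (-s) → a * b = b * a := fun ha hb => tf.comm_s C K ha hb
  have hsup : ∀ {a b : I → ℤ}, (∀ g ∈ X a, ∀ k ∈ X b, g * k = k * g) → ∀ g ∈ X a ⊔ X b,
      ∃ g₁ ∈ X a, ∃ g₂ ∈ X b, g = g₁ * g₂ := by
    intro a b hcm g hg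
    have h1 : X a ≤ Subgroup.normalizer (X b : Set Y) := by
      refine le_trans ?_ (Nodes.ClsNorm.centralizer_le_normalizer' _)
      intro g hg
      rw [Subgroup.mem_centralizer_iff]
      intro k hk
      exact (hcm g hg k hk).symm
    have h2 : g ∈ ((X a ⊔ X b : Subgroup Y) : Set Y) := hg
    rw [Subgroup.coe_mul_of_left_le_normalizer_right _ _ h1, Set.mem_mul] at h2
    obtain ⟨g₁, h3, g₂, h4, e⟩ := h2
    exact ⟨g₁, h3, g₂, h4, e.symm⟩
  -- first decomposition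
  obtain ⟨v, hv, w₁, hw₁, e1⟩ := hsup (fun g hg k hk => hy'r hg hk) _
    (t.comm_mem' C K (inv_mem (C.le _ (K.neg s t.hs) hb₀)) (inv_mem hu))
  have e2 : u⁻¹ * b₀ * u = b₀ * v * w₁ := by
    rw [mul_assoc b₀, ← e1, commutatorElement_def]; group
  -- second decomposition
  obtain ⟨v₂, hv₂, ζ, hζ, e3⟩ : ∃ v₂ ∈ X (y - s), ∃ ζ ∈ X (-s), ⁅c', ρ⁆ = v₂ * ζ := by
    refine hsup (fun g hg k hk => hy's hg hk) _ ?_
    have h1 := tn.symm.comm_mem' C K (a := ρ) (b := c') (by rw [neg_neg]; exact C.le r t.hr hρ) hc'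
    have h2 : -y - -r = y - s := by
      have := t.e
      rw [two_smul] at this
      have h3 : y - s - (-y - -r) = (y + y) - (r + s) := by abel
      rw [this, sub_self] at h3
      exact (sub_eq_zero.1 h3).symm
    rw [h2] at h1
    have h3 : ⁅c', ρ⁆ = ⁅ρ, c'⁆⁻¹ := by rw [commutatorElement_inv]
    rw [h3]
    exact inv_mem h1
  have e4 : u⁻¹ * b₀ * u = v₂ * ζ * ρ := by
    rw [hρe, ← e3, commutatorElement_def]; group
  have hζv := hy's hv₂ hζ
  -- uniqueness
  have e5 : ζ⁻¹ * b₀ = 1 := by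
    have h1 : ζ⁻¹ * b₀ = v₂ * ρ * w₁⁻¹ * v⁻¹ := by
      have h2 : b₀ * v * w₁ = ζ * v₂ * ρ := by rw [← e2, e4, hζv]
      calc ζ⁻¹ * b₀ = ζ⁻¹ * (b₀ * v * w₁) * w₁⁻¹ * v⁻¹ := by group
        _ = ζ⁻¹ * (ζ * v₂ * ρ) * w₁⁻¹ * v⁻¹ := by rw [h2]
        _ = v₂ * ρ * w₁⁻¹ * v⁻¹ := by group
    refine sep C.rgd ((2 : ℤ) • r + s) ?_ ?_
    · rw [h1]
      have f1 : 0 < form cs h (y - s) ((2 : ℤ) • r + s) := by
        rw [form_add_right, form_smul_right]; omega
      have f2 : 0 < form cs h r ((2 : ℤ) • r + s) := by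
        rw [form_add_right, form_smul_right, t.orth]; omega
      have g1 : X (y - s) ≤ RGD.Sup X {x | IsRoot cs h x ∧ 0 < form cs h x ((2 : ℤ) • r + s)} :=
        RGD.le_Sup (S := {x | IsRoot cs h x ∧ 0 < form cs h x ((2 : ℤ) • r + s)}) ⟨tf.hy, f1⟩
      have g2 : X r ≤ RGD.Sup X {x | IsRoot cs h x ∧ 0 < form cs h x ((2 : ℤ) • r + s)} :=
        RGD.le_Sup (S := {x | IsRoot cs h x ∧ 0 < form cs h x ((2 : ℤ) • r + s)}) ⟨hrR, f2⟩
      exact mul_mem (mul_mem (mul_mem (g1 hv₂) (g2 (C.le r t.hr hρ))) (inv_mem (g2 hw₁))) (inv_mem (g1 hv))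
    · have f1 : form cs h (-s) ((2 : ℤ) • r + s) < 0 := by
        rw [form_neg_left, form_add_right, form_smul_right, hsr]; omega
      have g1 : X (-s) ≤ RGD.Sup X {x | IsRoot cs h x ∧ form cs h x ((2 : ℤ) • r + s) < 0} :=
        RGD.le_Sup (S := {x | IsRoot cs h x ∧ form cs h x ((2 : ℤ) • r + s) < 0}) ⟨hsR.neg, f1⟩
      exact mul_mem (inv_mem (g1 hζ)) (g1 (C.le _ (K.neg s t.hs) hb₀))
  have hw₁ρ : w₁ = ρ := by
    have h0 : ζ = b₀ := inv_mul_eq_one.1 e5
    have h2 : b₀ * v * w₁ = ζ * v₂ * ρ := by rw [← e2, e4, hζv]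
    rw [h0] at h2
    have h3 : v⁻¹ * v₂ = w₁ * ρ⁻¹ := by
      have h4 : v * w₁ = v₂ * ρ := by
        have := congrArg (fun g => b₀⁻¹ * g) h2
        simpa [mul_assoc] using this
      calc v⁻¹ * v₂ = v⁻¹ * (v₂ * ρ) * ρ⁻¹ := by group
        _ = w₁ * ρ⁻¹ := by rw [← h4]; group
    have h4 : v⁻¹ * v₂ ∈ X (y - s) ⊓ X r := by
      refine Subgroup.mem_inf.2 ⟨mul_mem (inv_mem hv) hv₂, ?_⟩
      rw [h3]
      exact mul_mem hw₁ (inv_mem (C.le r t.hr hρ))
    rw [OppDec.X_inf_X C.rgd tf.hy hrR (by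
      intro e
      rw [e, t.orth] at y4
      omega), Subgroup.mem_bot] at h4
    rw [h4] at h3
    exact (mul_inv_eq_one.1 h3.symm)
  -- conjugation by `z s`
  have hzsu := t.inv_zs C K hu
  have hzsv : z s * v * z s = v⁻¹ := by
    have := tf.inv_zs C K hv
    rwa [C.z_neg s t.hs] at this
  have hzsb : z s * b₀ = b₀ * z s := by
    have := C.z_cent (-s) (K.neg s t.hs) b₀ hb₀
    rwa [C.z_neg s t.hs] at this
  have hzsw : w₁ * z s = z s * w₁ := Nodes.ZRel.z_cent_of_orth C t.hs hrR t.orth hw₁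
  have hzsui := t.inv_zs C K (inv_mem hu)
  rw [inv_inv] at hzsui
  have e6 : u * b₀ * u⁻¹ = b₀ * v⁻¹ * w₁ := by
    calc u * b₀ * u⁻¹ = (z s * u⁻¹ * z s) * b₀ * (z s * u * z s) := by rw [hzsu, hzsui]
      _ = z s * u⁻¹ * (z s * b₀) * z s * u * z s := by group
      _ = z s * u⁻¹ * (b₀ * z s) * z s * u * z s := by rw [hzsb]
      _ = z s * u⁻¹ * b₀ * (z s * z s) * u * z s := by group
      _ = z s * (u⁻¹ * b₀ * u) * z s := by rw [hzs2]; group
      _ = (z s * b₀) * v * (w₁ * z s) := by rw [e2]; group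
      _ = b₀ * (z s * v * z s) * w₁ := by rw [hzsb, hzsw]; group
      _ = b₀ * v⁻¹ * w₁ := by rw [hzsv]
  have huw : u * w₁ = w₁ * u := t.comm_r C K hu hw₁
  have hvw : v * w₁ = w₁ * v := hy'r hv hw₁
  have e7 : u * v * u⁻¹ = w₁⁻¹ * v * w₁⁻¹ := by
    have h1 : b₀ = b₀ * v⁻¹ * w₁ * (u * v * u⁻¹) * w₁ := by
      calc b₀ = u * (u⁻¹ * b₀ * u) * u⁻¹ := by group
        _ = (u * b₀ * u⁻¹) * (u * v * w₁ * u⁻¹) := by rw [e2]; group
        _ = b₀ * v⁻¹ * w₁ * (u * v * (w₁ * u⁻¹)) := by rw [e6]; group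
        _ = b₀ * v⁻¹ * w₁ * (u * v * (u⁻¹ * (u * w₁) * u⁻¹)) := by group
        _ = b₀ * v⁻¹ * w₁ * (u * v * (u⁻¹ * (w₁ * u) * u⁻¹)) := by rw [huw]
        _ = b₀ * v⁻¹ * w₁ * (u * v * u⁻¹) * w₁ := by group
    calc u * v * u⁻¹ = w₁⁻¹ * v * b₀⁻¹ * (b₀ * v⁻¹ * w₁ * (u * v * u⁻¹) * w₁) * w₁⁻¹ := by group
      _ = w₁⁻¹ * v * b₀⁻¹ * b₀ * w₁⁻¹ := by rw [← h1]
      _ = w₁⁻¹ * v * w₁⁻¹ := by group
  -- `v = n₀⁻¹ u⁻¹ n₀`
  have hcpr : rep cs h w (y - s) = y := by
    have h1 : cpr cs h (y - s) s = -1 := by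
      have := tf.cpr_ys K
      rw [cpr_neg_right cs h _ hsR] at this
      omega
    rw [hw, h1, neg_smul, one_smul]; abel
  have hũ : ∀ {g : Y}, g ∈ X y → n₀⁻¹ * g * n₀ ∈ X (y - s) := by
    intro g hg
    have h1 := C.rgd.conj_mem' hm t.hy hg
    rwa [← hcpr, rep_inv_apply] at h1
  have hau : a₀ * u = u * a₀ := (C.cent s t.hs y t.hy (by omega) u hu a₀ ha₀).symm
  have hcu : c₀ * u = u * c₀ := (C.cent s t.hs y t.hy (by omega) u hu c₀ hc₀).symm
  set ũ := n₀⁻¹ * u⁻¹ * n₀ with hũd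
  have hũm : ũ ∈ X (y - s) := hũ (inv_mem hu)
  have e8 : u⁻¹ * b₀ * u = b₀ * (c₀ * ũ * c₀⁻¹) * u := by
    have h1 : b₀ = a₀⁻¹ * n₀ * c₀⁻¹ := by rw [hn₀]; group
    have h2 : u⁻¹ * a₀⁻¹ = a₀⁻¹ * u⁻¹ := by rw [← mul_inv_rev, ← mul_inv_rev, hau]
    have h3 : c₀⁻¹ * u = u * c₀⁻¹ := by
      calc c₀⁻¹ * u = c₀⁻¹ * (u * c₀) * c₀⁻¹ := by group
        _ = c₀⁻¹ * (c₀ * u) * c₀⁻¹ := by rw [hcu]
        _ = u * c₀⁻¹ := by group
    calc u⁻¹ * b₀ * u = (u⁻¹ * a₀⁻¹) * n₀ * (c₀⁻¹ * u) := by rw [h1]; group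
      _ = a₀⁻¹ * n₀ * ũ * (u * c₀⁻¹) := by rw [h2, h3, hũd]; group
      _ = a₀⁻¹ * n₀ * ũ * (c₀⁻¹ * u) := by rw [h3]
      _ = b₀ * (c₀ * ũ * c₀⁻¹) * u := by rw [h1]; group
  have e9 : ⁅c₀, ũ⁻¹⁆ ∈ X y ⊔ X r := by
    have h1 := tf.comm_mem' C K (a := c₀) (b := ũ⁻¹) (by rw [neg_neg]; exact C.le s t.hs hc₀) (inv_mem hũm)
    have h2 : y - s - -s = y := by abel
    rwa [h2] at h1
  have e10 : v = ũ := by
    have h1 : ũ⁻¹ * v = ⁅c₀, ũ⁻¹⁆⁻¹ * u * w₁⁻¹ := by
      have h2 : b₀ * v * w₁ = b₀ * (c₀ * ũ * c₀⁻¹) * u := by rw [← e2, e8]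
      calc ũ⁻¹ * v = ũ⁻¹ * b₀⁻¹ * (b₀ * v * w₁) * w₁⁻¹ := by group
        _ = ũ⁻¹ * b₀⁻¹ * (b₀ * (c₀ * ũ * c₀⁻¹) * u) * w₁⁻¹ := by rw [h2]
        _ = ⁅c₀, ũ⁻¹⁆⁻¹ * u * w₁⁻¹ := by rw [commutatorElement_def]; group
    have h3 : ũ⁻¹ * v = 1 := by
      refine sep C.rgd (-(r + (2 : ℤ) • s)) ?_ ?_
      · have f1 : 0 < form cs h (y - s) (-(r + (2 : ℤ) • s)) := by
          rw [form_neg_right, form_add_right, form_smul_right]; omega
        have g1 : X (y - s) ≤ RGD.Sup X {x | IsRoot cs h x ∧ 0 < form cs h x (-(r + (2 : ℤ) • s))} :=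
          RGD.le_Sup (S := {x | IsRoot cs h x ∧ 0 < form cs h x (-(r + (2 : ℤ) • s))}) ⟨tf.hy, f1⟩
        exact mul_mem (inv_mem (g1 hũm)) (g1 hv)
      · rw [h1]
        have f1 : form cs h y (-(r + (2 : ℤ) • s)) < 0 := by
          rw [form_neg_right, form_add_right, form_smul_right]; omega
        have f2 : form cs h r (-(r + (2 : ℤ) • s)) < 0 := by
          rw [form_neg_right, form_add_right, form_smul_right, t.orth]; omega
        have g1 : X y ≤ RGD.Sup X {x | IsRoot cs h x ∧ form cs h x (-(r + (2 : ℤ) • s)) < 0} :=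
          RGD.le_Sup (S := {x | IsRoot cs h x ∧ form cs h x (-(r + (2 : ℤ) • s)) < 0}) ⟨t.hy, f1⟩
        have g2 : X r ≤ RGD.Sup X {x | IsRoot cs h x ∧ form cs h x (-(r + (2 : ℤ) • s)) < 0} :=
          RGD.le_Sup (S := {x | IsRoot cs h x ∧ form cs h x (-(r + (2 : ℤ) • s)) < 0}) ⟨hrR, f2⟩
        exact mul_mem (mul_mem (inv_mem ((sup_le g1 g2) e9)) (g1 hu)) (inv_mem (g2 hw₁))
    exact (inv_mul_eq_one.1 h3).symm
  -- conclusion
  have e11 : u * v = v * u := by
    have h1 : v = (n₀⁻¹ * u * n₀)⁻¹ := by rw [e10, hũd]; group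
    rw [h1]
    calc u * (n₀⁻¹ * u * n₀)⁻¹ = (n₀⁻¹ * u * n₀)⁻¹ * ((n₀⁻¹ * u * n₀) * u) * (n₀⁻¹ * u * n₀)⁻¹ := by group
      _ = (n₀⁻¹ * u * n₀)⁻¹ * (u * (n₀⁻¹ * u * n₀)) * (n₀⁻¹ * u * n₀)⁻¹ := by rw [hcm]
      _ = (n₀⁻¹ * u * n₀)⁻¹ * u := by group
  have e12 : w₁ = w₁⁻¹ := by
    have h1 : v = w₁⁻¹ * v * w₁⁻¹ := by rw [← e7, e11]; group
    have h2 : v * w₁⁻¹ = w₁⁻¹ * v := by
      calc v * w₁⁻¹ = w₁⁻¹ * (w₁ * v) * w₁⁻¹ := by group
        _ = w₁⁻¹ * (v * w₁) * w₁⁻¹ := by rw [hvw]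
        _ = w₁⁻¹ * v := by group
    rw [← h2] at h1
    have h3 : v * 1 = v * (w₁⁻¹ * w₁⁻¹) := by rw [mul_one, ← mul_assoc]; exact h1
    have h4 := mul_left_cancel h3
    calc w₁ = w₁ * 1 := (mul_one _).symm
      _ = w₁ * (w₁⁻¹ * w₁⁻¹) := by rw [h4]
      _ = w₁⁻¹ := by group
  exact hρ1 (hw₁ρ ▸ Nodes.ZRel.eq_one_of_inv C hp hodd hrR hw₁ e12)

/-- **Step D**: `c` centralises `X y` -/
theorem cent (hp : p.Prime) (hodd : p ≠ 2) (hZ : ∀ b ∈ Z r, b * b * b = 1) {c : Y} (hc3 : c * c * c = 1)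
    (hcG : ∀ g ∈ GG cs h T X, c * g * c⁻¹ ∈ GG cs h T X)
    (hcr : Cq c (KK Z r)) (hcs : Cq c (KK Z s)) : Cq c (X y) := by
  have tf := t.flip K
  have hP := t.pos K
  have y1 := t.yr K
  have y2 := t.ys K
  have hrR := C.root r t.hr
  have hsR := C.root s t.hs
  obtain ⟨b₀, hb₀, hb₁⟩ := Z_ne_bot' C (K.neg s t.hs)
  obtain ⟨a₀, ha₀, c₀, hc₀, w, hm, hw⟩ := exists_refl_KK C hp hodd t.hs hb₀ hb₁
  have han := fun {u : Y} => t.aniso C K hp hodd ha₀ hb₀ hb₁ hc₀ hm hw (u := u)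
  have hn₀K : a₀ * b₀ * c₀ ∈ KK Z s :=
    mul_mem (mul_mem ((le_sup_left : Z s ≤ KK Z s) ha₀) ((le_sup_right : Z (-s) ≤ KK Z s) hb₀))
      ((le_sup_left : Z s ≤ KK Z s) hc₀)
  set n₀ := a₀ * b₀ * c₀ with hn₀
  have hcpr : rep cs h w (y - s) = y := by
    have h1 : cpr cs h (y - s) s = -1 := by
      have := tf.cpr_ys K
      rw [cpr_neg_right cs h _ hsR] at this
      omega
    rw [hw, h1, neg_smul, one_smul]; abel
  have hcj : ∀ {g : Y}, g ∈ X y → n₀⁻¹ * g * n₀ ∈ X (y - s) := by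
    intro g hg
    have h1 := C.rgd.conj_mem' hm t.hy hg
    rwa [← hcpr, rep_inv_apply] at h1
  -- the form
  obtain ⟨f, hf⟩ : ∃ f : Y → Y → Y, ∀ a b, f a b = ⁅a, n₀⁻¹ * b * n₀⁆ := ⟨_, fun a b => rfl⟩
  have hfr : ∀ a ∈ X y, ∀ b ∈ X y, f a b ∈ X r := fun a ha b hb => by
    rw [hf]; exact t.comm_mem C K ha (hcj hb)
  have hfZ : ∀ a ∈ X y, ∀ b ∈ X y, f a b ∈ Z r := by
    intro a ha b hb
    refine mem_Z_of_comm C hp hodd t.hr (hfr a ha b hb) ?_
    have hr := hfr a ha b hb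
    rw [hf] at hr ⊢
    set b' := n₀⁻¹ * b * n₀ with hb'
    have hb'm : b' ∈ X (y - s) := hcj hb
    have h1 := t.inv_zr C K ha
    have h2 := tf.inv_zr C K hb'm
    have h1' := t.inv_zr C K (inv_mem ha)
    have h2' := tf.inv_zr C K (inv_mem hb'm)
    have hzz := C.z_sq r t.hr
    have e1 : z r * ⁅a, b'⁆ * z r = a⁻¹ * b'⁻¹ * a * b' := by
      calc z r * ⁅a, b'⁆ * z r = z r * a * 1 * b' * 1 * a⁻¹ * 1 * b'⁻¹ * z r := by
            rw [commutatorElement_def]; group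
        _ = z r * a * (z r * z r) * b' * (z r * z r) * a⁻¹ * (z r * z r) * b'⁻¹ * z r := by rw [hzz]
        _ = (z r * a * z r) * (z r * b' * z r) * (z r * a⁻¹ * z r) * (z r * b'⁻¹ * z r) := by group
        _ = a⁻¹ * b'⁻¹ * a * b' := by rw [h1, h2, h1', h2', inv_inv, inv_inv]
    have e2 : a * ⁅a, b'⁆ = ⁅a, b'⁆ * a := t.comm_r C K ha hr
    have e3 : b' * ⁅a, b'⁆ = ⁅a, b'⁆ * b' := tf.comm_r C K hb'm hr
    rw [e1]
    calc a⁻¹ * b'⁻¹ * a * b' = a⁻¹ * b'⁻¹ * (⁅a, b'⁆ * b') * a := by rw [commutatorElement_def]; group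
      _ = a⁻¹ * (⁅a, b'⁆ * a) := by rw [← e3]; group
      _ = ⁅a, b'⁆ := by rw [← e2]; group
  have hmul : ∀ a ∈ X y, ∀ b ∈ X y, ∀ v ∈ X y, f (a * b) v = f a v * f b v := by
    intro a ha b hb v hv
    have h1 := hfr b hb v hv
    have h2 := hfZ a ha v hv
    have h3 : a * f b v = f b v * a := t.comm_r C K ha h1
    have h4 : f b v * f a v = f a v * f b v := C.cent r t.hr r hrR hP.le _ h1 _ h2
    rw [← h4]
    rw [hf b v] at h3 ⊢
    rw [hf, hf]
    calc ⁅a * b, n₀⁻¹ * v * n₀⁆ = (a * ⁅b, n₀⁻¹ * v * n₀⁆) * a⁻¹ * ⁅a, n₀⁻¹ * v * n₀⁆ := by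
          rw [commutatorElement_def, commutatorElement_def, commutatorElement_def]; group
      _ = ⁅b, n₀⁻¹ * v * n₀⁆ * ⁅a, n₀⁻¹ * v * n₀⁆ := by rw [h3]; group
  have hcn : c * n₀ = n₀ * c := hcs _ hn₀K
  have hfc : ∀ a ∈ X y, ∀ b ∈ X y, f (c * a * c⁻¹) (c * b * c⁻¹) = f a b := by
    intro a ha b hb
    have h1 := hcr _ ((le_sup_left : Z r ≤ KK Z r) (hfZ a ha b hb))
    have hcn' : n₀⁻¹ * c = c * n₀⁻¹ := by
      calc n₀⁻¹ * c = n₀⁻¹ * (c * n₀) * n₀⁻¹ := by group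
        _ = n₀⁻¹ * (n₀ * c) * n₀⁻¹ := by rw [hcn]
        _ = c * n₀⁻¹ := by group
    have hcn'' : c⁻¹ * n₀ = n₀ * c⁻¹ := by
      calc c⁻¹ * n₀ = c⁻¹ * (n₀ * c) * c⁻¹ := by group
        _ = c⁻¹ * (c * n₀) * c⁻¹ := by rw [hcn]
        _ = n₀ * c⁻¹ := by group
    have h2 : n₀⁻¹ * (c * b * c⁻¹) * n₀ = c * (n₀⁻¹ * b * n₀) * c⁻¹ := by
      calc n₀⁻¹ * (c * b * c⁻¹) * n₀ = (n₀⁻¹ * c) * b * (c⁻¹ * n₀) := by group
        _ = c * (n₀⁻¹ * b * n₀) * c⁻¹ := by rw [hcn', hcn'']; group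
    calc f (c * a * c⁻¹) (c * b * c⁻¹) = ⁅c * a * c⁻¹, c * (n₀⁻¹ * b * n₀) * c⁻¹⁆ := by rw [hf, h2]
      _ = c * f a b * c⁻¹ := by rw [hf, commutatorElement_def, commutatorElement_def]; group
      _ = f a b := by rw [h1]; group
  have hab : ∀ a ∈ X y, ∀ b ∈ X y, a * b = b * a := by
    intro a ha b hb
    have h1 := t.inv_zr C K ha
    have h2 := t.inv_zr C K hb
    have h3 := t.inv_zr C K (mul_mem ha hb)
    have hzz := C.z_sq r t.hr
    have h4 : a⁻¹ * b⁻¹ = (a * b)⁻¹ := by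
      calc a⁻¹ * b⁻¹ = z r * a * (z r * z r) * b * z r := by rw [← h1, ← h2]; group
        _ = z r * (a * b) * z r := by rw [hzz]; group
        _ = (a * b)⁻¹ := h3
    have h5 := congrArg (·⁻¹) h4
    simp only [mul_inv_rev, inv_inv] at h5
    exact h5.symm
  -- the abstract lemma
  let _ : CommGroup ↥(X y) := { (inferInstance : Group ↥(X y)) with mul_comm := fun a b => Subtype.ext (hab _ a.2 _ b.2) }
  have hinv : ∀ u : ↥(X y), c * (u : Y) * c⁻¹ ∈ X y := fun u => t.stepA C K hp hodd hcG hcr hcs u.2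
  have key := fixed_of_aniso (V := Additive ↥(X y)) (Y' := Y)
    (fun a b => f (a.toMul : ↥(X y)) (b.toMul : ↥(X y))) (fun a => Additive.ofMul ⟨c * (a.toMul : ↥(X y)) * c⁻¹, hinv _⟩)
    (fun a b => by
      apply Additive.toMul.injective
      apply Subtype.ext
      change c * ((a.toMul : ↥(X y)) * (b.toMul : ↥(X y)) : Y) * c⁻¹ =
        (c * (a.toMul : ↥(X y)) * c⁻¹) * (c * (b.toMul : ↥(X y)) * c⁻¹)
      group)
    (fun a => by
      apply Additive.toMul.injective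
      apply Subtype.ext
      change c * (c * (c * (a.toMul : ↥(X y)) * c⁻¹) * c⁻¹) * c⁻¹ = ((a.toMul : ↥(X y)) : Y)
      have : c * (c * (c * (a.toMul : ↥(X y)) * c⁻¹) * c⁻¹) * c⁻¹ =
        (c * c * c) * ((a.toMul : ↥(X y)) : Y) * (c * c * c)⁻¹ := by group
      rw [this, hc3]; group)
    (fun a b v => hmul _ a.toMul.2 _ b.toMul.2 _ v.toMul.2)
    (fun a v => hZ _ (hfZ _ a.toMul.2 _ v.toMul.2))
    (fun a b => hfc _ a.toMul.2 _ b.toMul.2)
    (fun a ha => by
      apply Additive.toMul.injective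
      apply Subtype.ext
      refine han a.toMul.2 ?_
      have h1 : f (a.toMul : ↥(X y)) (a.toMul : ↥(X y)) = 1 := ha
      rw [hf, commutatorElement_eq_one_iff_mul_comm] at h1
      exact h1)
  intro u hu
  have h1 := key (Additive.ofMul ⟨u, hu⟩)
  have h2 : c * u * c⁻¹ = u := congrArg (fun a : Additive ↥(X y) => ((a.toMul : ↥(X y)) : Y)) h1
  calc c * u = (c * u * c⁻¹) * c := by group
    _ = u * c := by rw [h2]

end Tri

end Groups

/-- **(F2'_3), (c2)**: `c` centralises all root groups. -/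
theorem cent_of_perp {r : I → ℤ} (C : Cls cs h p T n X R Z z) (hp : p.Prime) (hodd : p ≠ 2) (K : Lcc cs h R)
    (hZ : ∀ r ∈ R, ∀ b ∈ Z r, b * b * b = 1) (hr : r ∈ R) (hnb : ∃ s y, Tri cs h R r s y) {c : Y}
    (hc3 : c * c * c = 1) (hcG : ∀ g ∈ GG cs h T X, c * g * c⁻¹ ∈ GG cs h T X) (hcr : Cq c (KK Z r))
    (hcx : ∀ x, IsRoot cs h x → form cs h x r = 0 → Cq c (X x)) : ∀ x, IsRoot cs h x → Cq c (X x) := by
  -- the half sums
  have key : ∀ r' s y, (r' = r ∨ r' = -r) → Tri cs h R r' s y → Cq c (X y) := by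
    intro r' s y hr' t
    have h1 : Cq c (KK Z r') := by
      rcases hr' with rfl | rfl
      · exact hcr
      · rw [KK_neg]; exact hcr
    have h2 : ∀ x, IsRoot cs h x → form cs h x r' = 0 → Cq c (X x) := by
      intro x hx h0
      rcases hr' with rfl | rfl
      · exact hcx x hx h0
      · rw [form_neg_right, neg_eq_zero] at h0
        exact hcx x hx h0
    have h3 : form cs h s r' = 0 := by rw [form_comm]; exact t.orth
    have h4 : Cq c (KK Z s) :=
      ((h2 s (K.root s t.hs) h3).mono (C.le s t.hs)).sup ((h2 (-s) (K.root s t.hs).neg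
        (by rw [form_neg_left, h3, neg_zero])).mono (C.le _ (K.neg s t.hs)))
    exact t.cent C K hp hodd (hZ r' t.hr) hc3 hcG h1 h4
  obtain ⟨s, y, t⟩ := hnb
  have hsr : form cs h s r = 0 := by rw [form_comm]; exact t.orth
  have hL : Cq c (LL X y) := (key r s y (Or.inl rfl) t).sup (key (-r) (-s) (-y) (Or.inr rfl) (t.neg K))
  obtain ⟨m, hm, w, hmw, hw⟩ := Nodes.Perp.exists_refl C t.hy
  have hcm := hL m hm
  have hrs : rep cs h w s = -r := by
    rw [hw, t.symm.cpr_ry K]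
    have := t.e
    rw [two_smul] at this
    rw [two_smul, this]; abel
  have hXnr : Cq c (X (-r)) := by
    have h1 := (hcx s (C.root s t.hs) hsr).conj hcm
    rwa [C.rgd.conj_rp hmw (C.root s t.hs), hrs] at h1
  have hXr : Cq c (X r) := by
    have h1 := (hcx (-s) (C.root s t.hs).neg (by rw [form_neg_left, hsr, neg_zero])).conj hcm
    rwa [C.rgd.conj_rp hmw (C.root s t.hs).neg, map_neg, hrs, neg_neg] at h1
  intro x hx
  by_cases h0 : form cs h x r = 0
  · exact hcx x hx h0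
  by_cases hxR : x ∈ R
  · by_cases e1 : x = r
    · rw [e1]; exact hXr
    by_cases e2 : x = -r
    · rw [e2]; exact hXnr
    exact absurd (K.orth x hxR r hr e1 e2) h0
  obtain ⟨a, ha, b, hb, hab, e⟩ := K.half x hx hxR
  have tx : Tri cs h R a b x := ⟨ha, hb, hab, hx, e⟩
  by_cases a1 : a = r
  · exact key a b x (Or.inl a1) tx
  by_cases a2 : a = -r
  · exact key a b x (Or.inr a2) tx
  by_cases b1 : b = r
  · exact key b a x (Or.inl b1) tx.symm
  by_cases b2 : b = -r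
  · exact key b a x (Or.inr b2) tx.symm
  exfalso
  apply h0
  have h1 : 2 * form cs h x r = 0 := by
    rw [← form_smul_left, e, form_add_left, K.orth a ha r hr a1 a2, K.orth b hb r hr b1 b2, add_zero]
  omega

end Cfsg.Agent.OddHalf.NI3.FThree

end

-- merged: Cfsg.Agent.OddHalf.NI3.FThree.Kinds
section

/-!
# (F2'_3), part (c): the kinds

For a chart `c` of `L` over the field with three elements (`|Z r| = 3`):

* `comm_of_chart` : kinds `A n`, `B n` (`n ≥ 3`), `D n`, `E n`, `F₄` (all kinds but `C n`, `G₂`): a subgroup `Q` of `L`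
  centralising `KK Z r` and all `X x`, `x` orthogonal to `r`, is commutative;
* `cent_of_chart` : kinds `C n`, `n ≥ 2`: an element of order three normalising `L` and centralising `KK Z r` and all
  `X x`, `x` orthogonal to `r`, centralises `L`.
-/

set_option autoImplicit false
set_option linter.unusedSectionVars false
set_option linter.dupNamespace false

namespace Cfsg.Agent.OddHalf.NI3.FThree

open Cfsg
open CoxeterSystem Cfsg.Agent.ChevalleyStructure.CoxeterGeom Cfsg.Agent.Tits.Roots Cfsg.Agent.Tits.Core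
  Cfsg.Agent.Tits.RootComb Cfsg.Agent.Nodes.Comb Cfsg.Agent.Nodes.Reps Cfsg.Agent.Nodes.BNOf
  Cfsg.Agent.Nodes.RGDLib Cfsg.Agent.Nodes.Chart Cfsg.Agent.Nodes.Coroot Cfsg.Agent.Nodes.FreeTorus
  Cfsg.Agent.Nodes.SubComb Cfsg.Agent.Nodes.Bruhat Cfsg.Agent.Nodes.StabComb Cfsg.Agent.Nodes.Perp
  Cfsg.Agent.Nodes.Sub Cfsg.Agent.Nodes.ClsSub Cfsg.Agent.Nodes Cfsg.Agent.Nodes.KindBC

/-! ### Root level -/

section Root

variable {I W : Type*} [Fintype I] [DecidableEq I] [Group W] [Fintype W] {M : CoxeterMatrix I}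
  (cs : CoxeterSystem M W) {A : I → I → ℤ} (h : IsCartan M A)

/-- the roots outside `R` can be moved into the hyperplanes of the members of `R` -/
def Short (R : Set (I → ℤ)) : Prop :=
  ∀ r ∈ R, ∀ x, IsRoot cs h x → x ∉ R → ∃ s ∈ R, cpr cs h (x - cpr cs h x s • s) r = 0

/-- the root level conditions of `Lcc`, and any member of `R` is half of a sum -/
structure Long (R : Set (I → ℤ)) : Prop where
  orth : ∀ x ∈ R, ∀ y ∈ R, x ≠ y → x ≠ -y → cpr cs h x y = 0
  half : ∀ x, IsRoot cs h x → x ∉ R → ∃ a ∈ R, ∃ b ∈ R, cpr cs h a b = 0 ∧ (2 : ℤ) • x = a + b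
  nbr : ∀ r ∈ R, ∃ s ∈ R, ∃ y, cpr cs h r s = 0 ∧ IsRoot cs h y ∧ (2 : ℤ) • y = r + s

/-- roots of the same length -/
theorem abs_cpr_le_one {x y : I → ℤ} (hy : IsRoot cs h y)
    (hl : form cs h x x = form cs h y y) (h1 : x ≠ y) (h2 : x ≠ -y) : |cpr cs h x y| ≤ 1 := by
  have e1 := two_form_cpr cs h x hy
  have p1 := form_pos cs h (x := x - y) (sub_ne_zero.2 h1)
  have p2 := form_pos cs h (x := x + y) (by rw [← sub_neg_eq_add]; exact sub_ne_zero.2 h2)
  have p3 := form_pos cs h hy.ne_zero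
  rw [form_sub_left, form_sub_right, form_sub_right, form_comm cs h y x, hl] at p1
  rw [form_add_left, form_add_right, form_add_right, form_comm cs h y x, hl] at p2
  set N := form cs h y y
  set k := cpr cs h x y
  have q1 : (2 - k) * N > 0 := by linarith
  have q2 : (2 + k) * N > 0 := by linarith
  have q3 := (mul_pos_iff_of_pos_right p3).1 q1
  have q4 := (mul_pos_iff_of_pos_right p3).1 q2
  rw [abs_le]
  omega

end Root

/-! ### The kind `B n` -/

section KB

variable {n : ℕ} {W : Type*} [Group W] [Fintype W] (cs : CoxeterSystem (CoxeterMatrix.B n) W)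

theorem short_B (hn : 3 ≤ n) : Short cs (TypeC.isCartan n) (RB n) := by
  intro r hr x hx hxR
  have hxC : x ∈ RC n := ((isRoot_iff_mem cs).1 hx).resolve_left hxR
  obtain ⟨a, rfl⟩ := mem_RC.1 hxC
  obtain ⟨b, c, hbc, rfl⟩ := mem_RB.1 hr
  obtain ⟨k, hk⟩ : ∃ k : Fin n, k ∉ ({b.1, c.1} : Finset (Fin n)) := by
    by_contra hcon
    push Not at hcon
    have h1 : (Finset.univ : Finset (Fin n)) ⊆ {b.1, c.1} := fun k _ => hcon k
    have h2 := Finset.card_le_card h1
    have h3 := Finset.card_le_two (a := b.1) (b := c.1)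
    rw [Finset.card_univ, Fintype.card_fin] at h2
    omega
  rw [Finset.mem_insert, Finset.mem_singleton, not_or] at hk
  by_cases hak : a.1 = k
  · -- already orthogonal; `s = r` works if `cpr = 0`
    refine ⟨rt b c, rt_mem_RB hbc, ?_⟩
    have h1 : cpr cs (TypeC.isCartan n) (rt a a) (rt b c) = 0 := by
      rw [cpr_rt cs _ hbc, ee_rt, Pi.add_apply, Pi.add_apply, wt_apply_ne (by rw [hak]; exact Ne.symm hk.1),
        wt_apply_ne (by rw [hak]; exact Ne.symm hk.2)]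
      ring
    rw [h1, zero_smul, sub_zero, h1]
  · have hs : a.1 ≠ ((k, true) : Fin n × Bool).1 := hak
    refine ⟨rt a (TypeC.ng (k, true)), rt_mem_RB hs, ?_⟩
    have h1 : cpr cs (TypeC.isCartan n) (rt a a) (rt a (TypeC.ng (k, true))) = 2 := by
      rw [cpr_rt cs _ (b := TypeC.ng (k, true)) hs, ee_rt, Pi.add_apply, Pi.add_apply, wt_apply_self,
        wt_apply_ne (a := a) (k := (TypeC.ng (k, true)).1) (Ne.symm hak)]
      rcases sn_eq_one_or a with h | h <;> rw [h] <;> ring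
    have h2 : TypeC.ee (rt a a - (2 : ℤ) • rt a (TypeC.ng (k, true))) = (2 : ℤ) • TypeC.wt (k, true) := by
      rw [sub_eq_add_neg, TypeC.ee_add, TypeC.ee_neg, TypeC.ee_smul, ee_rt, ee_rt, TypeC.wt_ng]
      module
    rw [h1, cpr_rt cs _ hbc, h2, Pi.smul_apply, Pi.smul_apply, wt_apply_ne (Ne.symm hk.1),
      wt_apply_ne (Ne.symm hk.2)]
    simp

end KB

/-! ### The kind `C n` -/

section KC

variable {n : ℕ} {W : Type*} [Group W] [Fintype W] (cs : CoxeterSystem (CoxeterMatrix.B n) W)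

theorem long_C (hn : 2 ≤ n) : Long cs (TypeC.isCartan n) (RC n) where
  orth x hx y hy h1 h2 := by
    obtain ⟨a, rfl⟩ := mem_RC.1 hx
    obtain ⟨b, rfl⟩ := mem_RC.1 hy
    have hab : b.1 ≠ a.1 := by
      intro e
      obtain ⟨i, s⟩ := a
      obtain ⟨j, t⟩ := b
      change j = i at e
      subst e
      cases s <;> cases t
      · exact h1 rfl
      · apply h2; rw [← rt_ng]; rfl
      · apply h2; rw [← rt_ng]; rfl
      · exact h1 rfl
    rw [cpr_rt_self, ee_rt, Pi.add_apply, wt_apply_ne hab]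
    ring
  half x hx hxR := by
    have hxB : x ∈ RB n := ((isRoot_iff_mem cs).1 hx).resolve_right hxR
    obtain ⟨a, b, hab, rfl⟩ := mem_RB.1 hxB
    refine ⟨rt a a, rt_mem_RC a, rt b b, rt_mem_RC b, ?_, ?_⟩
    · rw [cpr_rt_self, ee_rt, Pi.add_apply, wt_apply_ne (Ne.symm hab)]
      ring
    · apply TypeC.ee_injective
      rw [TypeC.ee_smul, TypeC.ee_add, ee_rt, ee_rt, ee_rt]
      module
  nbr r hr := by
    obtain ⟨a, rfl⟩ := mem_RC.1 hr
    obtain ⟨k, hk⟩ : ∃ k : Fin n, k ∉ ({a.1} : Finset (Fin n)) := by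
      by_contra hcon
      push Not at hcon
      have h1 : (Finset.univ : Finset (Fin n)) ⊆ {a.1} := fun k _ => hcon k
      have h2 := Finset.card_le_card h1
      rw [Finset.card_univ, Fintype.card_fin, Finset.card_singleton] at h2
      omega
    rw [Finset.mem_singleton] at hk
    refine ⟨rt (k, true) (k, true), rt_mem_RC _, rt a (k, true), ?_, isRoot_rt cs (Or.inl (Ne.symm hk)), ?_⟩
    · rw [cpr_rt_self, ee_rt, Pi.add_apply, wt_apply_ne hk]
      ring
    · apply TypeC.ee_injective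
      rw [TypeC.ee_smul, TypeC.ee_add, ee_rt, ee_rt, ee_rt]
      module

end KC

/-! ### The kind `F₄` -/

section KF

open Cfsg.Lie Cfsg.Agent.ChevalleyStructure Cfsg.Agent.ChevalleyStructure.RootVec
  Cfsg.Agent.ChevalleyStructure.CoxeterGeomTypes Cfsg.Agent.Nodes.RGDChev Cfsg.Agent.Nodes.KindChev

set_option backward.isDefEq.respectTransparency false in
theorem aux_F : ∀ i < chevF4.nroots, ∃ k < chevF4.nroots,
    qf (cartanOf chevF4 4) KindF.d (vec chevF4 4 k) (vec chevF4 4 k) = 4 ∧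
    2 * qf (cartanOf chevF4 4) KindF.d (vec chevF4 4 i) (KindF.fr 0) =
      qf (cartanOf chevF4 4) KindF.d (vec chevF4 4 i) (vec chevF4 4 k) *
        qf (cartanOf chevF4 4) KindF.d (vec chevF4 4 k) (KindF.fr 0) ∨
    qf (cartanOf chevF4 4) KindF.d (vec chevF4 4 i) (vec chevF4 4 i) = 4 := by decide +kernel

theorem short_F {W : Type*} [Group W] [Fintype W] (cs : CoxeterSystem CoxeterMatrix.F₄ W)
    (h : IsCartan CoxeterMatrix.F₄ (cartanOf chevF4 4)) : Short cs h (KindF.R cs h) := by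
  -- for the highest root
  have key : ∀ x, IsRoot cs h x → x ∉ KindF.R cs h → ∃ s ∈ KindF.R cs h,
      cpr cs h (x - cpr cs h x s • s) (KindF.fr 0) = 0 := by
    intro x hx hxR
    obtain ⟨i, hi, rfl⟩ := (isRoot_iff KindF.isType cs x).1 hx
    obtain ⟨k, hk, h1⟩ := aux_F i hi
    have h2 : qf (cartanOf chevF4 4) KindF.d (vec chevF4 4 i) (vec chevF4 4 i) ≠ 4 := fun e => hxR ⟨hx, e⟩
    obtain ⟨h3, h4⟩ := h1.resolve_right h2
    have hs : IsRoot cs h (vec chevF4 4 k) := isRoot_vec KindF.isType cs hk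
    refine ⟨vec chevF4 4 k, ⟨hs, h3⟩, ?_⟩
    have h0 := KindF.kd.isRoot (cs := cs) (h := h) KindF.isType 0
    have h5 := cpr_mul_qf cs h KindF.kd.hd (vec chevF4 4 i) hs
    have h6 := cpr_mul_qf cs h KindF.kd.hd
      (vec chevF4 4 i - cpr cs h (vec chevF4 4 i) (vec chevF4 4 k) • vec chevF4 4 k) h0
    rw [h3] at h5
    rw [KindF.kd.norm, qf_sub_left, qf_smul_left] at h6
    set c := cpr cs h (vec chevF4 4 i) (vec chevF4 4 k)
    have h7 : 2 * (qf (cartanOf chevF4 4) KindF.d (vec chevF4 4 i) (KindF.fr 0) -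
        c * qf (cartanOf chevF4 4) KindF.d (vec chevF4 4 k) (KindF.fr 0)) = 0 := by
      have h8 : qf (cartanOf chevF4 4) KindF.d (vec chevF4 4 i) (vec chevF4 4 k) = 2 * c := by linarith
      rw [h8] at h4
      linear_combination h4
    rw [h7] at h6
    rcases mul_eq_zero.1 h6 with h8 | h8
    · exact h8
    · norm_num at h8
  intro r hr x hx hxR
  obtain ⟨w, hw⟩ := KindF.trans cs h hr (KindF.kd.mem KindF.isType 0)
  have hx' : rep cs h w x ∉ KindF.R cs h := by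
    intro h1
    have h2 := (KindF.frameSys cs h).act _ h1 w⁻¹
    rw [rep_inv_apply] at h2
    exact hxR h2
  obtain ⟨s, hs, h1⟩ := key _ (hx.act w) hx'
  refine ⟨rep cs h w⁻¹ s, (KindF.frameSys cs h).act _ hs _, ?_⟩
  have hsr : IsRoot cs h s := hs.1
  have h2 : cpr cs h x (rep cs h w⁻¹ s) = cpr cs h (rep cs h w x) s := by
    have := cpr_rep cs h w⁻¹ (rep cs h w x) hsr
    rwa [rep_inv_apply] at this
  have h3 := cpr_rep cs h w (x - cpr cs h (rep cs h w x) s • rep cs h w⁻¹ s) (y := r) hr.1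
  rw [map_sub, map_smul, rep_apply_inv, hw, h1] at h3
  rw [h2]
  exact h3.symm

theorem long_F4_iff {W : Type*} [Group W] [Fintype W] (cs : CoxeterSystem CoxeterMatrix.F₄ W)
    (h : IsCartan CoxeterMatrix.F₄ (cartanOf chevF4 4)) (j : Fin 4) :
    Ty.F4.long j ↔ (sr j : Fin 4 → ℤ) ∈ KindF.R cs h := by
  have h1 := qf_root cs h KindF.kd.hd 1 j
  rw [map_one, Module.End.one_apply] at h1
  have h2 : (sr j : Fin 4 → ℤ) ∈ KindF.R cs h ↔ 2 * KindF.d j = 4 := by
    constructor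
    · rintro ⟨-, h3⟩
      rw [← h1]; exact h3
    · intro h3
      exact ⟨isRoot_sr cs h j, by rw [h1]; exact h3⟩
  rw [h2]
  change 2 ≤ (j : ℕ) ↔ _
  clear h1 h2
  revert j
  decide

end KF

/-! ### Transport -/

section Chart

variable {G : Type*} [Group G] {Om : Set (Subgroup G)} {p : ℕ} {L : Subgroup G}

/-- the standard Coxeter system on the group of the chart -/
theorem exists_std' (c : Chart Om p L) {τ : Ty} (hτ : c.IsTy τ) :
    ∃ (e : c.I ≃ Fin τ.rk) (cs' : CoxeterSystem τ.M c.W), (∀ i j, c.A i j = τ.cartan (e i) (e j)) ∧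
      (∀ i, cs'.simple (e i) = c.cs.simple i) ∧ (∀ i, sr i ∈ c.R ↔ τ.long (e i)) := by
  obtain ⟨e, hA, hl⟩ := hτ
  obtain ⟨cs', hs⟩ := Reindex.exists_reindex c.cs e (fun i j => c.M_apply hA i j)
  exact ⟨e, cs', hA, hs, hl⟩

theorem short_of (c : Chart Om p L) {τ : Ty} (e : c.I ≃ Fin τ.rk) (cs' : CoxeterSystem τ.M c.W)
    (hA : ∀ i j, c.A i j = τ.cartan (e i) (e j)) (hs : ∀ i, cs'.simple (e i) = c.cs.simple i)
    {R' : Set (Fin τ.rk → ℤ)} (hR'r : ∀ x ∈ R', IsRoot cs' τ.isCartan x)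
    (hact' : ∀ r ∈ R', ∀ w, rep cs' τ.isCartan w r ∈ R') (hl : ∀ i, sr i ∈ c.R ↔ sr (e i) ∈ R')
    (hS : Short cs' τ.isCartan R') : Short c.cs c.h c.R := by
  have hmem : ∀ x, IsRoot c.cs c.h x → (x ∈ c.R ↔ x ∘ e.symm ∈ R') := by
    intro x hx
    have h1 := TyStd.mem_R_iff (cs := c.cs) (h := c.h) e (fun i j => c.M_apply hA i j) hA cs' τ.isCartan c.cls.act
      hact' hl (x := x ∘ e.symm) ((Reindex.isRoot_reindex hA hs).2 hx)
    rw [← h1]
    have h2 : (fun i => (x ∘ e.symm) (e i)) = x := by funext i; simp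
    rw [h2]
  intro r hr x hx hxR
  obtain ⟨s', hs', h1⟩ := hS _ ((hmem r (c.cls.root r hr)).1 hr) (x ∘ e.symm) ((Reindex.isRoot_reindex hA hs).2 hx)
    (fun h0 => hxR ((hmem x hx).2 h0))
  obtain ⟨s, rfl⟩ : ∃ s : c.I → ℤ, s' = s ∘ e.symm := ⟨s' ∘ e, (Reindex.comp_symm s').symm⟩
  have hsr : IsRoot c.cs c.h s := (Reindex.isRoot_reindex hA hs).1 (hR'r _ hs')
  refine ⟨s, (hmem s hsr).2 hs', ?_⟩
  rw [← Reindex.cpr_reindex (cs' := cs') (h' := τ.isCartan) hA hs _ (c.cls.root r hr),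
    ← Reindex.cpr_reindex (cs' := cs') (h' := τ.isCartan) hA hs x hsr]
  exact h1

theorem long_of (c : Chart Om p L) {τ : Ty} (e : c.I ≃ Fin τ.rk) (cs' : CoxeterSystem τ.M c.W)
    (hA : ∀ i j, c.A i j = τ.cartan (e i) (e j)) (hs : ∀ i, cs'.simple (e i) = c.cs.simple i)
    {R' : Set (Fin τ.rk → ℤ)} (hR'r : ∀ x ∈ R', IsRoot cs' τ.isCartan x)
    (hact' : ∀ r ∈ R', ∀ w, rep cs' τ.isCartan w r ∈ R') (hl : ∀ i, sr i ∈ c.R ↔ sr (e i) ∈ R')
    (hS : Long cs' τ.isCartan R') : Long c.cs c.h c.R := by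
  have hmem : ∀ x, IsRoot c.cs c.h x → (x ∈ c.R ↔ x ∘ e.symm ∈ R') := by
    intro x hx
    have h1 := TyStd.mem_R_iff (cs := c.cs) (h := c.h) e (fun i j => c.M_apply hA i j) hA cs' τ.isCartan c.cls.act
      hact' hl (x := x ∘ e.symm) ((Reindex.isRoot_reindex hA hs).2 hx)
    rw [← h1]
    have h2 : (fun i => (x ∘ e.symm) (e i)) = x := by funext i; simp
    rw [h2]
  have lift : ∀ s' ∈ R', ∃ s ∈ c.R, s' = s ∘ e.symm := by
    intro s' hs'
    obtain ⟨s, rfl⟩ : ∃ s : c.I → ℤ, s' = s ∘ e.symm := ⟨s' ∘ e, (Reindex.comp_symm s').symm⟩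
    exact ⟨s, (hmem s ((Reindex.isRoot_reindex hA hs).1 (hR'r _ hs'))).2 hs', rfl⟩
  refine ⟨?_, ?_, ?_⟩
  · intro x hx y hy h1 h2
    rw [← Reindex.cpr_reindex (cs' := cs') (h' := τ.isCartan) hA hs _ (c.cls.root y hy)]
    exact hS.orth _ ((hmem x (c.cls.root x hx)).1 hx) _ ((hmem y (c.cls.root y hy)).1 hy)
      (fun e0 => h1 (Reindex.comp_inj e0)) (fun e0 => h2 (Reindex.comp_inj (e := e) e0))
  · intro x hx hxR
    obtain ⟨a', ha', b', hb', h1, h2⟩ := hS.half _ ((Reindex.isRoot_reindex hA hs).2 hx) (fun h0 => hxR ((hmem x hx).2 h0))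
    obtain ⟨a, ha, rfl⟩ := lift a' ha'
    obtain ⟨b, hb, rfl⟩ := lift b' hb'
    refine ⟨a, ha, b, hb, ?_, ?_⟩
    · rw [← Reindex.cpr_reindex (cs' := cs') (h' := τ.isCartan) hA hs _ (c.cls.root b hb)]
      exact h1
    · exact Reindex.comp_inj (e := e) h2
  · intro r hr
    obtain ⟨s', hs', y', h1, h2, h3⟩ := hS.nbr _ ((hmem r (c.cls.root r hr)).1 hr)
    obtain ⟨s, hs2, rfl⟩ := lift s' hs'
    obtain ⟨y, rfl⟩ : ∃ y : c.I → ℤ, y' = y ∘ e.symm := ⟨y' ∘ e, (Reindex.comp_symm y').symm⟩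
    refine ⟨s, hs2, y, ?_, (Reindex.isRoot_reindex hA hs).1 h2, Reindex.comp_inj (e := e) h3⟩
    rw [← Reindex.cpr_reindex (cs' := cs') (h' := τ.isCartan) hA hs _ (c.cls.root s hs2)]
    exact h1

/-- if all simple roots are in `R` then `R` is the set of roots -/
theorem short_of_all (c : Chart Om p L) (hl : ∀ i, sr i ∈ c.R) : Short c.cs c.h c.R := by
  intro r _ x hx hxR
  obtain ⟨w, i, rfl⟩ := hx
  exact absurd (c.cls.act _ (hl i) w) hxR

theorem short_of_isTy (c : Chart Om p L) {τ : Ty} (hτ : c.IsTy τ) (ok : Cit.KindOk τ) (hC : ∀ n, τ ≠ .C n) :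
    Short c.cs c.h c.R := by
  obtain ⟨e, cs', hA, hs, hl⟩ := exists_std' c hτ
  match τ, hτ, ok, hC, e, cs', hA, hs, hl with
  | .A n, _, _, _, _, _, _, _, hl => exact short_of_all c fun i => (hl i).2 trivial
  | .B n, _, ok, _, e, cs', hA, hs, hl =>
    exact short_of c (τ := .B n) e cs' hA hs (R' := RB n) (fun x hx => root_RB cs' hx) (fun r hr w => act_RB cs' hr w)
      (fun i => by rw [hl]; exact RKindsBC.sr_mem_RB.symm) (short_B cs' ok)
  | .C n, _, _, hC, _, _, _, _, _ => exact absurd rfl (hC n)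
  | .D n, _, _, _, _, _, _, _, hl => exact short_of_all c fun i => (hl i).2 trivial
  | .E6, _, _, _, _, _, _, _, hl => exact short_of_all c fun i => (hl i).2 trivial
  | .E7, _, _, _, _, _, _, _, hl => exact short_of_all c fun i => (hl i).2 trivial
  | .E8, _, _, _, _, _, _, _, hl => exact short_of_all c fun i => (hl i).2 trivial
  | .F4, _, _, _, e, cs', hA, hs, hl =>
    refine short_of c (τ := .F4) e cs' hA hs (R' := KindF.R cs' Ty.F4.isCartan) (fun x hx => hx.1)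
      (fun r hr w => (KindF.frameSys cs' Ty.F4.isCartan).act r hr w) (fun i => ?_) (short_F cs' _)
    rw [hl]
    exact long_F4_iff cs' _ (e i)
  | .G2, _, ok, _, _, _, _, _, _ => exact absurd ok id

theorem long_of_isTy (c : Chart Om p L) {n : ℕ} (hτ : c.IsTy (.C n)) (hn : 2 ≤ n) : Long c.cs c.h c.R := by
  obtain ⟨e, cs', hA, hs, hl⟩ := exists_std' c hτ
  exact long_of c (τ := .C n) e cs' hA hs (R' := RC n) (fun x hx => root_RC cs' hx) (fun r hr w => act_RC cs' hr w)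
    (fun i => by rw [hl]; exact RKindsBC.sr_mem_RC.symm) (long_C cs' hn)

theorem form_eq_R (c : Chart Om p L) : ∀ x ∈ c.R, ∀ y ∈ c.R, form c.cs c.h x x = form c.cs c.h y y := by
  intro x hx y hy
  obtain ⟨w, rfl⟩ := c.trans x hx y hy
  rw [form_rep]

theorem lac_of_isTy (c : Chart Om p L) {τ : Ty} (hτ : c.IsTy τ) (ok : Cit.KindOk τ) (hC : ∀ n, τ ≠ .C n)
    (zx : ∀ r ∈ c.R, c.Z r = c.X r) (h3 : ∀ r ∈ c.R, Nat.card (c.Z r) = 3) {r : c.I → ℤ} (hr : r ∈ c.R) :
    Lac c.cs c.h c.X c.R c.Z r where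
  mem := hr
  card := h3
  zx := zx
  le_one x hx y hy h1 h2 := abs_cpr_le_one c.cs c.h (c.cls.root y hy) (form_eq_R c x hx y hy) h1 h2
  short x hx hxR _ := by
    obtain ⟨s, hs, h1⟩ := short_of_isTy c hτ ok hC r hr x hx hxR
    exact ⟨s, hs, (cpr_zero_iff c.cs c.h _ (c.cls.root r hr)).1 h1⟩

theorem lcc_of_isTy (c : Chart Om p L) {n : ℕ} (hτ : c.IsTy (.C n)) (hn : 2 ≤ n) : Lcc c.cs c.h c.R := by
  have K := long_of_isTy c hτ hn
  refine ⟨c.cls.root, fun x hx => ClsNorm.neg_mem c.cls hx, fun x hx y hy h1 h2 => ?_, form_eq_R c,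
    fun x hx hxR => ?_⟩
  · exact (cpr_zero_iff c.cs c.h _ (c.cls.root y hy)).1 (K.orth x hx y hy h1 h2)
  · obtain ⟨a, ha, b, hb, h1, h2⟩ := K.half x hx hxR
    exact ⟨a, ha, b, hb, (cpr_zero_iff c.cs c.h _ (c.cls.root b hb)).1 h1, h2⟩

/-- the classical root groups have order three if the classical groups have order 24 -/
theorem card_Z [Finite G] (c : Chart Om 3 L) (h24 : ∀ r ∈ c.R, Nat.card (KK c.Z r) = 24) :
    ∀ r ∈ c.R, Nat.card (c.Z r) = 3 := by
  intro r hr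
  have : Fact (Nat.Prime 3) := ⟨Nat.prime_three⟩
  have h1 : IsPGroup 3 ↥(c.Z r) := (c.cls.rgd.pgrp' (c.cls.root r hr)).to_le (c.cls.le r hr)
  obtain ⟨k, hk⟩ := IsPGroup.iff_card.1 h1
  have h2 : Nat.card (c.Z r) ∣ 24 := by
    rw [← h24 r hr]
    exact Subgroup.card_dvd_of_le (le_sup_left : c.Z r ≤ KK c.Z r)
  have h3 : Nat.card (c.Z r) ≠ 1 := by
    intro h4
    exact c.cls.ne_bot r hr (Subgroup.eq_bot_of_card_eq _ h4)
  rw [hk] at h2 h3 ⊢
  rcases k with _ | _ | k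
  · exact absurd rfl h3
  · norm_num
  · exfalso
    rw [pow_add, pow_add] at h2
    have h5 : 9 ∣ 24 := by
      refine Dvd.dvd.trans ⟨3 ^ k, ?_⟩ h2
      ring
    omega

theorem G1_le_L (c : Chart Om p L) : G1 c.cs c.h c.X ≤ L := le_of_eq c.gen

theorem GG_eq_L (c : Chart Om p L) : GG c.cs c.h c.T c.X = L := by
  exact le_antisymm (sup_le c.T_le (le_of_eq c.gen)) (le_trans (le_of_eq c.gen.symm) le_sup_right)

/-- **(F2'_3), (c1)**: all kinds but `C n`. -/
theorem comm_of_chart [Finite G] (c : Chart Om 3 L) {τ : Ty} (hτ : c.IsTy τ) (ok : Cit.KindOk τ) (hC : ∀ n, τ ≠ .C n)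
    (zx : ∀ r ∈ c.R, c.Z r = c.X r) (h3 : ∀ r ∈ c.R, Nat.card (c.Z r) = 3) {r : c.I → ℤ} (hr : r ∈ c.R)
    {Q : Subgroup G} (hQ : Q ≤ L) (hQr : ∀ q ∈ Q, ∀ y ∈ KK c.Z r, q * y = y * q)
    (hQx : ∀ q ∈ Q, ∀ x, IsRoot c.cs c.h x → form c.cs c.h x r = 0 → ∀ y ∈ c.X x, q * y = y * q) :
    ∀ q ∈ Q, ∀ q' ∈ Q, q * q' = q' * q :=
  comm_of_perp c.cls Nat.prime_three (by norm_num) (lac_of_isTy c hτ ok hC zx h3 hr) (by rw [c.gen]; exact hQ) hQr hQx

/-- **(F2'_3), (c2)**: kind `C n`, `n ≥ 2`. -/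
theorem cent_of_chart [Finite G] (c : Chart Om 3 L) {n : ℕ} (hτ : c.IsTy (.C n)) (hn : 2 ≤ n)
    (h3 : ∀ r ∈ c.R, Nat.card (c.Z r) = 3) {r : c.I → ℤ} (hr : r ∈ c.R) {g : G} (hg3 : g * g * g = 1)
    (hgL : ∀ x ∈ L, g * x * g⁻¹ ∈ L) (hgr : ∀ y ∈ KK c.Z r, g * y = y * g)
    (hgx : ∀ x, IsRoot c.cs c.h x → form c.cs c.h x r = 0 → ∀ y ∈ c.X x, g * y = y * g) :
    ∀ y ∈ L, g * y = y * g := by
  have K := lcc_of_isTy c hτ hn
  have h1 : ∀ x, IsRoot c.cs c.h x → Cq g (c.X x) := by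
    refine cent_of_perp c.cls Nat.prime_three (by norm_num) K ?_ hr ?_ hg3 ?_ hgr hgx
    · intro s hs b hb
      have h2 : (⟨b, hb⟩ : c.Z s) ^ Nat.card (c.Z s) = 1 := pow_card_eq_one'
      rw [h3 s hs] at h2
      have h4 : b ^ 3 = 1 := congrArg Subtype.val h2
      rw [← h4, pow_succ, pow_two]
    · obtain ⟨s, hs, y, h2, h4, h5⟩ := (long_of_isTy c hτ hn).nbr r hr
      exact ⟨s, y, hr, hs, (cpr_zero_iff c.cs c.h _ (c.cls.root s hs)).1 h2, h4, h5⟩
    · rw [GG_eq_L]; exact hgL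
  intro y hy
  rw [← c.gen] at hy
  have h2 : G1 c.cs c.h c.X ≤ Subgroup.centralizer {g} := by
    refine RGD.Sup_le fun x hx y hy => ?_
    rw [Subgroup.mem_centralizer_singleton_iff]
    exact (h1 x hx y hy).symm
  exact (Subgroup.mem_centralizer_singleton_iff.1 (h2 hy)).symm

end Chart

end Cfsg.Agent.OddHalf.NI3.FThree

end

-- merged: Cfsg.Agent.OddHalf.NI3.FThree.MainCore
section

/-!
# (F2'₃): the assembly

`SmallFalse` : the pieces without a chart of rank at least two do not occur (file `C3.lean`).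
* `F23a` (ambient) : `J ≤ D`;
* `F23b` (intrinsic) : the chart of type `B₃` over `F₃`.
-/

set_option autoImplicit false
set_option linter.unusedSectionVars false
set_option linter.dupNamespace false

namespace Cfsg.Agent.OddHalf.NI3.FThree

open Cfsg
open CoxeterSystem Cfsg.Agent.ChevalleyStructure.CoxeterGeom Cfsg.Agent.Tits.Roots Cfsg.Agent.Tits.Core
  Cfsg.Agent.Tits.RootComb Cfsg.Agent.Nodes.Comb Cfsg.Agent.Nodes.Reps Cfsg.Agent.Nodes.BNOf
  Cfsg.Agent.Nodes.RGDLib Cfsg.Agent.Nodes.Chart Cfsg.Agent.Nodes.Coroot Cfsg.Agent.Nodes.FreeTorus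
  Cfsg.Agent.Nodes.SubComb Cfsg.Agent.Nodes.Bruhat Cfsg.Agent.Nodes.StabComb Cfsg.Agent.Nodes.Perp
  Cfsg.Agent.Nodes.Sub Cfsg.Agent.Nodes.ClsSub
open Cfsg.Agent.Cit (pc cls self_mem_cls TStmt Piece IsG2D4 zz)
open Cfsg.Agent.SignalizersComponents
open Cfsg.Agent.OddHalf.NI.FTwo (PosB3 ChartB3)

universe u

/-- the pieces without a chart of rank at least two -/
inductive SmallPiece {G : Type*} [Group G] (Om : Set (Subgroup G)) (D : Subgroup G) : Prop
  | chart (nmem : D ∉ Om) (p : ℕ) (c : Chart Om p D) (kind : c.IsTy (.C 1))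
      (small : Fintype.card c.I ≤ 2 → IsLieTypeChar p (↥D ⧸ Subgroup.center D))
      (sl : ∃ (F : Type) (_ : Field F) (_ : Fintype F), CharP F p ∧
        ∀ r ∈ c.R, Nonempty (Matrix.SpecialLinearGroup (Fin 2) F ≃* ↥(c.Z r ⊔ c.Z (-r)))) : SmallPiece Om D
  | exc (p : ℕ) (prime : p.Prime) (odd : p ≠ 2)
      (iso : IsG2D4 p (↥D ⧸ Subgroup.center D)) (ne : ∃ K ∈ Om, K ≤ D)
      (zzc : ∀ K ∈ Om, ∀ J ∈ Om, K ≤ D → J ≤ D → K ≠ J → K ≤ Subgroup.centralizer (J : Set G) →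
        ∀ d ∈ D, zz K * zz J * d = d * (zz K * zz J))
      (three : ∀ K ∈ Om, ∀ J ∈ Om, ∀ M ∈ Om, K ≤ D → J ≤ D → M ≤ D → K ≤ Subgroup.centralizer (J : Set G) →
        K ≤ Subgroup.centralizer (M : Set G) → J ≤ Subgroup.centralizer (M : Set G) → K = J ∨ K = M ∨ J = M) :
      SmallPiece Om D
  | mathieu (iso : Spor.IsoM11 (↥D ⧸ Subgroup.center D)) (ne : ∃ K ∈ Om, K ≤ D)
      (mem : ∀ K ∈ Om, K ≤ D → Cit.SolvTwo.IsT K) : SmallPiece Om D

/-- the small pieces do not occur in (F2'₃) -/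
def SmallFalse : Prop :=
  ∀ (H : Type u) [Group H] [Finite H] (x j : H) (J' J : Subgroup H), Sit3 x j J' J →
    SmallPiece (cls J') (pc (cls J') J') → False

/-- a chart of kind `B₃` with a root group not commuting with `O₂(J)` -/
structure BadChart {H : Type u} [Group H] (x j : H) (J' J D : Subgroup H) where
  C : Chart (cls J') 3 D
  τ : Nodes.Chart.Ty
  ty : C.IsTy τ
  ok : Cit.KindOk τ
  zx : (∀ r ∈ C.R, C.Z r = C.X r) ∨ ∃ n, τ = .C n
  r : C.I → ℤ
  b : C.I → ℤ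
  g : H
  hg : g ∈ D
  eJ' : J' = Cit.cj g (KK C.Z r)
  ex : x = g * C.z r * g⁻¹
  st : St C.cs C.h 3 C.T C.X C.R C.Z C.z r (Cit.cj g⁻¹ J) j
  hb : IsRoot C.cs C.h b
  hbR : b ∉ C.R
  hbr : form C.cs C.h b r = 0
  hbo : ∀ s ∈ C.R, form C.cs C.h s r = 0 → form C.cs C.h b s = 0
  hne : ¬ ∀ q ∈ QQ (Cit.cj g⁻¹ J) j, ∀ u ∈ C.X b, q * u = u * q

/-- the kinds: `B₃` and a bad root -/
theorem bad_of_st {H : Type u} [Group H] [Finite H] {Om : Set (Subgroup H)} {D : Subgroup H} (C : Chart Om 3 D)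
    {τ : Nodes.Chart.Ty} (hτ : C.IsTy τ) (ok : Cit.KindOk τ) (hC1 : τ ≠ .C 1)
    (zx : (∀ r ∈ C.R, C.Z r = C.X r) ∨ ∃ n, τ = .C n) {r : C.I → ℤ} {J : Subgroup H} {j : H}
    (S : St C.cs C.h 3 C.T C.X C.R C.Z C.z r J j) :
    ¬ ∀ q ∈ QQ J j, ∀ x, IsRoot C.cs C.h x → form C.cs C.h x r = 0 → ∀ u ∈ C.X x, q * u = u * q := by
  intro hH
  obtain ⟨a, ha, b, hb, -, -, hab⟩ := QQ_not_comm S.pr
  have hG : GG C.cs C.h C.T C.X = D := Nodes.ChartFrame.GG_eq C
  have h3 : ∀ s ∈ C.R, Nat.card (C.Z s) = 3 := fun s hs => S.card_Z C.cls hs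
  by_cases hC : ∃ n, τ = .C n
  · obtain ⟨n, rfl⟩ := hC
    have hn : 2 ≤ n := by
      have h1 : 1 ≤ n := ok
      have h2 : n ≠ 1 := fun e => hC1 (by rw [e])
      omega
    have hall := comm_of_ne_B3 C hτ ok S (by simp)
    have hJ : J ≤ Subgroup.centralizer (D : Set H) := by
      refine S.pr.le_of_cube fun v hv hv3 => ?_
      rw [Subgroup.mem_centralizer_iff]
      intro d hd
      refine (cent_of_chart C hτ hn h3 S.mem hv3 ?_ (fun y hy => S.comm v hv y hy)
        (fun x hx h0 y hy => hall v hv x hx h0 y hy) d hd).symm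
      intro y hy
      have h4 : v ∈ Subgroup.normalizer (GG C.cs C.h C.T C.X : Set H) := S.norm (S.sn.1 hv)
      rw [hG] at h4
      exact (Subgroup.mem_normalizer_iff.1 h4 y).1 hy
    apply hab
    have h5 : b ∈ D := hG ▸ S.ge hb
    exact (Subgroup.mem_centralizer_iff.1 (hJ (QQ_le ha)) b h5).symm
  · have hZX : ∀ s ∈ C.R, C.Z s = C.X s := zx.resolve_right hC
    apply hab
    exact comm_of_chart C hτ ok (fun n e => hC ⟨n, e⟩) hZX h3 S.mem (Q := QQ J j) (by rw [← hG]; exact S.ge)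
      (fun q hq y hy => S.comm q (QQ_le hq) y hy) hH a ha b hb

theorem exists_bad_chart (hT : TStmt.{u}) (hF : SmallFalse.{u}) {H : Type u} [Group H] [Finite H] {x j : H}
    {J' J : Subgroup H} (S : Sit3 x j J' J) : Nonempty (BadChart x j J' J (pc (cls J') J')) := by
  have nmem : pc (cls J') J' ∉ cls J' := S.cl.pc_notMem S.comp.2
  rcases Cl.piece hT S.core S.cl with hm | ⟨-, -, -, p, C, τ, hτ, ok, small, sl, zx⟩ |
    ⟨-, -, p, prime, odd, iso, ne, zzc, three⟩ | ⟨-, -, iso, ne, mem⟩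
  · exact absurd hm nmem
  · by_cases hC1 : τ = .C 1
    · subst hC1
      exact (hF H x j J' J S (.chart nmem p C hτ small sl)).elim
    obtain ⟨r, hr, g, hg, e1, e2, St'⟩ := S.exists_st hT C nmem
    obtain rfl := St'.p_eq C.cls
    have h1 := bad_of_st C hτ ok hC1 zx St'
    obtain ⟨-, b, hb, hbR, hbr, hbo, hne⟩ := kind_B3 C hτ ok St' h1
    exact ⟨⟨C, τ, hτ, ok, zx, r, b, g, hg, e1, e2, St', hb, hbR, hbr, hbo, hne⟩⟩
  · exact (hF H x j J' J S (.exc p prime odd iso ne zzc three)).elim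
  · exact (hF H x j J' J S (.mathieu iso ne mem)).elim

/-- **`J ≤ D`** -/
theorem Sit3.J_le (hT : TStmt.{u}) (hF : SmallFalse.{u}) {H : Type u} [Group H] [Finite H] {x j : H}
    {J' J : Subgroup H} (S : Sit3 x j J' J) : J ≤ pc (cls J') J' := by
  obtain ⟨B⟩ := exists_bad_chart hT hF S
  have hG : GG B.C.cs B.C.h B.C.T B.C.X = pc (cls J') J' := Nodes.ChartFrame.GG_eq B.C
  obtain ⟨-, r', F, -⟩ := exists_frame B.C B.ty B.ok B.zx B.st.mem B.hb B.hbR B.hbr B.hbo
  obtain ⟨hJb, -⟩ := B.st.eq_LL B.C.cls F B.hne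
  have h1 : Cit.cj B.g⁻¹ J ≤ pc (cls J') J' := hJb.le.trans (le_trans
    (sup_le (X_le_GG (T := B.C.T) B.hb) (X_le_GG (T := B.C.T) B.hb.neg)) hG.le)
  intro y hy
  have h2 : B.g⁻¹ * y * B.g ∈ pc (cls J') J' := by
    have h3 := h1 (Cit.conj_mem_cj (g := B.g⁻¹) hy)
    rwa [inv_inv] at h3
  have h4 := mul_mem (mul_mem B.hg h2) (inv_mem B.hg)
  have h5 : B.g * (B.g⁻¹ * y * B.g) * B.g⁻¹ = y := by group
  rwa [h5] at h4

/-- `J ≠ J'`-independent data: the chart of type `B₃` of a group `N = D` -/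
theorem BadChart.chartB3 {N : Type u} [Group N] [Finite N] {x j : N} {J' J : Subgroup N}
    (hOm : Cit.Hyp (cls J')) (B : BadChart x j J' J (⊤ : Subgroup N)) :
    ∃ T, IsPr T (x * j) ∧ Sn T (Subgroup.centralizer ({x} : Set N)) ∧ ChartB3 (ZMod 3) N j x J J' T := by
  obtain ⟨C, τ, hτ, ok, zx, r, b, g, -, e1, e2, S, hb, hbR, hbr, hbo, hne⟩ := B
  obtain ⟨r', P⟩ := pos3 C hτ ok zx S hb hbR hbr hbo hne
  have hjg : g * j * g⁻¹ = j := by rw [S.jc g]; group
  obtain ⟨C', r1, r1', b1, P'⟩ := NI.FTwo.CjTop.exists_cj hOm.conj P g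
  have hcl := S.cl r' P.r'_mem
  have hz : g * C.z r' * g⁻¹ = x * j := by
    rw [P.zr', e2]
    calc g * (j * C.z r) * g⁻¹ = (g * j * g⁻¹) * (g * C.z r * g⁻¹) := by group
      _ = j * (g * C.z r * g⁻¹) := by rw [hjg]
      _ = (g * C.z r * g⁻¹) * j := (S.jc _).symm
  refine ⟨Cit.cj g (KK C.Z r'), ?_, ?_, cls J', 3, C', r1, r1', b1, hOm, ?_⟩
  · rw [← hz]
    exact hcl.pr.cj g
  · have h1 := hcl.sn.cj g
    rw [Cit.cj_centralizer, hz] at h1
    have h2 : Subgroup.centralizer ({x * j} : Set N) = Subgroup.centralizer ({x} : Set N) := by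
      ext y
      rw [Subgroup.mem_centralizer_singleton_iff, Subgroup.mem_centralizer_singleton_iff]
      have h3 : y * (x * j) = (y * x) * j := by group
      have h4 : (x * j) * y = (x * y) * j := by rw [mul_assoc, ← S.jc y]; group
      rw [h3, h4]
      exact mul_left_inj j
    rwa [h2] at h1
  · rw [hjg] at P'
    have h5 : Nodes.Reps.cj g (Cit.cj g⁻¹ J) = J := Cit.cj_cj_inv g J
    have h6 : Nodes.Reps.cj g (KK C.Z r) = J' := e1.symm
    rw [h5, h6, ← e2] at P'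
    exact P'

end Cfsg.Agent.OddHalf.NI3.FThree

end
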