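import Cfsg.Agent.OddHalf.NI3.FThree.Quat
import Cfsg.Agent.OddHalf.NI3.Step
import Cfsg.Agent.Cit.ExcFactOf
import Cfsg.Agent.Cit.OneMain
import Cfsg.Agent.Cit.OneThree
import Cfsg.Agent.Cit.FrameGood
import Cfsg.Agent.GH.QB.RankTwo
import Cfsg.Agent.OddHalf.NI3.FThree.MainCore

-- merged: Cfsg.Agent.OddHalf.NI3.FThree.C3
section

/-!
# (F2'₃), part (c3): the pieces `G₂(q)`, `³D₄(q)`, `M₁₁` and the charts of type `C 1` are impossible

* `false_of_one` : `One Om`, `G` simple: the centraliser of a member contains no four-group avoiding its involution;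
* `false_of_pair` : the reduction to `D / Z(D)`;
* `false_of_exc`, `false_of_mathieu`, `false_of_C1`.
-/

set_option autoImplicit false
set_option linter.style.haveILetI false
set_option linter.unusedSectionVars false
set_option linter.dupNamespace false

namespace Cfsg.Agent.OddHalf.NI3.FThree

open Subgroup Cfsg Cfsg.Agent.Cit Cfsg.Agent.Cit.SolvTwo Cfsg.Agent.SignalizersComponents

universe u

/-! ### Sylow 2-subgroups of type `G₂(q)` -/

section tg

open SylowG2.Coord SylowG2.Coord.TG2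

variable {G : Type*} [Group G] {S : Subgroup G} {m : ℕ} {v : ZMod (2 ^ m) → ZMod (2 ^ m) → G} {r s : G}

/-- an involution commuting with two non-commuting elements of `Q1` is the central involution -/
theorem tg_one (h : TG2 S m v r s) {a b g : G} (ha : a ∈ h.Q1) (hb : b ∈ h.Q1) (hab : a * b ≠ b * a)
    (hg : g ∈ S) (hga : g * a = a * g) (hgb : g * b = b * g) (hg2 : g * g = 1) :
    g = 1 ∨ g = v (half m) (half m) := by
  obtain ⟨i, j, hi, gi, gj⟩ : ∃ i j : ZMod (2 ^ m), i + i ≠ 0 ∧ g * v i (-i) = v i (-i) * g ∧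
      g * (v (j + half m) (-j) * r) = v (j + half m) (-j) * r * g := by
    have key : ∀ y : ZMod (2 ^ m), ∀ w ∈ h.Q1, v y (-y) * w ≠ w * v y (-y) → y + y ≠ 0 := by
      intro y w hw hne h0
      apply hne
      rcases eq_of_add_self h.m_pos h0 with h1 | h1
      · subst h1; rw [neg_zero, h.v_zero, one_mul, mul_one]
      · subst h1; rw [h.neg_half]; exact (h.t_central (h.Q1_le hw)).symm
    rcases id ha with ⟨i, rfl⟩ | ⟨i, rfl⟩
    · rcases id hb with ⟨j, rfl⟩ | ⟨j, rfl⟩
      · exact absurd (h.v_comm _ _ _ _) hab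
      · exact ⟨i, j, key i _ (Or.inr ⟨j, rfl⟩) hab, hga, hgb⟩
    · rcases id hb with ⟨j, rfl⟩ | ⟨j, rfl⟩
      · exact ⟨j, i, key j _ (Or.inr ⟨i, rfl⟩) hab.symm, hgb, hga⟩
      · have hk : v (i + half m) (-i) * r * (v (j + half m) (-j) * r) = v (i + half m - j) (-(i + half m - j)) := by
          rw [mul_assoc, ← mul_assoc r, h.r_v, mul_assoc (v (-j) _), h.r_r, mul_one, h.v_mul]
          have := half_add_half h.m_pos
          exact h.v_congr (by ring) (by linear_combination this)
        refine ⟨i + half m - j, j, key _ (v (j + half m) (-j) * r) hb ?_, ?_, hgb⟩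
        · rw [← hk]
          intro he
          apply hab
          have he' : v (i + half m) (-i) * r * (v (j + half m) (-j) * r) * (v (j + half m) (-j) * r) =
              (v (j + half m) (-j) * r * (v (i + half m) (-i) * r)) * (v (j + half m) (-j) * r) := by
            rw [he]; group
          exact mul_right_cancel he'
        · rw [← hk, ← mul_assoc, hga, mul_assoc, hgb, ← mul_assoc]
  obtain ⟨k, l, rfl | rfl | rfl | rfl⟩ := h.cases g hg
  · have h1 := h.comm_vr gj.symm
    subst h1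
    rcases (h.v_sq_one hg2).1 with h2 | h2
    · left; rw [h2, h.v_zero]
    · right; rw [h2]
  · exfalso
    have h1 := h.comm_vr gi
    exact hi (by linear_combination h1)
  · exact absurd (h.comm_vs gi).1 hi
  · exfalso
    have h1 : k - l = 0 := by
      rw [h.sq_vrs] at hg2
      exact (h.v_inj _ _ hg2).1
    have e1 : v k l * (r * s) * (v (j + half m) (-j) * r) = v (k + j) (l - (j + half m)) * s := by
      have e3 : (r * s) * r = s := by rw [h.r_s, mul_assoc, h.r_r, mul_one]
      calc v k l * (r * s) * (v (j + half m) (-j) * r)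
          = v k l * (r * s * v (j + half m) (-j)) * r := by group
        _ = v k l * v (- -j) (-(j + half m)) * ((r * s) * r) := by rw [h.rs_v]; group
        _ = v (k + j) (l - (j + half m)) * s := by rw [e3, h.v_mul, neg_neg, sub_eq_add_neg]
    have e2 : v (j + half m) (-j) * r * (v k l * (r * s)) = v (j + half m + l) (-j + k) * s := by
      calc v (j + half m) (-j) * r * (v k l * (r * s))
          = v (j + half m) (-j) * (r * v k l) * (r * s) := by group
        _ = v (j + half m) (-j) * v l k * ((r * r) * s) := by rw [h.r_v]; group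
        _ = _ := by rw [h.r_r, one_mul, h.v_mul]
    rw [e1, e2] at gj
    have h2 := (h.v_eq (mul_right_cancel gj)).1
    exact half_ne_zero h.m_pos (by linear_combination h1 - h2)

theorem tg_or (h : TG2 S m v r s) {Q : Subgroup G} (hQ : Q ≤ h.Q1 ∨ Q ≤ h.Q2) {a b g : G} (ha : a ∈ Q) (hb : b ∈ Q)
    (hab : a * b ≠ b * a) (hg : g ∈ S) (hga : g * a = a * g) (hgb : g * b = b * g) (hg2 : g * g = 1) :
    g = 1 ∨ g = v (half m) (half m) := by
  rcases hQ with hQ | hQ
  · exact tg_one h (hQ ha) (hQ hb) hab hg hga hgb hg2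
  · have h1 := tg_one h.symm (hQ ha) (hQ hb) hab hg hga hgb hg2
    simp only [h.neg_half] at h1
    exact h1

end tg

/-! ### `|Om(S)| = 1` -/

section one

variable {G : Type*} [Group G] [Finite G] {Om : Set (Subgroup G)}

/-- an elementary abelian group of order at most 4 -/
theorem false_of_rank (hr : PRankLE 2 2 G) {a b x : G} (ha : a * a = 1) (hb : b * b = 1) (hx : x * x = 1)
    (hab : a * b = b * a) (hax : a * x = x * a) (hbx : b * x = x * b) (ha1 : a ≠ 1) (hb1 : b ≠ 1) (hx1 : x ≠ 1)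
    (hne : a ≠ b) (h1 : a ≠ x) (h2 : b ≠ x) (h3 : a * b ≠ x) : False := by
  set A : Subgroup G := closure {a, b, x} with hA
  have hcomm : ∀ y ∈ ({a, b, x} : Set G), ∀ w ∈ ({a, b, x} : Set G), y * w = w * y := by
    rintro y (rfl | rfl | rfl) w (rfl | rfl | rfl)
    exacts [rfl, hab, hax, hab.symm, rfl, hbx, hax.symm, hbx.symm, rfl]
  have hAc : IsMulCommutative A := Subgroup.isMulCommutative_closure hcomm
  have hsq : ∀ y ∈ A, y ^ 2 = 1 := by
    intro y hy
    induction hy using closure_induction with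
    | mem y hy =>
      rw [pow_two]
      rcases hy with rfl | rfl | rfl
      exacts [ha, hb, hx]
    | one => rw [one_pow]
    | mul y w hy hw ihy ihw =>
      have hc : Commute y w := congrArg Subtype.val (hAc.is_comm.comm ⟨y, hy⟩ ⟨w, hw⟩)
      rw [hc.mul_pow, ihy, ihw, one_mul]
    | inv y _ ihy => rw [inv_pow, ihy, inv_one]
  have h4 := hr A hAc hsq
  have haA : a ∈ A := subset_closure (by simp)
  have hbA : b ∈ A := subset_closure (by simp)
  have hxA : x ∈ A := subset_closure (by simp)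
  classical
  let s : Finset G := {1, a, b, a * b, x}
  have hab1 : a * b ≠ 1 := by
    intro h
    apply hne
    exact mul_right_cancel (h.trans hb.symm)
  have haab : a ≠ a * b := fun h => hb1 (mul_left_cancel (a := a) (by rw [← h, mul_one]))
  have hbab : b ≠ a * b := fun h => ha1 (mul_right_cancel (b := b) (by rw [← h, one_mul]))
  have hs : s.card = 5 := by
    simp only [s]
    rw [Finset.card_insert_of_notMem, Finset.card_insert_of_notMem, Finset.card_insert_of_notMem,
      Finset.card_insert_of_notMem, Finset.card_singleton]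
    · simpa using h3
    · simp only [Finset.mem_insert, Finset.mem_singleton, not_or]
      exact ⟨hbab, h2⟩
    · simp only [Finset.mem_insert, Finset.mem_singleton, not_or]
      exact ⟨hne, haab, h1⟩
    · simp only [Finset.mem_insert, Finset.mem_singleton, not_or]
      exact ⟨ha1.symm, hb1.symm, hab1.symm, hx1.symm⟩
  have hsA : (s : Set G) ⊆ (A : Set G) := by
    intro y hy
    simp only [s, Finset.coe_insert, Finset.coe_singleton, Set.mem_insert_iff, Set.mem_singleton_iff] at hy
    rcases hy with rfl | rfl | rfl | rfl | rfl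
    exacts [one_mem _, haA, hbA, mul_mem haA hbA, hxA]
  have h5 : s.card ≤ Nat.card A := by
    have h6 := Set.ncard_le_ncard hsA (Set.toFinite _)
    rw [Set.ncard_coe_finset] at h6
    exact h6
  omega

theorem exists_not_comm (h : Hyp Om) (hne : Om.Nonempty) : ∃ a b : G, a * b ≠ b * a := by
  obtain ⟨K, hK⟩ := hne
  obtain ⟨Q, hQ⟩ := Hyp.exists_syl K
  obtain ⟨c, w, n, hgq⟩ := h.exists_gq hK hQ
  exact ⟨w, c, hgq.not_comm⟩

theorem center_eq_bot (hG : IsSimpleGroup G) (h : Hyp Om) (hne : Om.Nonempty) : center G = ⊥ := by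
  rcases (inferInstance : (center G).Normal).eq_bot_or_eq_top with h1 | h1
  · exact h1
  · exfalso
    obtain ⟨a, b, hab⟩ := exists_not_comm h hne
    exact hab (mem_center_iff.1 (show b ∈ center G by rw [h1]; exact mem_top b) a)

theorem centralizer_eq_bot (hG : IsSimpleGroup G) (h : Hyp Om) (hne : Om.Nonempty) {N : Subgroup G} (hN : N.Normal)
    (hN1 : N ≠ ⊥) : centralizer (N : Set G) = ⊥ := by
  rcases hN.eq_bot_or_eq_top with h1 | h1
  · exact absurd h1 hN1
  · rw [h1, coe_top, centralizer_univ, center_eq_bot hG h hne]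

/-- **`|Om(S)| = 1`, `G` simple**: no four-group `{1, a, b, ab}` in `C(K)` avoiding `zz K` -/
theorem false_of_one (h1173 : oddCore G = ⊥ → OneF.H1173 G) (hG : IsSimpleGroup G) (h : Cit.One Om) (ty : ∀ K ∈ Om, IsType K) {K : Subgroup G} (hK : K ∈ Om)
    {a b : G} (ha : a * a = 1) (hb : b * b = 1) (hab : a * b = b * a) (ha1 : a ≠ 1) (hb1 : b ≠ 1) (hne : a ≠ b)
    (haz : a ≠ zz K) (hbz : b ≠ zz K) (habz : a * b ≠ zz K) (haK : ∀ k ∈ K, a * k = k * a)
    (hbK : ∀ k ∈ K, b * k = k * b) : False := by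
  haveI : Fact (Nat.Prime 2) := ⟨Nat.prime_two⟩
  have hne' : Om.Nonempty := ⟨K, hK⟩
  have hz := center_eq_bot hG h.hyp hne'
  have he : 2 ∣ Nat.card G := by
    rw [← h.hyp.orderOf_zz hK]
    exact orderOf_dvd_natCard _
  have ho : oddCore G = ⊥ := by
    rcases (Lib.Cores.pPrimeCore_normal 2 : (oddCore G).Normal).eq_bot_or_eq_top with h1 | h1
    · exact h1
    · exfalso
      have h3 := Lib.Cores.pPrimeCore_coprime (G := G) 2
      rw [show pPrimeCore 2 G = ⊤ from h1, card_top] at h3
      have h4 := Nat.dvd_gcd he (dvd_refl 2)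
      rw [h3] at h4
      omega
  have hidx : ∀ H : Subgroup G, H.index ≠ 2 := by
    intro H hH
    haveI hn : H.Normal := normal_of_index_eq_two hH
    rcases hn.eq_bot_or_eq_top with h1 | h1
    · rw [h1, index_bot] at hH
      have h2 : IsCyclic G := isCyclic_of_prime_card (p := 2) hH
      obtain ⟨a, b, hab⟩ := exists_not_comm h.hyp hne'
      obtain ⟨g, hg⟩ := h2.exists_generator
      obtain ⟨i, hi⟩ := hg a
      obtain ⟨j, hj⟩ := hg b
      apply hab
      rw [← hi, ← hj]
      exact (Commute.refl g).zpow_zpow i j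
    · rw [h1, index_top] at hH
      omega
  -- a Sylow 2-subgroup containing a Sylow subgroup of `K` and `a`
  obtain ⟨Q, hQ⟩ := Hyp.exists_syl K
  have hA2 : IsPGroup 2 (zpowers a) := by
    refine IsPGroup.of_card (n := 1) ?_
    rw [Nat.card_zpowers, pow_one]
    exact orderOf_eq_prime (by rw [pow_two]; exact ha) ha1
  have hQA : Q ≤ normalizer (zpowers a : Set G) := by
    refine le_trans ?_ (centralizer_le_normalizer _)
    intro q hq
    rw [mem_centralizer_iff]
    rintro _ ⟨n, rfl⟩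
    exact ((show Commute a q from haK q (hQ.1 hq)).zpow_left n).eq
  have hP : IsPGroup 2 (Q ⊔ zpowers a : Subgroup G) := OneBasic.isPGroup_sup_of_normalizes hQ.2.1 hA2 hQA
  obtain ⟨S, hS⟩ := hP.exists_le_sylow
  have hKS : K ∈ OmS Om (S : Subgroup G) := mem_OmS_of_le hK hQ (le_sup_left.trans hS)
  have haS : a ∈ (S : Subgroup G) := hS ((le_sup_right : zpowers a ≤ _) (mem_zpowers a))
  have hmain := OneMain.main_of h hne' (fun L hL => (ty L hL).tyTwo) ho hz hidx
    (fun N hN hs => centralizer_eq_bot hG h.hyp hne' hN (by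
      rintro rfl
      exact hs (by infer_instance))) (h1173 ho) S
  rw [← or_assoc] at hmain
  rcases hmain with h1 | ⟨m, v, r, s, tg⟩
  · exact false_of_rank (GH.QB.RankTwo.pRankLE S h1) ha hb (h.hyp.zz_mul hK) hab (haK _ (h.hyp.zz_mem hK))
      (hbK _ (h.hyp.zz_mem hK)) ha1 hb1 (h.hyp.zz_ne hK) hne haz hbz habz
  · have hQ' : Syl (K ⊓ S) K := syl_inf S.isPGroup' hKS
    obtain ⟨c, w, n, hgq⟩ := h.hyp.exists_gq hK hQ'
    have hSK : (S : Subgroup G) ≤ normalizer (K : Set G) := h.le_normalizer_self S.isPGroup' hKS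
    have hz : zz K = v (SylowG2.Coord.half m) (SylowG2.Coord.half m) := by
      refine OneThree.eq_t_of_central tg (mem_inf.1 hgq.z_mem).2 (h.hyp.zz_ne hK) fun x hx => ?_
      exact (h.hyp.comm_zz hK (hSK hx)).symm
    rw [hz] at hgq haz
    have h2 := OneThree.le_Q1_or tg inf_le_right hgq
    rcases tg_or tg h2 hgq.c_mem hgq.v_mem (fun h => hgq.not_comm h.symm) haS (haK _ hgq.c_mem.1)
      (haK _ hgq.v_mem.1) ha with h3 | h3
    · exact ha1 h3
    · exact haz h3

end one

/-! ### The reduction to `D / Z(D)` -/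

section pair

variable {H : Type*} [Group H]

theorem center_quot_eq_bot {D : Type*} [Group D] (hD : IsQuasisimple D) : center (D ⧸ center D) = ⊥ := by
  haveI := hD.2
  rcases (inferInstance : (center (D ⧸ center D)).Normal).eq_bot_or_eq_top with h1 | h1
  · exact h1
  · exfalso
    apply Components.quasisimple_center_ne_top hD
    rw [eq_top_iff, ← hD.1.commutator_eq_top, _root_.commutator_def, Subgroup.commutator_le]
    intro x _ y _
    rw [← QuotientGroup.eq_one_iff, commutatorElement_def]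
    have h2 : (QuotientGroup.mk' (center D) y) ∈ center (D ⧸ center D) := by rw [h1]; exact mem_top _
    have h3 := mem_center_iff.1 h2 (QuotientGroup.mk' (center D) x)
    change QuotientGroup.mk' (center D) (x * y * x⁻¹ * y⁻¹) = 1
    rw [map_mul, map_mul, map_mul, map_inv, map_inv, h3]
    group

/-- the images of the elements of order 4 of `J` in `D / Z(D)` cannot all be equal to `1` or `w` -/
theorem false_of_pair {D J : Subgroup H} {z : H} (hJ : IsPr J z) (hQ : ∀ y ∈ J, y * y = z → y ∈ D)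
    {w : D ⧸ center D} (hX : ∀ a (ha : a ∈ D), a ∈ J → a * a = z →
      QuotientGroup.mk' (center D) ⟨a, ha⟩ = 1 ∨ QuotientGroup.mk' (center D) ⟨a, ha⟩ = w) : False := by
  obtain ⟨a, haJ, b, hbJ, haz, hbz, hab⟩ := hJ.t3.ex4
  have haD := hQ a haJ haz
  have hbD := hQ b hbJ hbz
  have hcen : ∀ c (hc : c ∈ D), QuotientGroup.mk' (center D) ⟨c, hc⟩ = 1 → ∀ d ∈ D, d * c = c * d := by
    intro c hc h1 d hd
    have h2 : (⟨c, hc⟩ : D) ∈ center D := (QuotientGroup.eq_one_iff _).1 h1
    exact congrArg Subtype.val (mem_center_iff.1 h2 ⟨d, hd⟩)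
  rcases hX a haD haJ haz with h1 | h1
  · exact hab (hcen a haD h1 b hbD).symm
  rcases hX b hbD hbJ hbz with h2 | h2
  · exact hab (hcen b hbD h2 a haD)
  have h3 : QuotientGroup.mk' (center D) ⟨a * b⁻¹, mul_mem haD (inv_mem hbD)⟩ = 1 := by
    have h4 : (⟨a * b⁻¹, mul_mem haD (inv_mem hbD)⟩ : D) = ⟨a, haD⟩ * ⟨b, hbD⟩⁻¹ := rfl
    rw [h4, map_mul, map_inv, h1, h2, mul_inv_cancel]
  have h4 := hcen _ _ h3 b hbD
  apply hab
  calc a * b = (a * b⁻¹ * b) * b := by group
    _ = (b * (a * b⁻¹)) * b := by rw [h4]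
    _ = b * a := by group

theorem mk_sq {D : Subgroup H} {z a : H} (ha : a ∈ D) (haz : a * a = z) (hz : ∀ d ∈ D, d * z = z * d) :
    QuotientGroup.mk' (center D) ⟨a, ha⟩ * QuotientGroup.mk' (center D) ⟨a, ha⟩ = 1 := by
  rw [← map_mul]
  refine (QuotientGroup.eq_one_iff _).2 ?_
  rw [mem_center_iff]
  rintro ⟨d, hd⟩
  apply Subtype.ext
  show d * (a * a) = a * a * d
  rw [haz]; exact hz d hd

/-- the case of a group `D / Z(D)` with `FPair` -/
theorem false_of_fpair [Finite H] {Om : Set (Subgroup H)} (h : Hyp Om) {D K : Subgroup H} (hD : IsQuasisimple D)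
    (hDO : D ∉ Om) (hZ : IsPGroup 2 (center D)) (hF : CTEnd.FPair (D ⧸ center D)) (hK : K ∈ Om) (hKD : K ≤ D)
    (ty : IsType K) {J : Subgroup H} {z : H} (hJ : IsPr J z) (hQ : ∀ y ∈ J, y * y = z → y ∈ D)
    (hz : ∀ d ∈ D, d * z = z * d) (hc : ∀ a ∈ J, ∀ k ∈ K, a * k = k * a) : False := by
  obtain ⟨K', w, hwK', hww, hw1, hK'w, hs, ty', hk⟩ := CTEnd.image h hD hDO hZ hK hKD ty
  refine false_of_pair hJ hQ (w := w) ?_
  intro a ha haJ haz
  set t := QuotientGroup.mk' (center D) ⟨a, ha⟩ with ht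
  have htt : t * t = 1 := mk_sq ha haz hz
  have hcen : ∀ y : D ⧸ center D, MulAut.conj y = 1 → y = 1 := by
    intro y hy
    have h1 : y ∈ center (D ⧸ center D) := by
      rw [mem_center_iff]
      intro g
      have h2 : y * g * y⁻¹ = g := by
        have := DFunLike.congr_fun hy g
        rwa [MulAut.conj_apply] at this
      calc g * y = (y * g * y⁻¹) * y := by rw [h2]
        _ = y * g := by group
    rwa [center_quot_eq_bot hD, mem_bot] at h1
  rcases hF K' w hwK' hww hw1 hK'w hs ty' (MulAut.conj t) (by rw [← map_mul, htt, map_one]) (by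
    intro x hx
    obtain ⟨k, hkD, hkK, rfl⟩ := hk x hx
    rw [MulAut.conj_apply, mul_inv_eq_iff_eq_mul, ht, ← map_mul, ← map_mul]
    congr 1
    exact Subtype.ext (hc a haJ k hkK)) with h1 | h1
  · exact Or.inl (hcen t h1)
  · right
    have h2 := hcen (t * w⁻¹) (by rw [map_mul, map_inv, h1, mul_inv_cancel])
    exact mul_inv_eq_one.1 h2

end pair

/-! ### The three kinds of pieces -/

section pieces

variable {H : Type u} [Group H] [Finite H] {x z : H} {J' J D : Subgroup H}

/-- the common assumptions: `J'` a member, `D` its piece, `J` subnormal in `C(x)`, commuting with `J'`, `O₂(J) ≤ D` -/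
structure Bas (x z : H) (J' J D : Subgroup H) : Prop where
  cl : Cl x J'
  le : J' ≤ D
  qs : IsQuasisimple D
  two : IsPGroup 2 (center D)
  pr : IsPr J z
  mem : ∀ y ∈ J, y * y = z → y ∈ D
  cen : ∀ d ∈ D, d * z = z * d
  comm : ∀ a ∈ J, ∀ k ∈ J', a * k = k * a

theorem isType_of_pr {K : Subgroup H} {y : H} (h : IsPr K y) : IsType K :=
  Or.inl ⟨ZMod 3, inferInstance, inferInstance, by simp [ZMod.card]; decide, h.quot⟩

theorem Bas.notMem (b : Bas x z J' J D) : D ∉ cls J' := by
  rintro ⟨g, hg⟩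
  have h1 : IsPr D (g * x * g⁻¹) := by rw [hg]; exact b.cl.pr.cj g
  haveI := h1.solvable
  exact Components.quasisimple_not_isSolvable b.qs inferInstance

theorem false_of_exc (hT : TStmt.{u}) (hO : pPrimeCore 2 H = ⊥) (b : Bas x z J' J D) {p : ℕ} (hp : p.Prime)
    (hp2 : p ≠ 2) (iso : IsG2D4 p (↥D ⧸ center D)) : False := by
  haveI : Finite (D ⧸ center D) := Finite.of_surjective _ (QuotientGroup.mk'_surjective _)
  exact false_of_fpair (b.cl.hyp' hT hO) b.qs b.notMem b.two (ExcFactOf.excFact _ p hp hp2 iso).1 (self_mem_cls _)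
    b.le (isType_of_pr b.cl.pr) b.pr b.mem b.cen b.comm

theorem false_of_mathieu (hT : TStmt.{u}) (hO : pPrimeCore 2 H = ⊥) (b : Bas x z J' J D)
    (iso : Spor.IsoM11 (↥D ⧸ center D)) : False :=
  false_of_fpair (b.cl.hyp' hT hO) b.qs b.notMem b.two (CTEnd.fpair_M11 iso) (self_mem_cls _)
    b.le (isType_of_pr b.cl.pr) b.pr b.mem b.cen b.comm

/-! ### Charts of type `C 1` -/

theorem cl_cj {y : H} {K : Subgroup H} (h : Cl y K) (g : H) : Cl (g * y * g⁻¹) (cj g K) := by
  refine ⟨h.pr.cj g, ?_⟩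
  have h1 := h.sn.cj g
  rwa [cj_centralizer] at h1

theorem cl_of_mem (h : Cl x J') {K : Subgroup H} (hK : K ∈ cls J') : ∃ y, Cl y K := by
  obtain ⟨g, rfl⟩ := hK
  exact ⟨_, cl_cj h g⟩

theorem QQ_le_of_OmS {Om : Set (Subgroup H)} {S K : Subgroup H} {y : H} (hS : IsPGroup 2 S) (hK : K ∈ OmS Om S)
    (h : IsPr K y) : QQ K y ≤ K ⊓ S := by
  refine OneBasic.syl_le_of_normalizes (syl_inf hS hK) (QQ_pgrp h) QQ_le ?_
  exact inf_le_left.trans (le_normalizer_QQ h)

/-- two members covered by a 2-subgroup commute -/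
theorem cm_of_OmS (hT : TStmt.{u}) (hO : pPrimeCore 2 H = ⊥) (h' : Cl x J') {S K L : Subgroup H} (hS : IsPGroup 2 S)
    (hK : K ∈ OmS (cls J') S) (hL : L ∈ OmS (cls J') S) (hne : K ≠ L) : ∀ a ∈ K, ∀ b ∈ L, a * b = b * a := by
  have hOm := h'.hyp' hT hO
  obtain ⟨y, hy⟩ := cl_of_mem h' hK.1
  obtain ⟨w, hw⟩ := cl_of_mem h' hL.1
  have h1 : ∀ a ∈ QQ K y, ∀ b ∈ QQ L w, a * b = b * a := fun a ha b hb =>
    hOm.comm hS hK hL hne (QQ_le_of_OmS hS hK hy.pr ha) (QQ_le_of_OmS hS hL hw.pr hb)
  have h2 : ∀ b ∈ QQ L w, ∀ a ∈ K, b * a = a * b := by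
    intro b hb
    refine comm_of_QQ (core_cent_eq_bot hT hO hy) (fun v hv => mem_centralizer_singleton_iff.1 hv) hy.pr hy.sn ?_
      fun a ha => (h1 a ha b hb).symm
    rw [mem_centralizer_singleton_iff]
    exact (h1 y (mem_z_QQ hy.pr) b hb).symm
  intro a ha
  refine comm_of_QQ (core_cent_eq_bot hT hO hw) (fun v hv => mem_centralizer_singleton_iff.1 hv) hw.pr hw.sn ?_
    fun b hb => (h2 b hb a ha).symm
  rw [mem_centralizer_singleton_iff]
  exact (h2 w (mem_z_QQ hw.pr) a ha).symm

/-- no commuting members in a chart of rank one -/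
theorem false_of_cm {Om : Set (Subgroup H)} {p : ℕ} {L : Subgroup H} (c : Nodes.Chart.Chart Om p L)
    (h1 : Fintype.card c.I = 1) {A B : Subgroup H} (hA : A ∈ Om) (hB : B ∈ Om) (hAL : A ≤ L) (hBL : B ≤ L)
    (hc : ∀ a ∈ A, ∀ b ∈ B, a * b = b * a) : False := by
  obtain ⟨d, -, s, hs, -, ho⟩ := FrameGood.frame c (κ := Fin 2) ![A, B]
    (by intro j; fin_cases j; exacts [hA, hB]) (by intro j; fin_cases j; exacts [hAL, hBL])
    (by
      intro i j hij
      fin_cases i <;> fin_cases j
      · exact absurd rfl hij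
      · exact hc
      · exact fun b hb a ha => (hc a ha b hb).symm
      · exact absurd rfl hij)
  obtain ⟨i₀, j₀, hne⟩ := FrameGood.exists_ne_of_orth c (c.cls.root _ (hs 0)) (c.cls.root _ (hs 1))
    (ho 0 1 (by decide))
  exact hne (Fintype.card_le_one_iff.1 h1.le i₀ j₀)

theorem one_img (hT : TStmt.{u}) (hO : pPrimeCore 2 H = ⊥) (h' : Cl x J') {p : ℕ}
    (c : Nodes.Chart.Chart (cls J') p D) (h1 : Fintype.card c.I = 1) {G' : Type*} [Group G'] (f : D →* G')
    (hf : IsPGroup 2 f.ker) (hyp : Hyp (img f (restr (cls J') D))) : Cit.One (img f (restr (cls J') D)) where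
  hyp := hyp
  one := by
    haveI : Fact (Nat.Prime 2) := ⟨Nat.prime_two⟩
    rintro S hS K ⟨⟨K0, hK0, rfl⟩, hK2⟩ L ⟨⟨L0, hL0, rfl⟩, hL2⟩
    have hP : IsPGroup 2 (S.comap f) := hS.comap_of_ker_isPGroup f hf
    have hP' : IsPGroup 2 ((S.comap f).map D.subtype) := hP.map _
    have key : ∀ M0 : Subgroup D, M0 ∈ restr (cls J') D → ¬ 2 ∣ S.relIndex (M0.map f) →
        M0.map D.subtype ∈ OmS (cls J') ((S.comap f).map D.subtype) := by
      intro M0 h2 h3
      refine ⟨h2, ?_⟩
      rw [relIndex_map_map_of_injective _ _ D.subtype_injective, relIndex_comap]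
      exact h3
    by_contra hne
    have hne' : K0.map D.subtype ≠ L0.map D.subtype := fun h => hne (by
      rw [Subgroup.map_injective D.subtype_injective h])
    exact false_of_cm c h1 hK0 hL0 (map_subtype_le _) (map_subtype_le _)
      (cm_of_OmS hT hO h' hP' (key K0 hK0 hK2) (key L0 hL0 hL2) hne')

theorem false_of_C1 (h1173 : ∀ (G : Type u) [Group G] [Finite G], oddCore G = ⊥ → OneF.H1173 G)
    (hT : TStmt.{u}) (hO : pPrimeCore 2 H = ⊥) (b : Bas x z J' J D) {p : ℕ}
    (c : Nodes.Chart.Chart (cls J') p D) (kind : Fintype.card c.I = 1) : False := by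
  haveI : Finite (D ⧸ center D) := Finite.of_surjective _ (QuotientGroup.mk'_surjective _)
  have hOm := b.cl.hyp' hT hO
  have hr := hOm.restr D
  set f : D →* D ⧸ center D := QuotientGroup.mk' (center D) with hf
  have hfs : Function.Surjective f := QuotientGroup.mk'_surjective _
  have hker : f.ker = center D := QuotientGroup.ker_mk' _
  have hinf : ∀ J ∈ restr (cls J') D, J ⊓ f.ker = ⊥ := by
    intro J hJ
    rw [hker, eq_bot_iff]
    rintro x ⟨hxJ, hxc⟩
    rw [mem_bot]
    by_contra hx1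
    obtain ⟨k, hk⟩ := b.two ⟨x, hxc⟩
    have h1 := CTEnd.zz_mem_zpowers hr hJ hxJ hx1 (k := k) (congrArg Subtype.val hk)
    have h2 : zz J ∈ center D := (zpowers_le.2 hxc) h1
    have h3 := CoresH.zz_notMem_center hOm b.qs (mem_restr.1 hJ) (map_subtype_le J) b.notMem
    apply h3
    have h4 : (⟨zz (J.map D.subtype), (map_subtype_le J) (hOm.zz_mem (mem_restr.1 hJ))⟩ : D) = zz J :=
      Subtype.ext (zz_map hOm hJ).symm
    rw [h4]
    exact h2
  have hi := QuoCen.hyp_img_central hr hfs (by rw [hker]) hinf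
  have hone := one_img hT hO b.cl c kind f (by rw [hker]; exact b.two) hi
  have hty : ∀ K ∈ img f (restr (cls J') D), IsType K := by
    rintro _ ⟨K0, hK0, rfl⟩
    obtain ⟨y, hy⟩ := cl_of_mem b.cl hK0
    have h1 : IsType K0 := CTEnd.isType_of_equiv
      (K0.equivMapOfInjective D.subtype D.subtype_injective).symm (isType_of_pr hy.pr)
    exact CTEnd.isType_of_equiv (QuoCen.equivMap (hinf _ hK0)) h1
  have hK' : J'.subgroupOf D ∈ restr (cls J') D := subgroupOf_mem_restr (self_mem_cls _) b.le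
  have hm : (J'.subgroupOf D).map f ∈ img f (restr (cls J') D) := ⟨_, hK', rfl⟩
  have hxD : x ∈ D := b.le b.cl.pr.mem
  have hzz : zz ((J'.subgroupOf D).map f) = f ⟨x, hxD⟩ := by
    rw [QuoCen.zz_map_of_inf hr hK' (hinf _ hK')]
    congr 1
    apply Subtype.ext
    rw [zz_map hOm hK', map_subgroupOf_eq_of_le b.le, b.cl.zz_eq hT hO]
  have hcen : ∀ v : D, f v = 1 → ∀ d ∈ D, d * (v : H) = v * d := by
    intro v h1 d hd
    have h2 : v ∈ center D := (QuotientGroup.eq_one_iff _).1 h1
    exact congrArg Subtype.val (mem_center_iff.1 h2 ⟨d, hd⟩)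
  obtain ⟨a, haJ, e, heJ, haz, hez, hae⟩ := b.pr.t3.ex4
  have haD := b.mem a haJ haz
  have heD := b.mem e heJ hez
  have hxa : a * x = x * a := b.comm a haJ x b.cl.pr.mem
  have hxe : e * x = x * e := b.comm e heJ x b.cl.pr.mem
  set a' : D := ⟨a, haD⟩ with ha'
  set e' : D := ⟨e, heD⟩ with he'
  set x' : D := ⟨x, hxD⟩ with hx'
  have hsq := mk_sq haD haz b.cen
  have hsqe := mk_sq heD hez b.cen
  have haeQ : a * e ∈ QQ J z := mul_mem (mem_QQ haJ haz) (mem_QQ heJ hez)
  have hza : a * z = z * a := b.cen a haD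
  have hze : e * z = z * e := b.cen e heD
  have hsq2 : (a * e) * (a * e) = z := by
    rcases QQ_cases b.pr haeQ with h1 | h1 | h1
    · exact h1
    · exfalso
      apply hae
      have h2 : e = a⁻¹ := eq_inv_of_mul_eq_one_right h1
      rw [h2, mul_inv_cancel, inv_mul_cancel]
    · exfalso
      apply hae
      have h2 : e = a⁻¹ * z := by rw [← h1]; group
      rw [h2, mul_inv_cancel_left, mul_assoc, ← hza]; group
  have hcomm : f a' * f e' = f e' * f a' := by
    have h1 : (f a' * f e') * (f a' * f e') = 1 := by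
      have h2 := mk_sq (mul_mem haD heD) hsq2 b.cen
      have h3 : (⟨a * e, mul_mem haD heD⟩ : D) = a' * e' := rfl
      rw [h3, map_mul] at h2
      exact h2
    have h2 : f a' * f a' = 1 := hsq
    have h3 : f e' * f e' = 1 := hsqe
    calc f a' * f e' = (f a' * f e') * ((f a' * f e') * (f a' * f e'))⁻¹ * (f a' * f a') * (f e' * f e') := by
          rw [h1, h2, h3]; group
      _ = (f a' * f e')⁻¹ * (f a' * f a') * (f e' * f e') := by group
      _ = (f e')⁻¹ * f a' * (f e' * f e') := by group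
      _ = f e' * ((f e' * f e')⁻¹) * f a' * (f e' * f e') := by group
      _ = f e' * f a' := by rw [h3]; group
  refine false_of_one (h1173 _) b.qs.2 hone hty hm (a := f a') (b := f e') hsq hsqe hcomm ?_ ?_ ?_ ?_ ?_ ?_ ?_ ?_
  · intro h1
    exact hae (hcen _ h1 e heD).symm
  · intro h1
    exact hae (hcen _ h1 a haD)
  · intro h1
    have h2 : f (a' * e'⁻¹) = 1 := by rw [map_mul, map_inv, h1, mul_inv_cancel]
    have h3 : e * (a * e⁻¹) = a * e⁻¹ * e := hcen _ h2 e heD
    apply hae
    calc a * e = (a * e⁻¹ * e) * e := by group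
      _ = (e * (a * e⁻¹)) * e := by rw [h3]
      _ = e * a := by group
  · intro h1
    rw [hzz] at h1
    have h2 : f (a' * x'⁻¹) = 1 := by rw [map_mul, map_inv, h1, mul_inv_cancel]
    have h3 : e * (a * x⁻¹) = a * x⁻¹ * e := hcen _ h2 e heD
    apply hae
    have h4 : x⁻¹ * e = e * x⁻¹ := (show Commute e x from hxe).symm.inv_left.eq
    have h5 : a * e * x⁻¹ = e * a * x⁻¹ := by
      rw [mul_assoc, ← h4, ← mul_assoc, ← h3, ← mul_assoc]
    exact mul_right_cancel h5
  · intro h1
    rw [hzz] at h1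
    have h2 : f (e' * x'⁻¹) = 1 := by rw [map_mul, map_inv, h1, mul_inv_cancel]
    have h3 : a * (e * x⁻¹) = e * x⁻¹ * a := hcen _ h2 a haD
    apply hae
    have h4 : x⁻¹ * a = a * x⁻¹ := (show Commute a x from hxa).symm.inv_left.eq
    have h5 : a * e * x⁻¹ = e * a * x⁻¹ := by
      rw [mul_assoc, h3, mul_assoc, h4, ← mul_assoc]
    exact mul_right_cancel h5
  · intro h1
    rw [hzz, ← map_mul] at h1
    have h2 : f (a' * e' * x'⁻¹) = 1 := by rw [map_mul, map_inv, h1, mul_inv_cancel]
    have h3 : a * (a * e * x⁻¹) = a * e * x⁻¹ * a := hcen _ h2 a haD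
    apply hae
    have h4 : x⁻¹ * a = a * x⁻¹ := (show Commute a x from hxa).symm.inv_left.eq
    have h5 : a * (a * e) * x⁻¹ = a * (e * a) * x⁻¹ := by
      rw [mul_assoc, h3, mul_assoc, h4]; group
    exact mul_left_cancel (mul_right_cancel h5)
  · rintro _ ⟨k, hk, rfl⟩
    rw [← map_mul, ← map_mul]
    congr 1
    exact Subtype.ext (b.comm a haJ k (mem_subgroupOf.1 hk))
  · rintro _ ⟨k, hk, rfl⟩
    rw [← map_mul, ← map_mul]
    congr 1
    exact Subtype.ext (b.comm e heJ k (mem_subgroupOf.1 hk))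

end pieces

end Cfsg.Agent.OddHalf.NI3.FThree

end

-- merged: Cfsg.Agent.OddHalf.NI3.FThree.C3Small
section

/-!
# (F2'₃): the small pieces do not occur

`smallFalse_of` : `SmallFalse`, from THEOREM T and S1173 (a hypothesis here: only the last file of the assembly cites
S1173 itself).
-/

set_option autoImplicit false
set_option linter.unusedSectionVars false
set_option linter.dupNamespace false

namespace Cfsg.Agent.OddHalf.NI3.FThree

open Subgroup Cfsg
open Cfsg.Agent.Cit (pc cls self_mem_cls TStmt)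

universe u

theorem Sit3.bas {H : Type u} [Group H] [Finite H] {x j : H} {J' J : Subgroup H} (S : Sit3 x j J' J) :
    Bas x j J' J (pc (cls J') J') where
  cl := S.cl
  le := Cit.le_pc
  qs := S.comp.2
  two := S.two
  pr := S.pr
  mem := fun _ hy hyj => S.ge (mem_QQ hy hyj)
  cen := fun d _ => S.jc d
  comm := fun a ha k hk => (mem_centralizer_iff.1 (S.cm ha) k hk).symm

/-- **the small pieces do not occur in (F2'₃)** -/
theorem smallFalse_of (h1173 : ∀ (G : Type u) [Group G] [Finite G], oddCore G = ⊥ → Cit.OneF.H1173 G)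
    (hT : TStmt.{u}) : SmallFalse.{u} := by
  intro H _ _ x j J' J S hp
  rcases hp with ⟨nmem, p, c, kind, small, sl⟩ | ⟨p, prime, odd, iso, ne, zzc, three⟩ | ⟨iso, ne, mem⟩
  · exact false_of_C1 h1173 hT S.core S.bas c kind.card
  · exact false_of_exc hT S.core S.bas prime odd iso
  · exact false_of_mathieu hT S.core S.bas iso

end Cfsg.Agent.OddHalf.NI3.FThree

end
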